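import Cfsg.Agent.SolvSig.Two

/-!
# The solvable signalizer functor theorem

* `isSolvable_signalizerClosure` : the closure of a solvable `A`-signalizer functor, `A` elementary
  abelian of order at least `p ^ 3`, is a solvable `p'`-group.
* `isComplete_of_isSolvableSignalizerFunctor` : such a functor is complete.
-/

set_option autoImplicit false

open scoped commutatorElement

namespace CfsgLib.SolvSig

open Subgroup CfsgLib.Transitivity

universe u

variable {p : ℕ} [Fact p.Prime]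

section Reduction

variable {G : Type u} [Group G] [Finite G] {A : Subgroup G} {θ : G → Subgroup G}

/-- The largest member inside a subgroup containing `A`, from the theorem in that subgroup. -/
theorem exists_member_in (hA : Cfsg.IsElementaryAbelian p A) (hA3 : p ^ 3 ≤ Nat.card A)
    (hθ : Cfsg.IsSolvableSignalizerFunctor p A θ) {H : Subgroup G} (hAH : A ≤ H)
    (hgood : ∀ θ' : H → Subgroup H, Cfsg.IsSolvableSignalizerFunctor p (A.subgroupOf H) θ' →
      Good p (A.subgroupOf H) θ') :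
    ∃ W ∈ Cfsg.signalizerFamily p A θ, W ≤ H ∧
      ∀ U ∈ Cfsg.signalizerFamily p A θ, U ≤ H → U ≤ W := by
  let θ' : H → Subgroup H := fun x => (θ (x : G)).subgroupOf H
  have ne : ∀ {a : H}, a ≠ 1 → (a : G) ≠ 1 := fun h h' => h (Subtype.ext h')
  have hA' : Cfsg.IsElementaryAbelian p (A.subgroupOf H) :=
    ⟨⟨⟨fun a c => Subtype.ext (Subtype.ext (congrArg Subtype.val
      (hA.1.is_comm.comm (⟨_, a.2⟩ : A) ⟨_, c.2⟩) :))⟩⟩,
      fun a ha => Subtype.ext (hA.2 a ha)⟩
  have hcardA : Nat.card (A.subgroupOf H) = Nat.card A :=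
    Nat.card_congr (subgroupOfEquivOfLe hAH).toEquiv
  have hcard : ∀ x : G, Nat.card ((θ x).subgroupOf H) ∣ Nat.card (θ x) := fun x => by
    rw [← card_map_of_injective (K := (θ x).subgroupOf H) H.subtype_injective,
      subgroupOf_map_subtype]
    exact card_dvd_of_le inf_le_left
  have hθ' : Cfsg.IsSolvableSignalizerFunctor p (A.subgroupOf H) θ' := by
    refine ⟨⟨fun a ha ha1 z hz => mem_centralizer_singleton_iff.mpr (Subtype.ext
      (mem_centralizer_singleton_iff.mp (hθ.1.1 a ha (ne ha1) hz))),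
      fun a ha ha1 hd => hθ.1.2.1 a ha (ne ha1) (hd.trans (hcard a)),
      fun a ha ha1 c hc z hz => hθ.1.2.2.1 a ha (ne ha1) c hc z hz,
      fun a ha ha1 c hc hc1 z hz => hθ.1.2.2.2 a ha (ne ha1) c hc (ne hc1)
        ⟨hz.1, mem_centralizer_singleton_iff.mpr
          (congrArg Subtype.val (mem_centralizer_singleton_iff.mp hz.2))⟩⟩, fun a ha ha1 => ?_⟩
    have : Group.IsSolvable ↥(θ (a : G)) := hθ.2 a ha (ne ha1)
    exact Group.isSolvable_of_isSolvable_injective
      (f := ((H.subtype.comp ((θ (a : G)).subgroupOf H).subtype).codRestrict (θ (a : G)) fun z => z.2))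
      fun z w e => Subtype.ext (Subtype.ext (congrArg Subtype.val e :))
  obtain ⟨hs, hp⟩ := hgood θ' hθ'
  set K := Cfsg.signalizerClosure (A.subgroupOf H) θ'
  have hC := closure_inf_centralizer_le hA' (hcardA ▸ hA3) hθ'.1 hs hp
  have hAK : ∀ b ∈ A, ∀ u ∈ K.map H.subtype, b * u * b⁻¹ ∈ K.map H.subtype := by
    rintro b hb _ ⟨u, hu, rfl⟩
    exact ⟨⟨b, hAH hb⟩ * u * ⟨b, hAH hb⟩⁻¹,
      (mem_normalizer_iff.mp (closure_le_normalizer hθ'.1 (show (⟨b, hAH hb⟩ : H) ∈ A.subgroupOf H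
        from hb)) u).mp hu, rfl⟩
  refine ⟨K.map H.subtype, ⟨Components.isSolvable_map _ hs, ?_, hAK, ?_⟩, map_subtype_le _, ?_⟩
  · rwa [card_map_of_injective H.subtype_injective]
  · rintro a ha ha1 _ ⟨⟨u, hu, rfl⟩, hua⟩
    exact hC ⟨a, hAH ha⟩ ha (fun e => ha1 (congrArg Subtype.val e))
      ⟨hu, mem_centralizer_singleton_iff.mpr (Subtype.ext (mem_centralizer_singleton_iff.mp hua))⟩
  · intro U hU hUH
    have := hA.1
    refine Coprime.le_of_forall_inf_centralizer_le (not_isCyclic_of_elab hA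
      ((Nat.pow_le_pow_right (Fact.out : p.Prime).pos (by norm_num)).trans hA3))
      (family_le_normalizer hU) (coprime_card_of_elab hA hU.2.1) fun a ha ha1 x hx => ?_
    exact ⟨⟨x, hUH hx.1⟩, le_signalizerClosure (θ := θ') (a := ⟨a, hAH ha⟩)
      (show (⟨a, hAH ha⟩ : H) ∈ A.subgroupOf H from ha) (fun e => ha1 (congrArg Subtype.val e))
      (show x ∈ θ a from hU.2.2.2 a ha ha1 hx), rfl⟩

/-- The theorem passes from `G/N` to `G`, `N` a normal solvable `p'`-subgroup. -/
theorem good_of_quotient (hA : Cfsg.IsElementaryAbelian p A)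
    (hθ : Cfsg.IsSolvableSignalizerFunctor p A θ) {N : Subgroup G} [N.Normal]
    (hNs : Group.IsSolvable ↥N) (hpN : ¬ p ∣ Nat.card N)
    (hgood : ∀ θ' : G ⧸ N → Subgroup (G ⧸ N),
      Cfsg.IsSolvableSignalizerFunctor p (A.map (QuotientGroup.mk' N)) θ' →
      Good p (A.map (QuotientGroup.mk' N)) θ') : Good p A θ := by
  set π := QuotientGroup.mk' N
  set L := Cfsg.signalizerClosure A θ
  have hinj : ∀ a ∈ A, ∀ c ∈ A, π a = π c → a = c := fun a ha c hc =>
    eq_of_mk'_eq hA hpN ha hc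
  have hne : ∀ a ∈ A, a ≠ 1 → π a ≠ 1 := fun a ha ha1 h =>
    ha1 (hinj a ha 1 (one_mem A) (h.trans (map_one π).symm))
  let θb : G ⧸ N → Subgroup (G ⧸ N) := fun x =>
    ⨆ a : {a : G // a ∈ A ∧ a ≠ 1 ∧ π a = x}, (θ (a : G)).map π
  have hθb : ∀ a ∈ A, a ≠ 1 → θb (π a) = (θ a).map π := by
    intro a ha ha1
    refine le_antisymm (iSup_le fun c => ?_)
      (le_iSup (fun c : {c : G // c ∈ A ∧ c ≠ 1 ∧ π c = π a} => (θ (c : G)).map π)
        ⟨a, ha, ha1, rfl⟩)
    rw [hinj c c.2.1 a ha c.2.2.2]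
  have hne' : ∀ {a : G}, π a ≠ 1 → a ≠ 1 := fun h h' => h (h' ▸ map_one π)
  have hθ' : Cfsg.IsSolvableSignalizerFunctor p (A.map π) θb := by
    refine ⟨⟨?_, ?_, ?_, ?_⟩, ?_⟩
    · rintro _ ⟨a, ha, rfl⟩ ha1
      rw [hθb a ha (hne' ha1)]
      rintro _ ⟨z, hz, rfl⟩
      rw [mem_centralizer_singleton_iff, ← map_mul, ← map_mul,
        mem_centralizer_singleton_iff.mp (hθ.1.1 a ha (hne' ha1) hz)]
    · rintro _ ⟨a, ha, rfl⟩ ha1
      rw [hθb a ha (hne' ha1)]
      exact fun h => hθ.1.2.1 a ha (hne' ha1) (h.trans (card_map_dvd _ _))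
    · rintro _ ⟨a, ha, rfl⟩ ha1 _ ⟨c, hc, rfl⟩
      rw [hθb a ha (hne' ha1)]
      rintro _ ⟨z, hz, rfl⟩
      exact ⟨_, hθ.1.2.2.1 a ha (hne' ha1) c hc z hz, by simp⟩
    · rintro _ ⟨a, ha, rfl⟩ ha1 _ ⟨c, hc, rfl⟩ hc1
      rw [hθb a ha (hne' ha1), hθb c hc (hne' hc1)]
      exact map_le_theta_map hA hθ.1 π ha (hne' ha1) hc (hne' hc1)
    · rintro _ ⟨a, ha, rfl⟩ ha1
      rw [hθb a ha (hne' ha1)]
      exact Components.isSolvable_map π (hθ.2 a ha (hne' ha1))
  obtain ⟨hs, hp⟩ := hgood θb hθ'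
  have hle : L.map π ≤ Cfsg.signalizerClosure (A.map π) θb := by
    simp only [L, Cfsg.signalizerClosure, Subgroup.map_iSup]
    refine iSup_le fun a => ?_
    rw [← hθb a a.2.1 a.2.2]
    exact le_signalizerClosure (mem_map_of_mem π a.2.1) (hne a a.2.1 a.2.2)
  have hLN : Group.IsSolvable ↥(L ⊓ N) := Components.isSolvable_mono hNs inf_le_right
  have hLs : Group.IsSolvable ↥(L.map π) := Components.isSolvable_mono hs hle
  refine ⟨Group.isSolvable_of_ker_le_range (inclusion (inf_le_left : L ⊓ N ≤ L)) (π.subgroupMap L) ?_, ?_⟩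
  · intro x hx
    exact ⟨⟨x, x.2, (QuotientGroup.eq_one_iff (x : G)).mp (congrArg Subtype.val hx)⟩, rfl⟩
  · intro hd
    have hker : (π.subgroupMap L).ker = N.subgroupOf L := by
      ext x
      rw [MonoidHom.mem_ker, mem_subgroupOf, ← QuotientGroup.eq_one_iff (N := N) (x : G)]
      exact Subtype.ext_iff
    have hcard := card_eq_card_quotient_mul_card_subgroup (N.subgroupOf L)
    rw [← Nat.card_congr ((QuotientGroup.quotientMulEquivOfEq hker).symm.trans
      (QuotientGroup.quotientKerEquivOfSurjective _ (π.subgroupMap_surjective L))).symm.toEquiv]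
      at hcard
    rw [hcard] at hd
    rcases (Nat.Prime.dvd_mul Fact.out).mp hd with h1 | h1
    · exact hp (h1.trans (card_dvd_of_le hle))
    · refine hpN (h1.trans ?_)
      rw [← card_map_of_injective (K := N.subgroupOf L) L.subtype_injective, subgroupOf_map_subtype]
      exact card_dvd_of_le inf_le_left

end Reduction

/-- The theorem for `A` of order `p ^ 3`, by induction on `|G|` and the orders of the `θ a`. -/
theorem good_of_card_eq (n : ℕ) : ∀ (G : Type u) [Group G] [Finite G] (A : Subgroup G)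
    (θ : G → Subgroup G), Nat.card G = n → Cfsg.IsElementaryAbelian p A → Nat.card A = p ^ 3 →
    Cfsg.IsSolvableSignalizerFunctor p A θ → Good p A θ := by
  induction n using Nat.strongRecOn with
  | ind n ih =>
  intro G _ _ A θ hn hA hA3 hθ
  classical
  set S : Finset G := (Set.toFinite {a : G | a ∈ A ∧ a ≠ 1}).toFinset with hS
  induction hm : ∑ a ∈ S, Nat.card (θ a) using Nat.strongRecOn generalizing θ with
  | ind m ihm =>
  by_contra hngood
  have hsub : ∀ {H : Subgroup G}, H ≠ ⊤ → ∀ θ' : H → Subgroup H, A ≤ H →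
      Cfsg.IsSolvableSignalizerFunctor p (A.subgroupOf H) θ' → Good p (A.subgroupOf H) θ' := by
    intro H hH θ' hAH hθ'
    refine ih (Nat.card H) (hn ▸ lt_of_le_of_ne (card_le_card_group H) fun e =>
      hH ((card_eq_iff_eq_top H).mp e)) H (A.subgroupOf H) θ' rfl ?_ ?_ hθ'
    · exact ⟨⟨⟨fun a c => Subtype.ext (Subtype.ext (congrArg Subtype.val
        (hA.1.is_comm.comm (⟨_, a.2⟩ : A) ⟨_, c.2⟩) :))⟩⟩,
        fun a ha => Subtype.ext (hA.2 a ha)⟩
    · rw [Nat.card_congr (subgroupOfEquivOfLe hAH).toEquiv, hA3]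
  have htop : Cfsg.signalizerClosure A θ ⊔ A = ⊤ := by
    by_contra hne
    obtain ⟨W, hW, -, hall⟩ := exists_member_in hA hA3.ge hθ le_sup_right
      (fun θ' hθ' => hsub hne θ' le_sup_right hθ')
    have hle : Cfsg.signalizerClosure A θ ≤ W := iSup_le fun a =>
      hall _ (mem_family_theta hθ a.2.1 a.2.2)
        ((le_signalizerClosure a.2.1 a.2.2).trans le_sup_left)
    exact hngood ⟨Components.isSolvable_mono hW.1 hle,
      fun hd => hW.2.1 (hd.trans (card_dvd_of_le hle))⟩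
  refine MinCE.false (p := p) (A := A) (θ := θ) ⟨hA, hA3, hθ, htop, ?_, ?_, ?_, hngood⟩
  · intro N hN hNs hpN
    by_contra hne
    refine hngood (good_of_quotient hA hθ hNs hpN fun θ' hθ' => ?_)
    refine ih (Nat.card (G ⧸ N)) ?_ (G ⧸ N) _ θ' rfl (isElementaryAbelian_map hA _)
      ((card_map_mk' hA hpN).trans hA3) hθ'
    rw [← hn, card_eq_card_quotient_mul_card_subgroup N]
    exact lt_mul_of_one_lt_right Nat.card_pos ((one_lt_card_iff_ne_bot N).mpr hne)
  · exact fun H hH hAH => exists_member_in hA hA3.ge hθ hAH (fun θ' hθ' => hsub hH θ' hAH hθ')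
  · rintro θ' hθ' hle ⟨a, ha, ha1, hne⟩
    refine ihm _ (hm ▸ Finset.sum_lt_sum (fun b hb => ?_) ⟨a, ?_, ?_⟩) θ' hθ' rfl
    · rw [hS, Set.Finite.mem_toFinset] at hb
      exact Nat.le_of_dvd Nat.card_pos (card_dvd_of_le (hle b hb.1 hb.2))
    · rw [hS, Set.Finite.mem_toFinset]
      exact ⟨ha, ha1⟩
    · exact lt_of_le_of_ne (Nat.le_of_dvd Nat.card_pos (card_dvd_of_le (hle a ha ha1)))
        fun e => hne (eq_of_le_of_card_ge (hle a ha ha1) e.ge)

variable {G : Type u} [Group G] [Finite G] {A : Subgroup G} {θ : G → Subgroup G}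

/-- **The solvable signalizer functor theorem**: the closure is a solvable `p'`-group. -/
theorem isSolvable_signalizerClosure (hA : Cfsg.IsElementaryAbelian p A)
    (hA3 : p ^ 3 ≤ Nat.card A) (hθ : Cfsg.IsSolvableSignalizerFunctor p A θ) :
    Group.IsSolvable ↥(Cfsg.signalizerClosure A θ) ∧
      ¬ p ∣ Nat.card ↥(Cfsg.signalizerClosure A θ) := by
  obtain ⟨E, hEA, hE⟩ := exists_le_card_eq hA le_rfl hA3
  have hEe : Cfsg.IsElementaryAbelian p E := elab_of_le_of_elab hA hEA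
  obtain ⟨hs, hp⟩ := good_of_card_eq (Nat.card G) G E θ rfl hEe hE
    ⟨⟨fun a ha => hθ.1.1 a (hEA ha), fun a ha => hθ.1.2.1 a (hEA ha),
      fun a ha ha1 b hb => hθ.1.2.2.1 a (hEA ha) ha1 b (hEA hb),
      fun a ha ha1 b hb => hθ.1.2.2.2 a (hEA ha) ha1 b (hEA hb)⟩,
      fun a ha => hθ.2 a (hEA ha)⟩
  have hle : Cfsg.signalizerClosure A θ ≤ Cfsg.signalizerClosure E θ := by
    refine iSup_le fun a => ?_
    have := hEe.1
    refine Coprime.le_of_forall_inf_centralizer_le (not_isCyclic_of_elab hEe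
      (hE ▸ Nat.pow_le_pow_right (Fact.out : p.Prime).pos (by norm_num)))
      (hEA.trans (le_normalizer_of_forall_conj (hθ.1.2.2.1 a a.2.1 a.2.2)))
      (coprime_card_of_elab hEe (hθ.1.2.1 a a.2.1 a.2.2)) fun e he he1 => ?_
    exact (hθ.1.2.2.2 a a.2.1 a.2.2 e (hEA he) he1).trans (le_signalizerClosure he he1)
  exact ⟨Components.isSolvable_mono hs hle, fun hd => hp (hd.trans (card_dvd_of_le hle))⟩

/-- A solvable signalizer functor of rank at least three is complete. -/
theorem isComplete_of_isSolvableSignalizerFunctor (hA : Cfsg.IsElementaryAbelian p A)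
    (hA3 : p ^ 3 ≤ Nat.card A) (hθ : Cfsg.IsSolvableSignalizerFunctor p A θ) :
    Cfsg.IsCompleteSignalizerFunctor p A θ :=
  isComplete_of_isSolvable_closure hA hA3 hθ.1 (isSolvable_signalizerClosure hA hA3 hθ).1
    (isSolvable_signalizerClosure hA hA3 hθ).2

/-- The values are the fixed points in the closure. -/
theorem closure_inf_centralizer_eq (hA : Cfsg.IsElementaryAbelian p A)
    (hA3 : p ^ 3 ≤ Nat.card A) (hθ : Cfsg.IsSolvableSignalizerFunctor p A θ) {a : G} (ha : a ∈ A)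
    (ha1 : a ≠ 1) : Cfsg.signalizerClosure A θ ⊓ centralizer ({a} : Set G) = θ a :=
  le_antisymm (closure_inf_centralizer_le hA hA3 hθ.1 (isSolvable_signalizerClosure hA hA3 hθ).1
    (isSolvable_signalizerClosure hA hA3 hθ).2 a ha ha1)
    (le_inf (le_signalizerClosure ha ha1) (hθ.1.1 a ha ha1))

end CfsgLib.SolvSig
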