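import Cfsg.Agent.SolvSig.Theorem
import Cfsg.Prelude.Def_CaseTheorems

/-!
# Equivariant solvable signalizer functors over a connected rank graph

* `equivariant_eq_bot` : if `O_{p'}(G) = 1` and the reduced rank-2 commuting graph is connected, an
  equivariant balanced family of solvable `p'`-subgroups of centralisers is trivial.
-/

set_option autoImplicit false

namespace CfsgLib.SolvSig

open Subgroup CfsgLib.Transitivity

variable {G : Type*} [Group G] {p : ℕ} [Fact p.Prime]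

/-- `a` has order `p` and centralizer of `p`-rank at least three. -/
def RankThreePoint (p : ℕ) (a : G) : Prop :=
  orderOf a = p ∧ ¬ Cfsg.PRankLE p 2 ↥(centralizer ({a} : Set G))

omit [Fact p.Prime] in
theorem not_pRankLE_mono {H K : Subgroup G} (h : H ≤ K) (hH : ¬ Cfsg.PRankLE p 2 ↥H) :
    ¬ Cfsg.PRankLE p 2 ↥K := by
  intro hK
  refine hH fun A hA hexp => ?_
  have hcard : Nat.card (A.map (inclusion h)) = Nat.card A :=
    card_map_of_injective (inclusion_injective h)
  rw [← hcard]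
  refine hK _ inferInstance ?_
  rintro _ ⟨a, ha, rfl⟩
  rw [← map_pow, hexp a ha, map_one]

omit [Fact p.Prime] in
theorem not_pRankLE_iff {H : Subgroup G} : ¬ Cfsg.PRankLE p 2 ↥H ↔
    ∃ A ≤ H, Cfsg.IsElementaryAbelian p A ∧ p ^ 2 < Nat.card A := by
  constructor
  · intro h
    unfold Cfsg.PRankLE at h
    push Not at h
    obtain ⟨A, hA, hexp, hlt⟩ := h
    refine ⟨A.map H.subtype, map_subtype_le _, ⟨inferInstance, ?_⟩,
      by rwa [card_map_of_injective H.subtype_injective]⟩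
    rintro _ ⟨a, ha, rfl⟩
    rw [← map_pow, hexp a ha, map_one]
  · rintro ⟨A, hAH, hA, hlt⟩ h
    have := h (A.subgroupOf H) ⟨⟨fun x y => Subtype.ext (Subtype.ext (congrArg Subtype.val
      (hA.1.is_comm.comm (⟨_, x.2⟩ : A) ⟨_, y.2⟩) :))⟩⟩ fun a ha => Subtype.ext (hA.2 a ha)
    rw [Nat.card_congr (subgroupOfEquivOfLe hAH).toEquiv] at this
    exact absurd hlt this.not_gt

variable [Finite G]

theorem pow_succ_le_card {A : Subgroup G} (hA : Cfsg.IsElementaryAbelian p A) {k : ℕ}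
    (h : p ^ k < Nat.card A) : p ^ (k + 1) ≤ Nat.card A := by
  obtain ⟨n, hn⟩ := (isPGroup_of_elab hA).exists_card_eq
  rw [hn] at h ⊢
  exact Nat.pow_le_pow_right (Fact.out : p.Prime).pos
    ((Nat.pow_lt_pow_iff_right (Fact.out : p.Prime).one_lt).mp h)

/-- Two commuting elementary abelian subgroups generate one. -/
theorem isElementaryAbelian_sup {A B : Subgroup G} (hA : Cfsg.IsElementaryAbelian p A)
    (hB : Cfsg.IsElementaryAbelian p B) (hc : B ≤ centralizer (A : Set G)) :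
    Cfsg.IsElementaryAbelian p (A ⊔ B : Subgroup G) := by
  refine ⟨le_centralizer_iff_isMulCommutative.mp (sup_le ?_ ?_), fun x hx => ?_⟩
  · rw [le_centralizer_iff, sup_le_iff]
    exact ⟨le_centralizer_iff_isMulCommutative.mpr hA.1, hc⟩
  · rw [le_centralizer_iff, sup_le_iff]
    exact ⟨le_centralizer_iff.mp hc, le_centralizer_iff_isMulCommutative.mpr hB.1⟩
  · obtain ⟨a, ha, b, hb, rfl⟩ :=
      Coprime.exists_mul_of_mem_sup (hc.trans (centralizer_le_normalizer _)) hx
    have hab : Commute a b := mem_centralizer_iff.mp (hc hb) a ha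
    rw [hab.mul_pow, hA.2 a ha, hB.2 b hb, one_mul]

variable {θ : G → Subgroup G}
  (hC : ∀ a : G, RankThreePoint p a →
    θ a ≤ centralizer ({a} : Set G) ∧ ¬ p ∣ Nat.card ↥(θ a) ∧ Group.IsSolvable ↥(θ a))
  (heq : ∀ a g : G, RankThreePoint p a → θ (g * a * g⁻¹) = (θ a).map (MulAut.conj g).toMonoidHom)
  (hbal : ∀ a b : G, RankThreePoint p a → RankThreePoint p b → a * b = b * a →
    θ a ⊓ centralizer {b} ≤ θ b)

omit [Finite G] in
theorem rankThreePoint_of_mem {A E : Subgroup G} (hE : Cfsg.IsElementaryAbelian p E)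
    (hA : A ≤ centralizer (E : Set G)) (hA3 : ¬ Cfsg.PRankLE p 2 ↥A) {a : G} (ha : a ∈ E)
    (ha1 : a ≠ 1) : RankThreePoint p a :=
  ⟨orderOf_eq_prime (hE.2 a ha) ha1,
    not_pRankLE_mono (hA.trans (centralizer_le (Set.singleton_subset_iff.mpr ha))) hA3⟩

include hC heq hbal

omit [Finite G] in
theorem restrict_isSolvableSignalizerFunctor {A : Subgroup G} (hA : Cfsg.IsElementaryAbelian p A)
    (hA3 : ¬ Cfsg.PRankLE p 2 ↥A) : Cfsg.IsSolvableSignalizerFunctor p A θ := by
  have hAc : A ≤ centralizer (A : Set G) := le_centralizer_iff_isMulCommutative.mpr hA.1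
  have hpt : ∀ a ∈ A, a ≠ 1 → RankThreePoint p a := fun a ha ha1 =>
    rankThreePoint_of_mem hA hAc hA3 ha ha1
  refine ⟨⟨fun a ha ha1 => (hC a (hpt a ha ha1)).1, fun a ha ha1 => (hC a (hpt a ha ha1)).2.1,
    fun a ha ha1 b hb x hx => ?_, fun a ha ha1 b hb hb1 => hbal a b (hpt a ha ha1) (hpt b hb hb1)
      (mem_centralizer_iff.mp (hAc hb) a ha)⟩, fun a ha ha1 => (hC a (hpt a ha ha1)).2.2⟩
  have h := heq a b (hpt a ha ha1)
  rw [show b * a * b⁻¹ = a by
    rw [← mem_centralizer_iff.mp (hAc hb) a ha, mul_inv_cancel_right]] at h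
  exact h.ge ⟨x, hx, rfl⟩

/-- The closure over a vertex is the closure over any elementary abelian group containing it. -/
theorem closure_eq_of_le {E A : Subgroup G} (hA : Cfsg.IsElementaryAbelian p A)
    (hA3 : ¬ Cfsg.PRankLE p 2 ↥A) (hE2 : p ^ 2 ≤ Nat.card E) (hEA : E ≤ A) :
    Cfsg.signalizerClosure A θ = Cfsg.signalizerClosure E θ := by
  refine le_antisymm (iSup_le fun a => ?_)
    (iSup_le fun e => le_signalizerClosure (hEA e.2.1) e.2.2)
  have hθ := restrict_isSolvableSignalizerFunctor hC heq hbal hA hA3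
  have hEe := elab_of_le_of_elab hA hEA
  have := hEe.1
  refine Coprime.le_of_forall_inf_centralizer_le (not_isCyclic_of_elab hEe hE2)
    (hEA.trans (le_normalizer_of_forall_conj (hθ.1.2.2.1 a a.2.1 a.2.2)))
    (coprime_card_of_elab hEe (hθ.1.2.1 a a.2.1 a.2.2)) fun e he he1 => ?_
  exact (hθ.1.2.2.2 a a.2.1 a.2.2 e (hEA he) he1).trans (le_signalizerClosure he he1)

theorem closure_solvable {E : Subgroup G} (hE : Cfsg.IsRankGraphVertex p 2 E) :
    Group.IsSolvable ↥(Cfsg.signalizerClosure E θ) ∧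
      ¬ p ∣ Nat.card ↥(Cfsg.signalizerClosure E θ) := by
  obtain ⟨A₀, hA₀C, hA₀, hlt⟩ := not_pRankLE_iff.mp hE.2.2
  have hA := isElementaryAbelian_sup hE.1 hA₀ hA₀C
  have hA3 : ¬ Cfsg.PRankLE p 2 ↥(E ⊔ A₀) :=
    not_pRankLE_mono le_sup_right (not_pRankLE_iff.mpr ⟨A₀, le_rfl, hA₀, hlt⟩)
  rw [← closure_eq_of_le hC heq hbal hA hA3 hE.2.1 le_sup_left]
  refine isSolvable_signalizerClosure hA (pow_succ_le_card hA (hlt.trans_le ?_))
    (restrict_isSolvableSignalizerFunctor hC heq hbal hA hA3)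
  exact Nat.le_of_dvd Nat.card_pos (card_dvd_of_le le_sup_right)

theorem closure_eq_of_adj {E E' : Subgroup G} (hE : Cfsg.IsRankGraphVertex p 2 E)
    (hE' : Cfsg.IsRankGraphVertex p 2 E') (hc : ∀ a ∈ E, ∀ b ∈ E', a * b = b * a) :
    Cfsg.signalizerClosure E θ = Cfsg.signalizerClosure E' θ := by
  have hA := isElementaryAbelian_sup hE.1 hE'.1 fun b hb =>
    mem_centralizer_iff.mpr fun a ha => hc a ha b hb
  by_cases hlt : p ^ 2 < Nat.card ↥(E ⊔ E')
  · have hA3 : ¬ Cfsg.PRankLE p 2 ↥(E ⊔ E') := not_pRankLE_iff.mpr ⟨_, le_rfl, hA, hlt⟩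
    rw [← closure_eq_of_le hC heq hbal hA hA3 hE.2.1 le_sup_left,
      closure_eq_of_le hC heq hbal hA hA3 hE'.2.1 le_sup_right]
  · rw [not_lt] at hlt
    rw [eq_of_le_of_card_ge (le_sup_left : E ≤ E ⊔ E') (hlt.trans hE.2.1),
      ← eq_of_le_of_card_ge (le_sup_right : E' ≤ E ⊔ E') (hlt.trans hE'.2.1)]

/-- An equivariant balanced solvable family over a connected graph is trivial. -/
theorem equivariant_eq_bot (hO : Cfsg.pPrimeCore p G = ⊥)
    (hconn : Cfsg.IsRankGraphConnected p 2 G) {a : G} (ha : RankThreePoint p a) : θ a = ⊥ := by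
  obtain ⟨A₀, hA₀C, hA₀, hlt⟩ := not_pRankLE_iff.mp ha.2
  have hz : Cfsg.IsElementaryAbelian p (zpowers a) := by
    refine ⟨inferInstance, fun x hx => ?_⟩
    obtain ⟨k, rfl⟩ := mem_zpowers_iff.mp hx
    rw [← zpow_natCast (a ^ k), ← zpow_mul, mul_comm, zpow_mul, zpow_natCast, ← ha.1,
      pow_orderOf_eq_one, one_zpow]
  have hA := isElementaryAbelian_sup hz hA₀ (hA₀C.trans (centralizer_singleton_eq a).le)
  set E := zpowers a ⊔ A₀
  have hlt' : p ^ 2 < Nat.card E :=
    hlt.trans_le (Nat.le_of_dvd Nat.card_pos (card_dvd_of_le le_sup_right))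
  have hA3 : ¬ Cfsg.PRankLE p 2 ↥E := not_pRankLE_iff.mpr ⟨_, le_rfl, hA, hlt'⟩
  have hv : Cfsg.IsRankGraphVertex p 2 E :=
    ⟨hA, hlt'.le, not_pRankLE_mono (le_centralizer_iff_isMulCommutative.mpr hA.1) hA3⟩
  set W := Cfsg.signalizerClosure E θ with hW
  have hWeq : ∀ F, Cfsg.IsRankGraphVertex p 2 F → Cfsg.signalizerClosure F θ = W := by
    intro F hF
    have h := hconn E F hv hF
    induction h with
    | refl => rfl
    | tail _ hstep ih =>
      rw [← closure_eq_of_adj hC heq hbal hstep.1 hstep.2.1 hstep.2.2]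
      exact ih hstep.1
  have hWn : W.Normal := by
    refine normalizer_eq_top_iff.mp (top_unique fun g _ => ?_)
    let F := E.map (MulAut.conj g).toMonoidHom
    have hF : Cfsg.IsRankGraphVertex p 2 F := by
      have hFe : Cfsg.IsElementaryAbelian p F := isElementaryAbelian_map hA _
      have hcard : Nat.card F = Nat.card E := card_map_of_injective (MulAut.conj g).injective
      exact ⟨hFe, hcard ▸ hlt'.le, not_pRankLE_mono
        (le_centralizer_iff_isMulCommutative.mpr hFe.1)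
        (not_pRankLE_iff.mpr ⟨F, le_rfl, hFe, hcard ▸ hlt'⟩)⟩
    rw [mem_normalizer_iff_map_conj_eq]
    conv_rhs => rw [← hWeq F hF]
    refine eq_of_le_of_card_ge ?_ (by
      rw [card_map_of_injective (MulAut.conj g).injective, hWeq F hF])
    simp only [hW, Cfsg.signalizerClosure, Subgroup.map_iSup]
    refine iSup_le fun x => ?_
    have hx : RankThreePoint p (x : G) := rankThreePoint_of_mem hA
      (le_centralizer_iff_isMulCommutative.mpr hA.1) hA3 x.2.1 x.2.2
    refine (heq x g hx).ge.trans (le_iSup (fun y : {y : G // y ∈ F ∧ y ≠ 1} => θ (y : G))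
      ⟨g * x * g⁻¹, mem_map_of_mem _ x.2.1, fun e => x.2.2 ?_⟩)
    rwa [mul_inv_eq_one, mul_eq_left] at e
  obtain ⟨-, hp⟩ := closure_solvable hC heq hbal hv
  refine le_bot_iff.mp ((le_signalizerClosure (mem_sup_left (mem_zpowers a)) fun e => ?_).trans
    (le_trans (PLocal.le_pPrimeCore (PLocal.not_dvd_iff_coprime.mpr hp)) hO.le))
  have := ha.1
  rw [e, orderOf_one] at this
  exact (Fact.out : p.Prime).ne_one this.symm

end CfsgLib.SolvSig
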