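import Cfsg.Agent.SolvSig.Theorem

/-!
# Applications of the solvable signalizer functor theorem

* `isSolvable_of_forall_inf_centralizer` : a `p'`-group acted on by an elementary abelian group of
  order at least `p ^ 3` is solvable if all the fixed point groups of nonidentity elements are.
-/

set_option autoImplicit false

namespace CfsgLib.SolvSig

open Subgroup CfsgLib.Transitivity

theorem isSolvable_of_forall_inf_centralizer {X : Type*} [Group X] [Finite X] {p : ℕ}
    [Fact p.Prime] {A K : Subgroup X} (hA : Cfsg.IsElementaryAbelian p A)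
    (hA3 : p ^ 3 ≤ Nat.card A) (hAK : A ≤ normalizer (K : Set X)) (hK : ¬ p ∣ Nat.card K)
    (hC : ∀ a ∈ A, a ≠ 1 → Group.IsSolvable ↥(K ⊓ centralizer ({a} : Set X))) :
    Group.IsSolvable ↥K := by
  let θ : X → Subgroup X := fun a => K ⊓ centralizer ({a} : Set X)
  have hinv : ∀ a ∈ A, a ≠ 1 → A ≤ normalizer (θ a : Set X) := fun a ha _ =>
    (le_inf hAK (((le_centralizer_iff_isMulCommutative.mpr hA.1).trans
      (centralizer_le (Set.singleton_subset_iff.mpr ha))).trans le_normalizer)).trans
      inf_normalizer_le_normalizer_inf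
  have hθ : Cfsg.IsSolvableSignalizerFunctor p A θ :=
    ⟨⟨fun a _ _ => inf_le_right, fun a _ _ h => hK (h.trans (card_dvd_of_le inf_le_left)),
      fun a ha ha1 => conj_mem_of_le_normalizer (hinv a ha ha1),
      fun a _ _ b _ _ => inf_le_inf_right _ inf_le_left⟩, hC⟩
  refine Components.isSolvable_mono (isSolvable_signalizerClosure hA hA3 hθ).1 ?_
  have := hA.1
  exact Coprime.le_of_forall_inf_centralizer_le (not_isCyclic_of_elab hA
    ((Nat.pow_le_pow_right (Fact.out : p.Prime).pos (by norm_num)).trans hA3)) hAK
    (coprime_card_of_elab hA hK) fun a ha ha1 => le_signalizerClosure (θ := θ) ha ha1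

end CfsgLib.SolvSig
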