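import Cfsg.Agent.Coprime.Action
import Mathlib.GroupTheory.PGroup

/-!
# Working modulo a subgroup normalised by everything in sight

`img N X` is the image of `X ∩ N_G(N)` in `N_G(N)/N`.
-/

set_option autoImplicit false

open scoped commutatorElement

namespace CfsgLib.SolvSig

open Subgroup

variable {G : Type*} [Group G]

/-- The quotient `N_G(N)/N`. -/
abbrev NQuot (N : Subgroup G) : Type _ :=
  ↥(normalizer (N : Set G)) ⧸ N.subgroupOf (normalizer (N : Set G))

/-- The canonical map `N_G(N) → N_G(N)/N`. -/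
abbrev nproj (N : Subgroup G) : ↥(normalizer (N : Set G)) →* NQuot N :=
  QuotientGroup.mk' _

/-- The image of a subgroup in `N_G(N)/N`. -/
def img (N X : Subgroup G) : Subgroup (NQuot N) :=
  (X.subgroupOf (normalizer (N : Set G))).map (nproj N)

theorem mem_img {N X : Subgroup G} {x : G} (hx : x ∈ X) (hn : x ∈ normalizer (N : Set G)) :
    nproj N ⟨x, hn⟩ ∈ img N X :=
  mem_map_of_mem _ hx

theorem img_eq_bot_iff {N X : Subgroup G} (hX : X ≤ normalizer (N : Set G)) :
    img N X = ⊥ ↔ X ≤ N := by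
  rw [img, Subgroup.map_eq_bot_iff, QuotientGroup.ker_mk', ← map_subtype_le_map_subtype,
    map_subgroupOf_eq_of_le hX, map_subgroupOf_eq_of_le le_normalizer]

theorem img_mono (N : Subgroup G) {X Y : Subgroup G} (h : X ≤ Y) : img N X ≤ img N Y :=
  map_mono (comap_mono h)

theorem img_le_centralizer_iff {N X Y : Subgroup G} (hX : X ≤ normalizer (N : Set G))
    (hY : Y ≤ normalizer (N : Set G)) :
    img N X ≤ centralizer (img N Y : Set (NQuot N)) ↔ ⁅X, Y⁆ ≤ N := by
  constructor
  · refine fun h => commutator_le.mpr fun x hx y hy => ?_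
    have h1 : ⁅nproj N ⟨x, hX hx⟩, nproj N ⟨y, hY hy⟩⁆ = 1 :=
      commutatorElement_eq_one_iff_mul_comm.mpr
        (mem_centralizer_iff.mp (h (mem_img hx (hX hx))) _ (mem_img hy (hY hy))).symm
    rw [← map_commutatorElement, QuotientGroup.mk'_apply, QuotientGroup.eq_one_iff] at h1
    exact h1
  · rintro h _ ⟨x, hx, rfl⟩
    rw [mem_centralizer_iff]
    rintro _ ⟨y, hy, rfl⟩
    refine (commutatorElement_eq_one_iff_mul_comm.mp ?_).symm
    rw [← map_commutatorElement, QuotientGroup.mk'_apply, QuotientGroup.eq_one_iff]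
    exact h (commutator_mem_commutator hx hy)

theorem img_commutator_eq_bot_iff {N X Y : Subgroup G} (hX : X ≤ normalizer (N : Set G))
    (hY : Y ≤ normalizer (N : Set G)) : ⁅img N X, img N Y⁆ = ⊥ ↔ ⁅X, Y⁆ ≤ N := by
  rw [commutator_eq_bot_iff_le_centralizer, img_le_centralizer_iff hX hY]

theorem img_commutator {N X Y : Subgroup G} (hX : X ≤ normalizer (N : Set G))
    (hY : Y ≤ normalizer (N : Set G)) : img N ⁅X, Y⁆ = ⁅img N X, img N Y⁆ := by
  rw [img, img, img, ← map_commutator]
  congr 1
  apply map_injective (normalizer (N : Set G)).subtype_injective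
  rw [map_commutator, map_subgroupOf_eq_of_le hX, map_subgroupOf_eq_of_le hY,
    map_subgroupOf_eq_of_le ((commutator_mono hX hY).trans (normalizer (N : Set G)).commutator_le_self)]

theorem img_le_normalizer {N X A : Subgroup G} (hA : A ≤ normalizer (X : Set G)) :
    img N A ≤ normalizer (img N X : Set (NQuot N)) := by
  refine le_trans (map_mono ?_) (le_normalizer_map _)
  intro a ha
  rw [mem_normalizer_iff]
  exact fun x => mem_normalizer_iff.mp (hA ha) x

theorem img_card_dvd {N X : Subgroup G} (hX : X ≤ normalizer (N : Set G)) :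
    Nat.card (img N X) ∣ Nat.card X :=
  (card_map_dvd _ _).trans (Nat.card_congr (subgroupOfEquivOfLe hX).toEquiv).dvd

theorem img_isPGroup {N X : Subgroup G} {r : ℕ} (h : IsPGroup r X) : IsPGroup r (img N X) :=
  (IsPGroup.comap_subtype h).map _

theorem img_isMulCommutative {N Y : Subgroup G} (hY : Y ≤ normalizer (N : Set G))
    (h : ⁅Y, Y⁆ ≤ N) : IsMulCommutative (img N Y) :=
  le_centralizer_iff_isMulCommutative.mp ((img_le_centralizer_iff hY hY).mpr h)

theorem img_zpowers {N : Subgroup G} {a : G} (ha : a ∈ normalizer (N : Set G)) :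
    img N (zpowers a) = zpowers (nproj N ⟨a, ha⟩) := by
  rw [img, ← MonoidHom.map_zpowers]
  congr 1
  apply map_injective (normalizer (N : Set G)).subtype_injective
  rw [map_subgroupOf_eq_of_le (zpowers_le.mpr ha), MonoidHom.map_zpowers]
  rfl

theorem img_pow_eq_one {N Y : Subgroup G} {s : ℕ} (h : ∀ y ∈ Y, y ^ s ∈ N) :
    ∀ v ∈ img N Y, v ^ s = 1 := by
  rintro _ ⟨y, hy, rfl⟩
  rw [← map_pow, QuotientGroup.mk'_apply, QuotientGroup.eq_one_iff]
  exact h _ hy

/-- Fixed points in the quotient, under coprime action. -/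
theorem img_inf_centralizer [Finite G] {N Y A : Subgroup G} (hY : Y ≤ normalizer (N : Set G))
    (hA : A ≤ normalizer (N : Set G)) (hAY : A ≤ normalizer (Y : Set G))
    (hcop : (Nat.card A).Coprime (Nat.card N)) (hsolv : Group.IsSolvable A) :
    img N Y ⊓ centralizer (img N A : Set (NQuot N)) = img N (Y ⊓ centralizer (A : Set G)) := by
  set M := normalizer (N : Set G)
  have hA' : A.subgroupOf M ≤ normalizer (Y.subgroupOf M : Set M) := fun a ha =>
    mem_normalizer_iff.mpr fun x => mem_normalizer_iff.mp (hAY ha) _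
  have hc : (Nat.card (A.subgroupOf M)).Coprime (Nat.card ↥(Y.subgroupOf M ⊓ (nproj N).ker)) := by
    rw [Nat.card_congr (subgroupOfEquivOfLe hA).toEquiv]
    refine hcop.coprime_dvd_right ((card_dvd_of_le inf_le_right).trans ?_)
    rw [QuotientGroup.ker_mk', Nat.card_congr (subgroupOfEquivOfLe le_normalizer).toEquiv]
  have hs : Group.IsSolvable (A.subgroupOf M) :=
    Group.isSolvable_of_surjective (f := (subgroupOfEquivOfLe hA).symm.toMonoidHom)
      (MulEquiv.surjective _)
  rw [img, img, ← Coprime.map_inf_centralizer (nproj N) hA' hc (Or.inl hs), img]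
  congr 1
  ext x
  simp only [Subgroup.mem_inf, mem_subgroupOf, mem_centralizer_iff, and_congr_right_iff]
  intro _
  constructor
  · intro h g hg
    exact congrArg Subtype.val (h ⟨g, hA hg⟩ hg)
  · intro h g hg
    exact Subtype.ext (h g hg)

/-- The three subgroup lemma modulo a subgroup. -/
theorem commutator_le_of_rotate {N X Y Z : Subgroup G} (hX : X ≤ normalizer (N : Set G))
    (hY : Y ≤ normalizer (N : Set G)) (hZ : Z ≤ normalizer (N : Set G))
    (h1 : ⁅⁅Y, Z⁆, X⁆ ≤ N) (h2 : ⁅⁅Z, X⁆, Y⁆ ≤ N) : ⁅⁅X, Y⁆, Z⁆ ≤ N := by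
  have hM : ∀ {U V : Subgroup G}, U ≤ normalizer (N : Set G) → V ≤ normalizer (N : Set G) →
      ⁅U, V⁆ ≤ normalizer (N : Set G) := fun hU hV =>
    (commutator_mono hU hV).trans (normalizer (N : Set G)).commutator_le_self
  rw [← img_commutator_eq_bot_iff (hM hX hY) hZ, img_commutator hX hY]
  refine commutator_commutator_eq_bot_of_rotate ?_ ?_
  · rwa [← img_commutator hY hZ, img_commutator_eq_bot_iff (hM hY hZ) hX]
  · rwa [← img_commutator hZ hX, img_commutator_eq_bot_iff (hM hZ hX) hY]

/-- If `a` centralises `Y` modulo `N` and `X` normalises `Y`, then `[X,a]` does so too. -/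
theorem commutator_commutator_le {N X Y A : Subgroup G} (hN : X ⊔ A ⊔ Y ≤ normalizer (N : Set G))
    (hXY : X ≤ normalizer (Y : Set G)) (hAY : ⁅A, Y⁆ ≤ N) : ⁅⁅X, A⁆, Y⁆ ≤ N := by
  have hX : X ≤ normalizer (N : Set G) := le_sup_left.trans (le_sup_left.trans hN)
  have hA : A ≤ normalizer (N : Set G) := le_sup_right.trans (le_sup_left.trans hN)
  have hY : Y ≤ normalizer (N : Set G) := le_sup_right.trans hN
  refine commutator_le_of_rotate hX hA hY ?_ ?_
  · exact (commutator_mono hAY le_rfl).trans (Coprime.commutator_le_of_le_normalizer hX)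
  · rw [commutator_comm Y X]
    exact ((commutator_mono (le_normalizer_iff_commutator_le_right.mp hXY) le_rfl).trans
      (commutator_comm Y A).le).trans hAY

/-- If `a` centralises `Y`, and `X` normalises `Y`, then `[X,a]` centralises `Y`. -/
theorem commutator_le_centralizer {X Y A : Subgroup G} (hXY : X ≤ normalizer (Y : Set G))
    (hAY : A ≤ centralizer (Y : Set G)) : ⁅X, A⁆ ≤ centralizer (Y : Set G) := by
  rw [← commutator_eq_bot_iff_le_centralizer] at hAY ⊢
  have hN : X ⊔ A ⊔ Y ≤ normalizer ((⊥ : Subgroup G) : Set G) := by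
    rw [normalizer_eq_top_iff.mpr inferInstance]
    exact le_top
  exact le_bot_iff.mp (commutator_commutator_le hN hXY hAY.le)

end CfsgLib.SolvSig
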