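import Cfsg.Agent.SolvSig.Action
import Cfsg.Agent.PLocal.PSolvable
import Cfsg.Agent.Solvable.Fitting
import Cfsg.Agent.Solvable.Frattini
import Cfsg.Agent.Components.FStar

/-!
# Cores of subgroups, as subgroups of the ambient group

* `core r K`, `core' r K` : `O_r(K)` and `O_{r'}(K)` inside `G`.
* `exists_layer` : a section `Y/N` on which `s'`-subgroups of `K` act faithfully modulo `O_{s'}(K)`.
* `commutator_le_of_hyperplanes` : `[K,e]` is generated by the `[C_K(B),e]`.
-/

set_option autoImplicit false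

open scoped commutatorElement

namespace CfsgLib.SolvSig

open Subgroup

variable {G : Type*} [Group G]

/-- `O_r(K)` as a subgroup of `G`. -/
def core (r : ℕ) (K : Subgroup G) : Subgroup G :=
  (Cfsg.pCore r ↥K).map K.subtype

/-- `O_{r'}(K)` as a subgroup of `G`. -/
def core' (r : ℕ) (K : Subgroup G) : Subgroup G :=
  (Cfsg.pPrimeCore r ↥K).map K.subtype

theorem core_le (r : ℕ) (K : Subgroup G) : core r K ≤ K :=
  map_subtype_le _

theorem core'_le (r : ℕ) (K : Subgroup G) : core' r K ≤ K :=
  map_subtype_le _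

theorem core_isPGroup (r : ℕ) (K : Subgroup G) : IsPGroup r (core r K) :=
  (PLocal.isPGroup_pCore r ↥K).map _

theorem normalizer_le_normalizer_map_char (K : Subgroup G) (C : Subgroup ↥K) [C.Characteristic] :
    normalizer (K : Set G) ≤ normalizer ((C.map K.subtype : Subgroup G) : Set G) := by
  intro g hg
  rw [mem_normalizer_iff_map_conj_eq, map_map]
  conv_rhs => rw [← characteristic_iff_map_eq.mp (inferInstance : C.Characteristic)
    (normalizerMonoidHom K ⟨g, hg⟩), map_map]
  congr 1

theorem normalizer_le_normalizer_core (r : ℕ) (K : Subgroup G) :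
    normalizer (K : Set G) ≤ normalizer (core r K : Set G) :=
  normalizer_le_normalizer_map_char K _

theorem normalizer_le_normalizer_core' (r : ℕ) (K : Subgroup G) :
    normalizer (K : Set G) ≤ normalizer (core' r K : Set G) :=
  normalizer_le_normalizer_map_char K _

theorem le_normalizer_core (r : ℕ) (K : Subgroup G) : K ≤ normalizer (core r K : Set G) :=
  le_normalizer.trans (normalizer_le_normalizer_core r K)

theorem le_core {r : ℕ} {K X : Subgroup G} (hXK : X ≤ K) (hKX : K ≤ normalizer (X : Set G))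
    (hX : IsPGroup r X) : X ≤ core r K := by
  have : (X.subgroupOf K).Normal := (normal_subgroupOf_iff_le_normalizer hXK).mpr hKX
  rw [← map_subgroupOf_eq_of_le hXK]
  exact map_mono (PLocal.le_pCore (IsPGroup.comap_subtype hX))

theorem le_core' {r : ℕ} {K X : Subgroup G} (hXK : X ≤ K) (hKX : K ≤ normalizer (X : Set G))
    (hX : (Nat.card X).Coprime r) : X ≤ core' r K := by
  have : (X.subgroupOf K).Normal := (normal_subgroupOf_iff_le_normalizer hXK).mpr hKX
  rw [← map_subgroupOf_eq_of_le hXK]
  exact map_mono (PLocal.le_pPrimeCore (by rwa [Nat.card_congr (subgroupOfEquivOfLe hXK).toEquiv]))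

theorem inf_core_le_core {r : ℕ} {K M : Subgroup G} (hKM : K ≤ M) : core r M ⊓ K ≤ core r K :=
  le_core inf_le_right ((le_inf (hKM.trans (le_normalizer_core r M)) le_normalizer).trans
    inf_normalizer_le_normalizer_inf) ((core_isPGroup r M).to_le inf_le_left)

theorem core_eq_of_isPGroup {r : ℕ} {K : Subgroup G} (h : IsPGroup r K) : core r K = K :=
  le_antisymm (core_le r K) (le_core le_rfl le_normalizer h)

variable [Finite G]

theorem card_core'_coprime (r : ℕ) (K : Subgroup G) : (Nat.card (core' r K)).Coprime r := by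
  rw [core', card_map_of_injective K.subtype_injective]
  exact PLocal.coprime_card_pPrimeCore r ↥K

theorem core_le_centralizer_core {r v : ℕ} [Fact r.Prime] [Fact v.Prime] (hrv : r ≠ v)
    (K : Subgroup G) : core r K ≤ centralizer (core v K : Set G) := by
  rw [← commutator_eq_bot_iff_le_centralizer, core, core, ← map_commutator,
    Subgroup.map_eq_bot_iff_of_injective _ K.subtype_injective]
  exact commutator_eq_bot_of_disjoint
    (IsPGroup.disjoint_of_ne r v hrv _ _ (PLocal.isPGroup_pCore r _) (PLocal.isPGroup_pCore v _))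

theorem exists_core_ne_bot {K : Subgroup G} (hK : Group.IsSolvable ↥K) (hne : K ≠ ⊥) :
    ∃ r : ℕ, r.Prime ∧ core r K ≠ ⊥ := by
  have : Nontrivial ↥K := (nontrivial_iff_ne_bot K).mpr hne
  by_contra! h
  refine Solvable.fittingSubgroup_ne_bot (G := ↥K) ?_
  rw [Solvable.fittingSubgroup_eq_iSup, iSup_eq_bot]
  intro q
  exact (Subgroup.map_eq_bot_iff_of_injective _ K.subtype_injective).mp (h q q.2)

/-- An `r`-subgroup centralising all cores lies in the `r`-core. -/
theorem le_core_of_centralizes {r : ℕ} [Fact r.Prime] {K X : Subgroup G}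
    (hK : Group.IsSolvable ↥K) (hXK : X ≤ K) (hX : IsPGroup r X)
    (h : ∀ v : ℕ, v.Prime → X ≤ centralizer (core v K : Set G)) : X ≤ core r K := by
  have hXF : X.subgroupOf K ≤ Cfsg.fittingSubgroup ↥K := by
    refine le_trans ?_ Solvable.centralizer_fittingSubgroup_le
    rw [le_centralizer_iff, Solvable.fittingSubgroup_eq_iSup]
    refine iSup_le fun q y hy => ?_
    rw [mem_centralizer_iff]
    intro x hx
    exact Subtype.ext (mem_centralizer_iff.mp (h q q.2 hx) y ⟨y, hy, rfl⟩).symm
  set F := Cfsg.fittingSubgroup ↥K with hF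
  have : F.Characteristic := Solvable.fittingSubgroup_characteristic
  have : Group.IsNilpotent F := Solvable.fittingSubgroup_isNilpotent
  obtain ⟨P, hP⟩ :=
    (show IsPGroup r ((X.subgroupOf K).subgroupOf F) from
      (IsPGroup.comap_subtype hX).comap_subtype).exists_le_sylow
  have hPn : (P : Subgroup F).Normal := inferInstance
  have hPc : (P : Subgroup F).Characteristic := P.characteristic_of_normal hPn
  have := PLocal.normal_map_subtype F (P : Subgroup F)
  intro x hx
  refine ⟨⟨x, hXK hx⟩, PLocal.le_pCore (P.isPGroup'.map F.subtype) ?_, rfl⟩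
  exact ⟨⟨⟨x, hXK hx⟩, hXF hx⟩, hP hx, rfl⟩

/-- `O_r(K)` is the intersection of the `O_{s'}(K)`, `s ≠ r`. -/
theorem le_core_of_forall_core' {r : ℕ} [Fact r.Prime] {K X : Subgroup G} (hXK : X ≤ K)
    (h : ∀ s : ℕ, s.Prime → s ≠ r → X ≤ core' s K) : X ≤ core r K := by
  let I : Subgroup G := K ⊓ ⨅ s : {s : ℕ // s.Prime ∧ s ≠ r}, core' (s : ℕ) K
  refine le_trans (le_inf hXK (le_iInf fun s => h s s.2.1 s.2.2) : X ≤ I) (le_core inf_le_left ?_ ?_)
  · intro k hk
    rw [mem_normalizer_iff_map_conj_eq, Subgroup.map_inf _ _ _ (MulAut.conj k).injective,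
      mem_normalizer_iff_map_conj_eq.mp (le_normalizer hk)]
    congr 1
    by_cases hne : Nonempty {s : ℕ // s.Prime ∧ s ≠ r}
    · rw [Subgroup.map_iInf _ (MulAut.conj k).injective]
      exact iInf_congr fun s => mem_normalizer_iff_map_conj_eq.mp
        (normalizer_le_normalizer_core' _ K (le_normalizer hk))
    · rw [not_nonempty_iff] at hne
      rw [iInf_of_empty, Subgroup.map_top_of_surjective _ (MulAut.conj k).surjective]
  · refine IsPGroup.of_card (n := (Nat.card I).factorization r) ?_
    have hprimes : ∀ {q : ℕ}, q.Prime → q ∣ Nat.card I → q = r := by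
      intro q hq hdvd
      by_contra hne
      exact (hq.coprime_iff_not_dvd.mp (card_core'_coprime q K).symm) (hdvd.trans (card_dvd_of_le
        (inf_le_right.trans (iInf_le (fun s : {s : ℕ // s.Prime ∧ s ≠ r} => core' (s : ℕ) K)
          ⟨q, hq, hne⟩))))
    have h0 : 0 < Nat.card I := Nat.card_pos
    rw [Nat.eq_prime_pow_of_unique_prime_dvd h0.ne' (p := r) (fun {q} => hprimes),
      Nat.Prime.factorization_pow Fact.out, Finsupp.single_eq_same]

omit [Finite G] in
theorem characteristic_map_subtype {H : Type*} [Group H] (V : Subgroup H) [hV : V.Characteristic]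
    (C : Subgroup V) [hC : C.Characteristic] : (C.map V.subtype).Characteristic := by
  refine characteristic_iff_map_le.mpr fun e => ?_
  rintro _ ⟨_, ⟨c, hc, rfl⟩, rfl⟩
  let e' : V ≃* V := (e.subgroupMap V).trans
    (MulEquiv.subgroupCongr (characteristic_iff_map_eq.mp hV e))
  exact ⟨e' c, (characteristic_iff_map_eq.mp hC e').le ⟨c, hc, rfl⟩, rfl⟩

omit [Finite G] in
theorem characteristic_comap_mk' {H : Type*} [Group H] (W : Subgroup H) [W.Normal]
    [hW : W.Characteristic] (C : Subgroup (H ⧸ W)) [hC : C.Characteristic] :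
    (C.comap (QuotientGroup.mk' W)).Characteristic := by
  refine characteristic_iff_map_le.mpr fun e => ?_
  rintro _ ⟨x, hx, rfl⟩
  have hWe : W.map e.toMonoidHom = W := characteristic_iff_map_eq.mp hW e
  exact (characteristic_iff_map_eq.mp hC (QuotientGroup.congr W W e hWe)).le
    ⟨QuotientGroup.mk' W x, hx, rfl⟩

/-- A section of `K` on which `s'`-subgroups act faithfully modulo `O_{s'}(K)`. -/
theorem exists_layer {s : ℕ} [Fact s.Prime] {K : Subgroup G} (hK : Group.IsSolvable ↥K) :
    ∃ N Y : Subgroup G, N ≤ Y ∧ Y ≤ K ∧ normalizer (K : Set G) ≤ normalizer (N : Set G) ∧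
      normalizer (K : Set G) ≤ normalizer (Y : Set G) ∧ ⁅Y, Y⁆ ≤ N ∧ (∀ y ∈ Y, y ^ s ∈ N) ∧
      ∀ Z ≤ K, ¬ s ∣ Nat.card Z → ⁅Z, Y⁆ ≤ N → Z ≤ core' s K := by
  set W := Cfsg.pPrimeCore s ↥K
  set π := QuotientGroup.mk' W
  set V := Cfsg.pCore s (↥K ⧸ W)
  have hVs : IsPGroup s V := PLocal.isPGroup_pCore s _
  set Φ := (frattini ↥V).map V.subtype
  have : Φ.Characteristic := characteristic_map_subtype V (frattini ↥V)
  have hN : (Φ.comap π).Characteristic := characteristic_comap_mk' W Φ
  have hY : (V.comap π).Characteristic := characteristic_comap_mk' W V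
  refine ⟨(Φ.comap π).map K.subtype, (V.comap π).map K.subtype,
    map_mono (comap_mono (map_subtype_le _)), map_subtype_le _,
    normalizer_le_normalizer_map_char K _, normalizer_le_normalizer_map_char K _, ?_, ?_, ?_⟩
  · rw [← map_commutator]
    refine map_mono (map_le_iff_le_comap.mp ?_)
    rw [map_commutator]
    refine (commutator_mono (map_comap_le _ _) (map_comap_le _ _)).trans ?_
    rw [← map_subtype_commutator]
    exact map_mono (Solvable.commutator_le_frattini hVs)
  · rintro _ ⟨y, hy, rfl⟩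
    refine ⟨y ^ s, ?_, map_pow _ _ _⟩
    rw [SetLike.mem_coe, mem_comap, map_pow]
    exact ⟨(⟨π y, hy⟩ : V) ^ s, Solvable.pow_mem_frattini hVs _, by simp⟩
  · intro Z hZK hZs hcomm
    set Z₀ := Z.subgroupOf K
    have hker : (core' s K) = W.map K.subtype := rfl
    have hcomm' : ⁅Z₀.map π, V⁆ ≤ Φ := by
      rw [← map_comap_eq_self_of_surjective (QuotientGroup.mk'_surjective W) V, ← map_commutator,
        map_le_iff_le_comap, ← map_subtype_le_map_subtype, map_commutator,
        map_subgroupOf_eq_of_le hZK]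
      exact hcomm
    have hcard : (Nat.card (Z₀.map π)).Coprime s := by
      refine Nat.Coprime.coprime_dvd_left (card_map_dvd _ _) ?_
      rw [Nat.card_congr (subgroupOfEquivOfLe hZK).toEquiv]
      exact PLocal.not_dvd_iff_coprime.mpr hZs
    have hsol : Group.IsSolvable (↥K ⧸ W) := inferInstance
    have hVn : V.Normal := inferInstance
    have hcen : Z₀.map π ≤ centralizer (V : Set (↥K ⧸ W)) := by
      refine Coprime.le_centralizer_of_commutator_le_frattini
        (le_normalizer_of_normal (H := V)) ?_ (by rwa [commutator_comm])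
      obtain ⟨k, hk⟩ := (hVs.to_subgroup (frattini ↥V)).exists_card_eq
      rw [hk]
      exact hcard.pow_right k
    have hle : Z₀.map π ≤ V := fun x hx => PLocal.centralizer_pCore_le
      PLocal.isPSolvable_of_isSolvable (PLocal.pPrimeCore_quotient_pPrimeCore_eq_bot s ↥K)
      (hcen hx)
    have hbot : Z₀.map π = ⊥ := PLocal.eq_bot_of_isPGroup_of_coprime (hVs.to_le hle) hcard
    rw [Subgroup.map_eq_bot_iff, QuotientGroup.ker_mk'] at hbot
    rw [hker, ← map_subgroupOf_eq_of_le hZK]
    exact map_mono hbot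

/-- `[K,E]` is generated by the `[C_K(B),E]`, if the `C_K(B)` generate all invariant subgroups. -/
theorem commutator_le_of_hyperplanes {A E : Subgroup G} (𝓑 : Set (Subgroup G))
    (hE : E ≤ A) (hAcomm : A ≤ centralizer (A : Set G))
    (hgen : ∀ K : Subgroup G, A ≤ normalizer (K : Set G) → (Nat.card A).Coprime (Nat.card K) →
      ∀ D : Subgroup G, (∀ B ∈ 𝓑, K ⊓ centralizer (B : Set G) ≤ D) → K ≤ D)
    {D : Subgroup G} (K : Subgroup G) (hK : Group.IsSolvable ↥K)
    (hAK : A ≤ normalizer (K : Set G)) (hcop : (Nat.card A).Coprime (Nat.card K))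
    (h : ∀ B ∈ 𝓑, ⁅K ⊓ centralizer (B : Set G), E⁆ ≤ D) : ⁅K, E⁆ ≤ D := by
  induction hn : Nat.card K using Nat.strongRecOn generalizing K D with
  | ind n ih =>
  have hEA : Nat.card E ∣ Nat.card A := card_dvd_of_le hE
  have hEK : E ≤ normalizer (K : Set G) := hE.trans hAK
  have hEc : A ≤ normalizer (E : Set G) :=
    (hAcomm.trans (centralizer_le (SetLike.coe_subset_coe.mpr hE))).trans (centralizer_le_normalizer _)
  have hrec : ∀ K' < K, A ≤ normalizer (K' : Set G) → ∀ D' : Subgroup G,
      (∀ B ∈ 𝓑, ⁅K' ⊓ centralizer (B : Set G), E⁆ ≤ D') → ⁅K', E⁆ ≤ D' := fun K' hlt hA' D' h' =>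
    ih (Nat.card K') (hn ▸ lt_of_le_of_ne (Nat.le_of_dvd Nat.card_pos (card_dvd_of_le hlt.le))
      (fun h => hlt.ne (eq_of_le_of_card_ge hlt.le h.ge))) K'
      (Components.isSolvable_mono hK hlt.le) hA'
      (hcop.coprime_dvd_right (card_dvd_of_le hlt.le)) h' rfl
  by_cases hKE : ⁅K, E⁆ = K
  swap
  · rw [← Coprime.commutator_commutator_eq hEK (hcop.coprime_dvd_left hEA)]
    refine hrec _ (lt_of_le_of_ne (Coprime.commutator_le_of_le_normalizer hEK) hKE) ?_ D
      fun B hB => (commutator_mono (inf_le_inf_right _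
        (Coprime.commutator_le_of_le_normalizer hEK)) le_rfl).trans (h B hB)
    intro a ha
    rw [mem_normalizer_iff_map_conj_eq, map_commutator,
      mem_normalizer_iff_map_conj_eq.mp (hAK ha), mem_normalizer_iff_map_conj_eq.mp (hEc ha)]
  by_cases hbot : K = ⊥
  · rw [hbot, commutator_bot_left]
    exact bot_le
  set N := ⁅K, K⁆
  have hNK : N < K := by
    refine lt_of_le_of_ne K.commutator_le_self fun h' => ?_
    have : Nontrivial ↥K := (nontrivial_iff_ne_bot K).mpr hbot
    refine (Group.IsSolvable.commutator_lt_top_of_nontrivial ↥K).ne ?_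
    apply map_injective K.subtype_injective
    rw [_root_.commutator_def, map_commutator, ← MonoidHom.range_eq_map, range_subtype]
    exact h'
  set Y := ⨆ B ∈ 𝓑, ⁅K ⊓ centralizer (B : Set G), E⁆
  have hYD : Y ≤ D := iSup₂_le h
  have hYE : E ≤ normalizer (Y : Set G) := by
    intro x hx
    rw [mem_normalizer_iff_map_conj_eq, Subgroup.map_iSup]
    refine iSup_congr fun B => ?_
    rw [Subgroup.map_iSup]
    exact iSup_congr fun _ =>
      mem_normalizer_iff_map_conj_eq.mp (normalizer_commutator_ge_right _ E hx)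
  have hYK : Y ≤ K := iSup₂_le fun B _ =>
    (commutator_mono inf_le_left le_rfl).trans (Coprime.commutator_le_of_le_normalizer hEK)
  have hAN : A ≤ normalizer (N : Set G) := by
    intro a ha
    rw [mem_normalizer_iff_map_conj_eq, map_commutator, mem_normalizer_iff_map_conj_eq.mp (hAK ha)]
  have hNY : ⁅N, E⁆ ≤ Y := hrec N hNK hAN Y fun B hB =>
    (commutator_mono (inf_le_inf_right _ hNK.le) le_rfl).trans
      (le_iSup₂ (f := fun B (_ : B ∈ 𝓑) => ⁅K ⊓ centralizer (B : Set G), E⁆) B hB)
  set M := Y ⊔ N with hM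
  have hKM : K ≤ normalizer (M : Set G) := le_normalizer_iff_commutator_le_left.mpr
    ((commutator_mono (sup_le hYK hNK.le) le_rfl).trans le_sup_right)
  have hEM : E ≤ normalizer (M : Set G) := by
    intro x hx
    rw [mem_normalizer_iff_map_conj_eq, hM, Subgroup.map_sup,
      mem_normalizer_iff_map_conj_eq.mp (hYE hx), mem_normalizer_iff_map_conj_eq.mp ((hE.trans hAN) hx)]
  have hKle : K ≤ M := by
    have hle : K ≤ ((centralizer (img M E : Set (NQuot M))).comap (nproj M)).map
        (normalizer (M : Set G)).subtype := by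
      refine hgen K hAK hcop _ fun B hB => ?_
      have h1 := (img_le_centralizer_iff (inf_le_left.trans hKM) hEM).mpr
        ((le_iSup₂ (f := fun B (_ : B ∈ 𝓑) => ⁅K ⊓ centralizer (B : Set G), E⁆) B hB).trans
          le_sup_left)
      intro x hx
      exact ⟨⟨x, hKM hx.1⟩, h1 (mem_img hx (hKM hx.1)), rfl⟩
    have h2 : ⁅K, E⁆ ≤ M := by
      refine (img_le_centralizer_iff hKM hEM).mp ?_
      rintro _ ⟨x, hx, rfl⟩
      obtain ⟨y, hy, hyx⟩ := hle hx
      rw [← (normalizer (M : Set G)).subtype_injective hyx]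
      exact hy
    rwa [hKE] at h2
  refine le_trans (commutator_le.mpr fun k hk x hx => ?_) hYD
  obtain ⟨y, hy, n, hn, rfl⟩ : ∃ y ∈ Y, ∃ n ∈ N, k = y * n := by
    obtain ⟨y, hy, n, hn, e⟩ := Coprime.exists_mul_of_mem_sup
      (show Y ≤ normalizer (N : Set G) from hYK.trans (le_normalizer_iff_commutator_le_left.mpr
        (commutator_mono hNK.le le_rfl))) (show k ∈ N ⊔ Y by rw [sup_comm]; exact hKle hk)
    exact ⟨n, hn, n⁻¹ * y * n, by
      simpa using (mem_normalizer_iff.mp (inv_mem ((hYK.trans (le_normalizer_iff_commutator_le_left.mpr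
        (commutator_mono hNK.le le_rfl))) hn)) y).mp hy, by rw [← e]; group⟩
  have hsplit := Coprime.commutator_sup_centralizer (hE.trans hAN)
    ((hcop.coprime_dvd_left hEA).coprime_dvd_right (card_dvd_of_le hNK.le))
    (Or.inr (Components.isSolvable_mono hK hNK.le))
  obtain ⟨m, hm, c, hc, rfl⟩ := Coprime.exists_mul_of_mem_sup
    (inf_le_left.trans (normalizer_commutator_ge_left N E))
    (show n ∈ ⁅N, E⁆ ⊔ (N ⊓ centralizer (E : Set G)) by rw [hsplit]; exact hn)
  have hx1 : ⁅c, x⁆ = 1 := commutatorElement_eq_one_iff_mul_comm.mpr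
    (mem_centralizer_iff.mp hc.2 x hx).symm
  have hym : y * m ∈ Y := mul_mem hy (hNY hm)
  rw [← mul_assoc, commutatorElement_mul_left_eq_conj_mul, hx1]
  simp only [mul_one, mul_inv_cancel, one_mul]
  rw [commutatorElement_def, mul_assoc (y * m), mul_assoc (y * m)]
  exact mul_mem hym (by
    simpa [mul_assoc] using (mem_normalizer_iff.mp (hYE hx) _).mp (inv_mem hym))

end CfsgLib.SolvSig
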