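import Cfsg.Agent.SolvSig.Setting
import Cfsg.Agent.Solvable.Hall

/-!
# Elements of `A` move maximal members

* `MinCE.commutator_le_core'` : `[K,g] ≤ O_{r'}(K)` if `g` centralises all invariant `r`-subgroups of `K`.
* `MinCE.final` : no element of `A` centralises a nontrivial maximal `r`-member.
* `MinCE.exists_moved` : every `g ∈ A` moves a core of a maximal member containing `θ g`.
-/

set_option autoImplicit false

open scoped commutatorElement Pointwise

namespace CfsgLib.SolvSig

open Subgroup CfsgLib.Transitivity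

variable {G : Type*} [Group G]

theorem le_centralizer_zpowers {U : Subgroup G} {g : G} (h : U ≤ centralizer ({g} : Set G)) :
    zpowers g ≤ centralizer (U : Set G) := by
  rw [le_centralizer_iff]
  rwa [← centralizer_singleton_eq]

/-- If `[X,C]` and `C` are centralised by `E`, then `[X,E]` centralises `C`. -/
theorem commutator_le_centralizer_of_commutator {X C E Z : Subgroup G} (hXC : ⁅X, C⁆ ≤ Z)
    (hEZ : E ≤ centralizer (Z : Set G)) (hEC : E ≤ centralizer (C : Set G)) :
    ⁅X, E⁆ ≤ centralizer (C : Set G) := by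
  rw [← commutator_eq_bot_iff_le_centralizer] at hEZ hEC ⊢
  refine commutator_commutator_eq_bot_of_rotate ?_ ?_
  · rw [hEC, commutator_bot_left]
  · refine le_bot_iff.mp (le_trans (commutator_mono ((commutator_comm C X).le.trans hXC) le_rfl) ?_)
    rw [commutator_comm, hEZ]

variable [Finite G]

/-- The first term of the upper central series outside a given subgroup. -/
theorem exists_series_not_le {r : ℕ} [Fact r.Prime] {R D : Subgroup G} (hR : IsPGroup r R)
    (hne : ¬ R ≤ D) : ∃ Z₀ Z₁ : Subgroup G, Z₀ ≤ D ∧ ¬ Z₁ ≤ D ∧ Z₁ ≤ R ∧ ⁅Z₁, R⁆ ≤ Z₀ ∧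
      normalizer (R : Set G) ≤ normalizer (Z₁ : Set G) := by
  have : Group.IsNilpotent ↥R := hR.isNilpotent
  by_contra! hcon
  have hall : ∀ j, (Subgroup.upperCentralSeries ↥R j).map R.subtype ≤ D := by
    intro j
    induction j with
    | zero => rw [Subgroup.upperCentralSeries_zero, Subgroup.map_bot]; exact bot_le
    | succ j ih =>
      by_contra hj
      refine hcon _ _ ih hj (map_subtype_le _) (commutator_le.mpr ?_)
        (normalizer_le_normalizer_map_char R _)
      rintro _ ⟨z, hz, rfl⟩ y hy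
      exact ⟨⁅z, (⟨y, hy⟩ : R)⁆, Subgroup.mem_upperCentralSeries_succ_iff.mp hz _, rfl⟩
  refine hne ?_
  have := hall (Group.nilpotencyClass ↥R)
  rwa [Subgroup.upperCentralSeries_nilpotencyClass, ← MonoidHom.range_eq_map, range_subtype] at this

theorem isPiHall_of_card_eq {H K : Subgroup G} {π : Set ℕ} (hH : Cfsg.IsPiHall π H)
    (e : Nat.card K = Nat.card H) : Cfsg.IsPiHall π K := by
  have hi : K.index = H.index := by
    have h1 := H.card_mul_index
    rw [← K.card_mul_index, e] at h1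
    exact (Nat.eq_of_mul_eq_mul_left Nat.card_pos h1).symm
  exact ⟨e ▸ hH.1, hi ▸ hH.2⟩

theorem coprime_card_sup {M L : Subgroup G} {r : ℕ} (hn : L ≤ normalizer (M : Set G))
    (hM : (Nat.card M).Coprime r) (hL : (Nat.card L).Coprime r) :
    (Nat.card ↥(M ⊔ L)).Coprime r := by
  have : (M.subgroupOf (M ⊔ L)).Normal :=
    normal_subgroupOf_of_le_normalizer (sup_le le_normalizer hn)
  have h1 := PLocal.card_sup_dvd_mul (L.subgroupOf (M ⊔ L)) (M.subgroupOf (M ⊔ L))
  rw [sup_comm (L.subgroupOf (M ⊔ L)), ← subgroupOf_sup le_sup_left le_sup_right, subgroupOf_self,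
    Subgroup.card_top, Nat.card_congr (subgroupOfEquivOfLe (le_sup_right : L ≤ M ⊔ L)).toEquiv,
    Nat.card_congr (subgroupOfEquivOfLe (le_sup_left : M ≤ M ⊔ L)).toEquiv] at h1
  exact (Nat.Coprime.mul_left hL hM).coprime_dvd_left h1

/-- In an `r`-layer `Y/N`, what centralises a Sylow `r`-subgroup of `Y` centralises `Y/N`. -/
theorem commutator_le_of_sylow {r : ℕ} [Fact r.Prime] {N Y E : Subgroup G} (hNY : N ≤ Y)
    (hYN : Y ≤ normalizer (N : Set G)) (hcomm : ⁅Y, Y⁆ ≤ N) (hpow : ∀ y ∈ Y, y ^ r ∈ N)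
    (hEN : E ≤ normalizer (N : Set G)) (P : Sylow r Y)
    (hEP : E ≤ centralizer (((P : Subgroup Y).map Y.subtype : Subgroup G) : Set G)) :
    ⁅E, Y⁆ ≤ N := by
  set PY := (P : Subgroup Y).map Y.subtype
  have hPYY : PY ≤ Y := map_subtype_le _
  set H := N ⊔ PY
  have hHY : H ≤ Y := sup_le hNY hPYY
  have hYH : Y ≤ H := by
    intro y hy
    have : (H.subgroupOf Y).Normal := (normal_subgroupOf_iff_le_normalizer hHY).mpr
      (le_normalizer_iff_commutator_le_left.mpr
        (((commutator_mono hHY le_rfl).trans hcomm).trans le_sup_left))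
    have h1 : QuotientGroup.mk' (H.subgroupOf Y) ⟨y, hy⟩ ^ (H.subgroupOf Y).index = 1 := by
      rw [← map_pow]
      exact (QuotientGroup.eq_one_iff _).mpr (Subgroup.pow_index_mem _ _)
    have h2 : QuotientGroup.mk' (H.subgroupOf Y) ⟨y, hy⟩ ^ r = 1 := by
      rw [← map_pow]
      exact (QuotientGroup.eq_one_iff _).mpr
        (show y ^ r ∈ H from mem_sup_left (hpow y hy))
    have h3 : Nat.Coprime (H.subgroupOf Y).index r := by
      rw [Nat.coprime_comm, (Fact.out : r.Prime).coprime_iff_not_dvd]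
      intro hd
      refine P.not_dvd_index (hd.trans (index_dvd_of_le ?_))
      exact fun x hx => (mem_sup_right (mem_map_of_mem _ hx) : (x : G) ∈ H)
    have h4 := pow_gcd_eq_one.mpr ⟨h1, h2⟩
    rw [h3.gcd_eq_one, pow_one] at h4
    exact (QuotientGroup.eq_one_iff (⟨y, hy⟩ : Y)).mp h4
  refine commutator_le.mpr fun e he y hy => ?_
  obtain ⟨n, hn, u, hu, rfl⟩ := Coprime.exists_mul_of_mem_sup (hPYY.trans hYN) (hYH hy)
  rw [commutatorElement_mul_right_eq_mul_conj,
    commutatorElement_eq_one_iff_mul_comm.mpr (mem_centralizer_iff.mp (hEP he) u hu).symm, mul_one,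
    mul_assoc, mul_inv_cancel, mul_one]
  exact le_normalizer_iff_commutator_le_right.mp hEN (commutator_mem_commutator he hn)

variable {p : ℕ} [Fact p.Prime] {A : Subgroup G} {θ : G → Subgroup G}

namespace MinCE

variable (h : MinCE p A θ)

include h

/-- If `g` centralises every invariant `r`-subgroup of a member `K`, then `[K,g] ≤ O_{r'}(K)`. -/
theorem commutator_le_core' {r : ℕ} [Fact r.Prime] {K : Subgroup G}
    (hK : K ∈ Cfsg.signalizerFamily p A θ) {g : G} (hg : g ∈ A)
    (hall : ∀ U ∈ Cfsg.signalizerFamily p A θ, U ≤ K → IsPGroup r U →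
      U ≤ centralizer ({g} : Set G)) : ⁅K, zpowers g⁆ ≤ core' r K := by
  set E := zpowers g
  have hEA : E ≤ A := zpowers_le.mpr hg
  obtain ⟨N, Y, hNY, hYK, hN, hY, hcomm, hpow, hfaith⟩ := exists_layer (s := r) hK.1
  have hKN : K ≤ normalizer (N : Set G) := le_normalizer.trans hN
  have hKY : K ≤ normalizer (Y : Set G) := le_normalizer.trans hY
  have hAK : A ≤ normalizer (K : Set G) := family_le_normalizer hK
  have hEN : E ≤ normalizer (N : Set G) := hEA.trans (hAK.trans hN)
  have hAY : A ≤ normalizer (Y : Set G) := hAK.trans hY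
  have hYmem : Y ∈ Cfsg.signalizerFamily p A θ := mem_of_le hK hYK hAY
  have hEY : ⁅E, Y⁆ ≤ N := by
    obtain ⟨P, hP⟩ := Coprime.exists_invariant_sylow hAY (h.coprime hYmem)
      (Or.inl (isSolvable_of_elab h.ea)) r
    exact commutator_le_of_sylow hNY (hYK.trans hKN) hcomm hpow hEN P (le_centralizer_zpowers
      (hall _ (mem_of_le hYmem (map_subtype_le _) hP) ((map_subtype_le _).trans hYK) (P.2.map _)))
  have hXK : ⁅K, E⁆ ≤ K := Coprime.commutator_le_of_le_normalizer (hEA.trans hAK)
  have hXY : ⁅⁅K, E⁆, Y⁆ ≤ N :=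
    commutator_commutator_le (sup_le (sup_le hKN hEN) (hYK.trans hKN)) hKY hEY
  have hXmem : ⁅K, E⁆ ∈ Cfsg.signalizerFamily p A θ := h.mem_commutator hK hEA
  rw [← h.comm_comm hK hEA]
  set X := ⁅K, E⁆
  obtain ⟨P, hP⟩ := Coprime.exists_invariant_sylow (family_le_normalizer hXmem) (h.coprime hXmem)
    (Or.inl (isSolvable_of_elab h.ea)) r
  set PX := (P : Subgroup X).map X.subtype
  have hPXX : PX ≤ X := map_subtype_le _
  have hc := le_centralizer_zpowers (hall PX (mem_of_le hXmem hPXX hP) (hPXX.trans hXK) (P.2.map _))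
  set C := core' r K ⊓ X
  have hXC : X ≤ normalizer (C : Set G) :=
    (le_inf ((hXK.trans le_normalizer).trans (normalizer_le_normalizer_core' r K)) le_normalizer).trans
      inf_normalizer_le_normalizer_inf
  have hle : X ≤ C ⊔ PX := by
    refine (eq_of_le_of_card_ge (sup_le inf_le_right hPXX)
      (Nat.le_of_dvd Nat.card_pos ?_)).ge
    rw [Nat.dvd_iff_prime_pow_dvd_dvd]
    intro q k hq hqk
    have := Fact.mk hq
    by_cases hqr : q = r
    · subst hqr
      refine (P.pow_dvd_card_of_pow_dvd_card hqk).trans ?_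
      rw [← card_map_of_injective (K := (P : Subgroup X)) X.subtype_injective]
      exact card_dvd_of_le le_sup_right
    · obtain ⟨Z, hZ⟩ := Sylow.exists_subgroup_card_pow_prime q hqk
      have hcard : Nat.card (Z.map X.subtype) = q ^ k := by
        rw [card_map_of_injective X.subtype_injective, hZ]
      rw [← hcard]
      refine card_dvd_of_le (le_trans (le_inf ?_ (map_subtype_le _)) le_sup_left)
      refine hfaith _ ((map_subtype_le _).trans hXK) ?_
        ((commutator_mono (map_subtype_le _) le_rfl).trans hXY)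
      rw [hcard]
      exact fun hd => hqr ((Nat.prime_dvd_prime_iff_eq Fact.out hq).mp
        ((Fact.out : r.Prime).dvd_of_dvd_pow hd)).symm
  refine commutator_le.mpr fun x hx e he => ?_
  obtain ⟨c, hc', u, hu, rfl⟩ := Coprime.exists_mul_of_mem_sup (hPXX.trans hXC) (hle hx)
  rw [commutatorElement_mul_left_eq_conj_mul,
    commutatorElement_eq_one_iff_mul_comm.mpr (mem_centralizer_iff.mp (hc he) u hu), mul_one,
    mul_inv_cancel, one_mul]
  exact Coprime.commutator_le_of_le_normalizer
    ((hEA.trans hAK).trans (normalizer_le_normalizer_core' r K))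
    (commutator_mem_commutator hc'.1 he)

/-- An invariant complement to a Sylow subgroup of a member. -/
theorem exists_invariant_complement {r : ℕ} [Fact r.Prime] {K : Subgroup G}
    (hK : K ∈ Cfsg.signalizerFamily p A θ) (P : Sylow r K) : ∃ L ≤ K, A ≤ normalizer (L : Set G) ∧
      (Nat.card L).Coprime r ∧ ∀ k ∈ K, ∃ y ∈ (P : Subgroup K).map K.subtype, ∃ l ∈ L, k = y * l := by
  have hsolv : Group.IsSolvable ↥K := hK.1
  have hAK := family_le_normalizer hK
  obtain ⟨H₀, hH₀⟩ := Solvable.exists_isPiHall {q : ℕ | q ≠ r} ↥K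
  set L₀ := H₀.map K.subtype
  obtain ⟨g₀, hg₀, hAL⟩ := Coprime.exists_invariant_conj hAK (h.coprime hK)
    (Or.inl (isSolvable_of_elab h.ea)) L₀ (by
      intro a ha
      have hle : MulAut.conj a • L₀ ≤ K := by
        conv_rhs => rw [← Coprime.conj_smul_eq_self (hAK ha)]
        exact Subgroup.pointwise_smul_le_pointwise_smul_iff.mpr (map_subtype_le _)
      have hH₁ : Cfsg.IsPiHall {q : ℕ | q ≠ r} ((MulAut.conj a • L₀).subgroupOf K) := by
        refine isPiHall_of_card_eq hH₀ ?_
        rw [Nat.card_congr (subgroupOfEquivOfLe hle).toEquiv, Coprime.card_conj_smul,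
          card_map_of_injective K.subtype_injective]
      obtain ⟨g, hg⟩ := Solvable.exists_conj_eq_isPiHall hH₀ hH₁
      refine ⟨g, g.2, ?_⟩
      rw [← Coprime.map_subtype_conj_smul, hg, map_subgroupOf_eq_of_le hle])
  set L := MulAut.conj g₀ • L₀
  have hLK : L ≤ K := Coprime.conj_smul_le_of_mem hg₀ (map_subtype_le _)
  have hL : Cfsg.IsPiHall {q : ℕ | q ≠ r} (L.subgroupOf K) := by
    refine isPiHall_of_card_eq hH₀ ?_
    rw [Nat.card_congr (subgroupOfEquivOfLe hLK).toEquiv, Coprime.card_conj_smul,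
      card_map_of_injective K.subtype_injective]
  have hLr : (Nat.card (L.subgroupOf K)).Coprime r := by
    rw [Nat.coprime_comm, (Fact.out : r.Prime).coprime_iff_not_dvd]
    exact fun hd => hL.1 r Fact.out hd rfl
  refine ⟨L, hLK, hAL, by rwa [← Nat.card_congr (subgroupOfEquivOfLe hLK).toEquiv], fun k hk => ?_⟩
  have hPL : (Nat.card (P : Subgroup K)).Coprime (Nat.card (L.subgroupOf K)) := by
    obtain ⟨n, hn⟩ := P.2.exists_card_eq
    rw [hn]
    exact (Nat.coprime_comm.mp hLr).pow_left n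
  have hiP : (L.subgroupOf K).index.Coprime (P : Subgroup K).index := by
    refine Nat.coprime_of_dvd fun q hq hqi hqP => ?_
    by_cases hqr : q = r
    · exact P.not_dvd_index (hqr ▸ hqP)
    · exact hL.2 q hq hqr hqi
  have h1 : Nat.card (P : Subgroup K) * Nat.card (L.subgroupOf K) = Nat.card K := by
    have hA1 : Nat.card (P : Subgroup K) ∣ (L.subgroupOf K).index := by
      refine hPL.dvd_of_dvd_mul_left ?_
      rw [(L.subgroupOf K).card_mul_index]
      exact card_subgroup_dvd_card _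
    have hA2 : (L.subgroupOf K).index ∣ Nat.card (P : Subgroup K) := by
      refine hiP.dvd_of_dvd_mul_right ?_
      rw [(P : Subgroup K).card_mul_index]
      exact index_dvd_card _
    rw [Nat.dvd_antisymm hA1 hA2, mul_comm, (L.subgroupOf K).card_mul_index]
  obtain ⟨⟨y, l⟩, e⟩ := (isComplement'_of_coprime h1 hPL).2 ⟨k, hk⟩
  exact ⟨_, mem_map_of_mem _ y.2, _, l.2, (congrArg Subtype.val e).symm⟩

/-- No element of `A` centralises a nontrivial maximal `r`-member. -/
theorem final {r : ℕ} [Fact r.Prime] {R : Subgroup G} (hR : IsMaximalMember p r A θ R)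
    (hne : R ≠ ⊥) {g : G} (hg : g ∈ A) (hg1 : g ≠ 1) (hRg : R ≤ centralizer ({g} : Set G)) :
    False := by
  set E := zpowers g
  have hEA : E ≤ A := zpowers_le.mpr hg
  have hθg := h.mem_theta hg hg1
  have hgC := h.theta_le_centralizer hg hg1
  have hRθ : R ≤ θ g := (le_inf le_rfl hRg).trans (inf_centralizer_le_theta hR.1 hg hg1)
  have hall : ∀ U ∈ Cfsg.signalizerFamily p A θ, IsPGroup r U →
      U ≤ centralizer ({g} : Set G) := by
    intro U hU hUr
    obtain ⟨c, hc, hle⟩ := h.exists_le_conj hR hU hUr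
    refine hle.trans ?_
    rintro _ ⟨y, hy, rfl⟩
    have hcg := hgC (thetaA_le hg hg1 hc)
    exact mul_mem (mul_mem hcg (hRg hy)) (inv_mem hcg)
  obtain ⟨P, hRP, hP⟩ := Coprime.exists_invariant_sylow_ge (family_le_normalizer hθg)
    (h.coprime hθg) (Or.inl (isSolvable_of_elab h.ea)) hRθ hR.2.1 (family_le_normalizer hR.1)
  obtain ⟨L, hLg, hAL, hLr, hfac⟩ := h.exists_invariant_complement hθg P
  rw [hR.2.2 _ (mem_of_le hθg (map_subtype_le _) hP) (P.2.map _) hRP] at hfac
  have hRL : R ⊓ L = ⊥ := by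
    refine Coprime.inf_eq_bot_of_coprime ?_
    obtain ⟨n, hn⟩ := hR.2.1.exists_card_eq
    rw [hn]
    exact (Nat.coprime_comm.mp hLr).pow_left n
  let θ' : G → Subgroup G := fun x => ⁅θ x, E⁆ ⊔ (θ x ⊓ L)
  have hθ'le : ∀ x ∈ A, x ≠ 1 → θ' x ≤ θ x := fun x hx hx1 => sup_le
    (Coprime.commutator_le_of_le_normalizer
      (hEA.trans (family_le_normalizer (h.mem_theta hx hx1)))) inf_le_left
  have hθ'n : ∀ x ∈ A, x ≠ 1 → A ≤ normalizer (θ' x : Set G) := by
    intro x hx hx1
    have hAx := family_le_normalizer (h.mem_theta hx hx1)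
    intro a ha
    rw [mem_normalizer_iff_map_conj_eq, Subgroup.map_sup,
      mem_normalizer_iff_map_conj_eq.mp (h.le_normalizer_commutator hAx hEA ha),
      mem_normalizer_iff_map_conj_eq.mp (inf_normalizer_le_normalizer_inf ⟨hAx ha, hAL ha⟩)]
  have hθ'mem : ∀ x ∈ A, x ≠ 1 → θ' x ∈ Cfsg.signalizerFamily p A θ := fun x hx hx1 =>
    mem_of_le (h.mem_theta hx hx1) (hθ'le x hx hx1) (hθ'n x hx hx1)
  have hfix : ∀ x ∈ A, x ≠ 1 → θ' x ⊓ centralizer ({g} : Set G) ≤ L := by
    intro x hx hx1
    have hxm := h.mem_theta hx hx1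
    rintro z ⟨hz, hzg⟩
    have hn : θ x ⊓ L ≤ normalizer ((⁅θ x, E⁆ : Subgroup G) : Set G) :=
      inf_le_left.trans (normalizer_commutator_ge_left _ _)
    obtain ⟨m, hm, l, hl, rfl⟩ := Coprime.exists_mul_of_mem_sup hn hz
    have hlg : l ∈ centralizer ({g} : Set G) := hgC (hLg hl.2)
    have hmg : m ∈ centralizer ({g} : Set G) := by
      replace hzg : m * l ∈ centralizer ({g} : Set G) := hzg
      have h1 := mul_mem hzg (inv_mem hlg)
      rwa [mul_inv_cancel_right] at h1
    refine mul_mem ?_ hl.2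
    set M := ⁅θ x, E⁆ ⊓ centralizer ({g} : Set G)
    set L' := L ⊓ θ x
    have hL'M : L' ≤ normalizer (M : Set G) := fun y hy => inf_normalizer_le_normalizer_inf
      ⟨normalizer_commutator_ge_left _ _ hy.2, le_normalizer (hgC (hLg hy.1))⟩
    have hMx : m ∈ θ x :=
      Coprime.commutator_le_of_le_normalizer (hEA.trans (family_le_normalizer hxm)) hm
    obtain ⟨y, hy, l', hl', e⟩ := hfac m (inf_centralizer_le_theta hxm hg hg1 ⟨hMx, hmg⟩)
    subst e
    have hxc : x * (y * l') * x⁻¹ = y * l' := mul_inv_eq_iff_eq_mul.mpr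
      (mem_centralizer_singleton_iff.mp (h.theta_le_centralizer hx hx1 hMx)).symm
    have h1 : (x * y * x⁻¹)⁻¹ * y = x * l' * x⁻¹ * l'⁻¹ := by
      have : (x * y * x⁻¹) * (x * l' * x⁻¹) = y * l' := by rw [← hxc]; group
      rw [inv_mul_eq_iff_eq_mul, ← mul_assoc, this, mul_inv_cancel_right]
    have h2 : (x * y * x⁻¹)⁻¹ * y ∈ R ⊓ L :=
      Subgroup.mem_inf.mpr ⟨mul_mem (inv_mem ((mem_normalizer_iff.mp (family_le_normalizer hR.1 hx) y).mp hy)) hy,
        h1 ▸ mul_mem ((mem_normalizer_iff.mp (hAL hx) l').mp hl') (inv_mem hl')⟩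
    rw [hRL, mem_bot] at h2
    rw [h2] at h1
    have hl'x : l' ∈ centralizer ({x} : Set G) := mem_centralizer_singleton_iff.mpr
      (mul_inv_eq_iff_eq_mul.mp (mul_inv_eq_one.mp h1.symm)).symm
    have hl'' : l' ∈ L' := ⟨hl', inf_centralizer_le_theta hθg hx hx1 ⟨hLg hl', hl'x⟩⟩
    have hy' : y ∈ R ⊓ (M ⊔ L') := by
      refine ⟨hy, ?_⟩
      have h3 := mul_mem (mem_sup_left (T := L') (show y * l' ∈ M from ⟨hm, hmg⟩))
        (inv_mem (mem_sup_right (S := M) hl''))
      rwa [mul_inv_cancel_right] at h3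
    have hbot : R ⊓ (M ⊔ L') = ⊥ := by
      refine Coprime.inf_eq_bot_of_coprime ?_
      obtain ⟨n, hn⟩ := hR.2.1.exists_card_eq
      rw [hn]
      refine (Nat.coprime_comm.mp (coprime_card_sup hL'M ?_
        (hLr.coprime_dvd_left (card_dvd_of_le inf_le_left)))).pow_left n
      exact (card_core'_coprime r (θ x)).coprime_dvd_left (card_dvd_of_le (inf_le_left.trans
        (h.commutator_le_core' hxm hg fun U hU _ hUr => hall U hU hUr)))
    rw [hbot, mem_bot] at hy'
    rw [hy', one_mul]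
    exact hl'
  have hfun : Cfsg.IsSolvableSignalizerFunctor p A θ' := by
    refine ⟨⟨fun x hx hx1 => (hθ'le x hx hx1).trans (h.theta_le_centralizer hx hx1),
      fun x hx hx1 => (hθ'mem x hx hx1).2.1, fun x hx hx1 => (hθ'mem x hx hx1).2.2.1,
      fun x hx hx1 y hy hy1 => ?_⟩, fun x hx hx1 => (hθ'mem x hx hx1).1⟩
    set D := θ' x ⊓ centralizer ({y} : Set G)
    have hAD : A ≤ normalizer (D : Set G) := by
      refine (le_inf (hθ'n x hx hx1) ?_).trans inf_normalizer_le_normalizer_inf
      rw [centralizer_singleton_eq]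
      exact ((h.le_centralizer_of_le (zpowers_le.mpr hy)).trans le_normalizer)
    have hDy : D ≤ θ y :=
      (inf_le_inf_right _ (hθ'le x hx hx1)).trans (h.func.1.2.2.2 x hx hx1 y hy hy1)
    have hDmem := mem_of_le (hθ'mem x hx hx1) (inf_le_left : D ≤ θ' x) hAD
    refine (Coprime.commutator_sup_centralizer (hEA.trans hAD)
      ((h.coprime hDmem).coprime_dvd_left (card_dvd_of_le hEA))
      (Or.inl (isSolvable_zpowers g))).ge.trans (sup_le ?_ ?_)
    · exact (commutator_mono hDy le_rfl).trans le_sup_left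
    · refine le_trans (le_inf (inf_le_left.trans hDy) ?_) le_sup_right
      refine le_trans (le_inf (inf_le_left.trans inf_le_left) ?_) (hfix x hx hx1)
      rw [centralizer_singleton_eq]
      exact inf_le_right
  have hθ'g : θ' g = L := by
    refine le_antisymm (sup_le ?_ inf_le_right) ((le_inf hLg le_rfl).trans le_sup_right)
    refine le_trans ?_ bot_le
    rw [le_bot_iff, commutator_eq_bot_iff_le_centralizer, ← centralizer_singleton_eq]
    exact hgC
  have hLne : L ≠ θ g := by
    intro e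
    rw [e] at hRL
    exact hne (by rwa [inf_eq_left.mpr hRθ] at hRL)
  obtain ⟨hWs, hWp⟩ := h.proper_sub θ' hfun hθ'le ⟨g, hg, hg1, hθ'g ▸ hLne⟩
  set W := Cfsg.signalizerClosure A θ'
  have hWn : A ≤ normalizer (W : Set G) := closure_le_normalizer hfun.1
  have hW : W ∈ Cfsg.signalizerFamily p A θ := ⟨hWs, hWp, conj_mem_of_le_normalizer hWn,
    fun a ha ha1 => (closure_inf_centralizer_le h.ea h.card_le hfun.1 hWs hWp a ha ha1).trans
      (hθ'le a ha ha1)⟩
  have hEW : E ≤ normalizer (W : Set G) := hEA.trans hWn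
  set X := ⁅W, E⁆
  have hX : X ∈ Cfsg.signalizerFamily p A θ := h.mem_commutator hW hEA
  have hcW : ∀ x ∈ A, x ≠ 1 → ⁅θ x, E⁆ ≤ W := fun x hx hx1 =>
    le_trans (le_sup_left (b := θ x ⊓ L)) (le_signalizerClosure (θ := θ') hx hx1)
  have hWX : W ≤ normalizer (X : Set G) := normalizer_commutator_ge_left _ _
  have hRX : R ≤ normalizer (X : Set G) := by
    refine h.le_of_hyp_mem hR.1 fun B' hB' y hy => ?_
    have hle : X ≤ X.comap (MulAut.conj y).toMonoidHom := by
      refine h.commutator_le_of_hyp hW hg fun B hB _ => ?_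
      obtain ⟨e, heB, heB', he1⟩ := h.exists_mem_inf hB hB'
      have heA : e ∈ A := hB.1 heB
      have hy' : y ∈ normalizer ((⁅θ e, E⁆ : Subgroup G) : Set G) :=
        normalizer_commutator_ge_left _ _ (thetaB_le heB' he1 (inf_le_thetaB hR.1 hB'.1 hy))
      intro z hz
      rw [mem_comap]
      have hz' : z ∈ ⁅θ e, E⁆ :=
        commutator_mono ((inf_le_thetaB hW hB.1).trans (thetaB_le heB he1)) le_rfl hz
      have hz'' : y * z * y⁻¹ ∈ ⁅⁅θ e, E⁆, E⁆ := by
        rw [h.comm_comm (h.mem_theta heA he1) hEA]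
        exact (mem_normalizer_iff.mp hy' z).mp hz'
      exact commutator_mono (hcW e heA he1) le_rfl hz''
    rw [mem_normalizer_iff_map_conj_eq]
    exact eq_of_le_of_card_ge (map_le_iff_le_comap.mpr hle)
      (card_map_of_injective (MulAut.conj y).injective).ge
  have hgX : θ g ≤ normalizer (X : Set G) := by
    intro k hk
    obtain ⟨y, hy, l, hl, rfl⟩ := hfac k hk
    exact mul_mem (hRX hy) (hWX ((le_signalizerClosure (θ := θ') hg hg1) (hθ'g.symm ▸ hl)))
  have hall' : ∀ x ∈ A, x ≠ 1 → θ x ≤ normalizer (X : Set G) := by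
    intro x hx hx1
    have hxm := h.mem_theta hx hx1
    refine (Coprime.commutator_sup_centralizer (hEA.trans (family_le_normalizer hxm))
      ((h.coprime hxm).coprime_dvd_left (card_dvd_of_le hEA))
      (Or.inl (isSolvable_zpowers g))).ge.trans (sup_le ((hcW x hx hx1).trans hWX) ?_)
    rw [← centralizer_singleton_eq]
    exact (inf_centralizer_le_theta hxm hg hg1).trans hgX
  have hX1 : X = ⊥ := h.eq_bot_of_normalized hX fun B hB => by
    obtain ⟨b, hb, hb1⟩ := h.exists_ne_one hB
    exact (thetaB_le hb hb1).trans (hall' b (hB.1 hb) hb1)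
  have hle : Cfsg.signalizerClosure A θ ≤ θ g := by
    refine iSup_le fun x => ?_
    have hxm := h.mem_theta x.2.1 x.2.2
    refine (le_inf le_rfl ?_).trans (inf_centralizer_le_theta hxm hg hg1)
    rw [centralizer_singleton_eq, ← commutator_eq_bot_iff_le_centralizer, ← h.comm_comm hxm hEA,
      ← le_bot_iff, ← hX1]
    exact commutator_mono (hcW x x.2.1 x.2.2) le_rfl
  exact h.not_good ⟨Components.isSolvable_mono hθg.1 hle,
    fun hd => hθg.2.1 (hd.trans (card_dvd_of_le hle))⟩

/-- Every element of `A` moves a core of some maximal member containing its value. -/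
theorem exists_moved {g : G} (hg : g ∈ A) (hg1 : g ≠ 1) : ∃ N, IsMax p A θ N ∧ θ g ≤ N ∧
    ∃ t : ℕ, t.Prime ∧ ⁅core t N, zpowers g⁆ ≠ ⊥ := by
  by_contra! hcon
  set E := zpowers g
  have hEA : E ≤ A := zpowers_le.mpr hg
  have hθg := h.mem_theta hg hg1
  obtain ⟨N, hgN, hN⟩ := exists_max_ge hθg
  have hEC : ∀ t : ℕ, t.Prime → E ≤ centralizer (core t N : Set G) := fun t ht => by
    rw [le_centralizer_iff]
    exact commutator_eq_bot_iff_le_centralizer.mp (hcon N hN hgN t ht)
  have hXN : ⁅N, E⁆ ≤ N :=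
    Coprime.commutator_le_of_le_normalizer (hEA.trans (family_le_normalizer hN.1))
  have hXC : ⁅N, E⁆ ≤ centralizer (E : Set G) := by
    intro x hx
    have hxF : (⟨x, hXN hx⟩ : ↥N) ∈ Cfsg.fittingSubgroup ↥N := by
      have := hN.1.1
      refine Solvable.centralizer_fittingSubgroup_le (mem_centralizer_iff.mpr fun f hf => ?_)
      have hle : Cfsg.fittingSubgroup ↥N ≤ (centralizer ({x} : Set G)).comap N.subtype := by
        rw [Solvable.fittingSubgroup_eq_iSup]
        refine iSup_le fun q y hy => ?_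
        rw [mem_comap, mem_centralizer_singleton_iff]
        exact mem_centralizer_iff.mp
          (commutator_le_centralizer (le_normalizer_core q N) (hEC q q.2) hx) y
          ⟨y, hy, rfl⟩
      exact Subtype.ext (mem_centralizer_singleton_iff.mp (hle hf))
    have hle : Cfsg.fittingSubgroup ↥N ≤ (centralizer (E : Set G)).comap N.subtype := by
      rw [Solvable.fittingSubgroup_eq_iSup]
      exact iSup_le fun q y hy => le_centralizer_iff.mp (hEC q q.2) ⟨y, hy, rfl⟩
    exact hle hxF
  have hNg : N ≤ θ g := by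
    refine (le_inf le_rfl ?_).trans (inf_centralizer_le_theta hN.1 hg hg1)
    rw [centralizer_singleton_eq, ← commutator_eq_bot_iff_le_centralizer, ← h.comm_comm hN.1 hEA]
    exact commutator_eq_bot_iff_le_centralizer.mpr hXC
  obtain rfl : N = θ g := le_antisymm hNg hgN
  by_cases hbot : θ g = ⊥
  · have hall : Cfsg.signalizerClosure A θ = ⊥ := by
      rw [eq_bot_iff]
      refine iSup_le fun x => ?_
      have hxm := h.mem_theta x.2.1 x.2.2
      rw [hN.2 _ hxm (hbot.le.trans bot_le), hbot]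
    refine h.not_good ⟨?_, ?_⟩
    · rw [hall]; infer_instance
    · rw [hall, card_bot]
      exact (Fact.out : p.Prime).not_dvd_one
  obtain ⟨r, hr, hne⟩ := exists_core_ne_bot hθg.1 hbot
  have := Fact.mk hr
  obtain ⟨R, hcR, hR⟩ := exists_maximalMember_ge (h.mem_core hθg r) (core_isPGroup r (θ g))
  refine h.final hR (fun e => hne (le_bot_iff.mp (e ▸ hcR))) hg hg1 ?_
  by_contra hRg
  obtain ⟨Z₀, Z₁, hZ₀, hZ₁, hZ₁R, hcomm, hn⟩ := exists_series_not_le hR.2.1 hRg
  have hZ : Z₁ ∈ Cfsg.signalizerFamily p A θ :=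
    mem_of_le hR.1 hZ₁R ((family_le_normalizer hR.1).trans hn)
  have hcC : core r (θ g) ≤ R ⊓ centralizer ({g} : Set G) :=
    le_inf hcR ((core_le r _).trans (h.theta_le_centralizer hg hg1))
  have hX : ⁅Z₁, E⁆ ≤ centralizer (core r (θ g) : Set G) :=
    commutator_le_centralizer_of_commutator
      ((commutator_mono le_rfl (hcC.trans inf_le_left)).trans hcomm)
      (le_centralizer_zpowers hZ₀) (le_centralizer_zpowers (hcC.trans inf_le_right))
  have hXg : ⁅Z₁, E⁆ ≤ centralizer (E : Set G) := by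
    rw [← centralizer_singleton_eq]
    exact (h.le_max_core hN hne (h.mem_commutator hZ hEA)
      (hX.trans (centralizer_le_normalizer _))).trans (h.theta_le_centralizer hg hg1)
  refine hZ₁ ?_
  rw [centralizer_singleton_eq, ← commutator_eq_bot_iff_le_centralizer, ← h.comm_comm hZ hEA]
  exact commutator_eq_bot_iff_le_centralizer.mpr hXg

end MinCE

end CfsgLib.SolvSig
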