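import Cfsg.Agent.SolvSig.LinearOL
import Cfsg.Agent.SolvSig.Mod
import Cfsg.Agent.Coprime.Abelian
import Mathlib.Algebra.Module.ZMod
import Mathlib.FieldTheory.IsAlgClosed.AlgebraicClosure
import Mathlib.LinearAlgebra.Matrix.ToLin

/-!
# An element of order `p` and a `p'`-group acting on a section

* `GF_mod` : if `C_U(a)` centralises `Y/N` and `U` centralises `C_{Y/N}(a)`, so does `U` centralise `Y/N`.
* `OL_mod` : for an `r`-group `U`, `r` odd, if `U` centralises `C_{Y/N}(a)` then `[U,a]` centralises `Y/N`.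
-/

set_option autoImplicit false

open scoped commutatorElement IsMulCommutative

namespace CfsgLib.SolvSig

open Subgroup Finset

variable {G : Type*} [Group G]

/-- Conjugation as additive endomorphisms. -/
def conjEnd (W : Subgroup G) [IsMulCommutative W] :
    ↥(normalizer (W : Set G)) →* AddMonoid.End (Additive W) where
  toFun g := MonoidHom.toAdditive (normalizerMonoidHom W g).toMonoidHom
  map_one' := by ext v; simp [map_one]; rfl
  map_mul' g h := by ext v; simp [map_mul]; rfl

theorem conjEnd_apply (W : Subgroup G) [IsMulCommutative W] (g : ↥(normalizer (W : Set G)))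
    (v : Additive W) : (((conjEnd W g) v).toMul : G) = g * (v.toMul : G) * (g : G)⁻¹ :=
  rfl

theorem conjEnd_eq_one_iff (W : Subgroup G) [IsMulCommutative W] (g : ↥(normalizer (W : Set G))) :
    conjEnd W g = 1 ↔ (g : G) ∈ centralizer (W : Set G) := by
  rw [mem_centralizer_iff]
  constructor
  · intro h w hw
    have h1 := conjEnd_apply W g (Additive.ofMul ⟨w, hw⟩)
    rw [h] at h1
    exact (mul_inv_eq_iff_eq_mul.mp h1.symm).symm
  · intro h
    refine AddMonoidHom.ext fun v => Additive.toMul.injective (Subtype.ext ?_)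
    show (((conjEnd W g) v).toMul : G) = (v.toMul : G)
    rw [conjEnd_apply]
    exact mul_inv_eq_iff_eq_mul.mpr (h _ v.toMul.2).symm

/-- Additive endomorphisms of a `ZMod s`-module are linear. -/
def endToLinear {s : ℕ} {M : Type*} [AddCommGroup M] [Module (ZMod s) M] :
    AddMonoid.End M →+* Module.End (ZMod s) M where
  toFun g := AddMonoidHom.toZModLinearMap s (g : M →+ M)
  map_one' := by ext x; rfl
  map_mul' g h := by ext x; rfl
  map_zero' := by ext x; rfl
  map_add' g h := by ext x; rfl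

theorem exists_end_linear_aux {s : ℕ} [Fact s.Prime] (M : Type*) [AddCommGroup M]
    [Module (ZMod s) M] [Module.Finite (ZMod s) M] :
    ∃ (n : ℕ) (f : AddMonoid.End M →+* Module.End (AlgebraicClosure (ZMod s))
      (Fin n → AlgebraicClosure (ZMod s))), Function.Injective f := by
  let b := Module.finBasis (ZMod s) M
  have ht : Function.Injective (endToLinear (s := s) (M := M)) := fun g h hgh =>
    AddMonoidHom.ext fun x => LinearMap.congr_fun hgh x
  exact ⟨_, Matrix.toLinAlgEquiv'.toRingEquiv.toRingHom.comp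
    ((algebraMap (ZMod s) (AlgebraicClosure (ZMod s))).mapMatrix.comp
      ((LinearMap.toMatrixAlgEquiv b).toRingEquiv.toRingHom.comp endToLinear)),
    Matrix.toLinAlgEquiv'.injective.comp
      ((Matrix.map_injective (algebraMap (ZMod s) (AlgebraicClosure (ZMod s))).injective).comp
        ((LinearMap.toMatrixAlgEquiv b).injective.comp ht))⟩

/-- An elementary abelian group is a vector space, hence its endomorphisms embed into those of a
space over an algebraically closed field. -/
theorem exists_end_linear {s : ℕ} [Fact s.Prime] (M : Type*) [AddCommGroup M] [Finite M]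
    (h : ∀ x : M, s • x = 0) :
    ∃ (n : ℕ) (f : AddMonoid.End M →+* Module.End (AlgebraicClosure (ZMod s))
      (Fin n → AlgebraicClosure (ZMod s))), Function.Injective f :=
  @exists_end_linear_aux s _ M _ (AddCommGroup.zmodModule h)
    (@Module.Finite.of_finite (ZMod s) M _ _ (AddCommGroup.zmodModule h) _)

theorem coprime_card_zpowers [Finite G] {a : G} {p : ℕ} [Fact p.Prime] (hap : a ^ p = 1)
    {N : Subgroup G} (hpN : ¬ p ∣ Nat.card N) : (Nat.card (zpowers a)).Coprime (Nat.card N) := by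
  rw [Nat.card_zpowers]
  exact ((Fact.out : p.Prime).coprime_iff_not_dvd.mpr hpN).coprime_dvd_left
    (orderOf_dvd_of_pow_eq_one hap)

theorem isSolvable_zpowers (a : G) : Group.IsSolvable (zpowers a) :=
  Group.isSolvable_of_comm fun x y => mul_comm x y

variable [Finite G]

/-- The data common to both lemmas: `W = [V,U]` has no fixed points of `a`, and the operator sum
of the powers of `a` on it vanishes. -/
theorem sum_conjEnd_eq_zero {p : ℕ} [Fact p.Prime] {U V : Subgroup G} {a : G}
    [IsMulCommutative V] [IsMulCommutative ↥⁅V, U⁆] (hap : a ^ p = 1)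
    (hUV : U ≤ normalizer (V : Set G)) (hcop : (Nat.card U).Coprime (Nat.card V))
    (hC : V ⊓ centralizer ({a} : Set G) ≤ centralizer (U : Set G))
    (haW : a ∈ normalizer ((⁅V, U⁆ : Subgroup G) : Set G)) :
    ∑ k ∈ range p, conjEnd ⁅V, U⁆ (⟨a, haW⟩ ^ k) = 0 := by
  set W := ⁅V, U⁆
  have hWV : W ≤ V := Coprime.commutator_le_of_le_normalizer hUV
  have hfix : ∀ w ∈ W, a * w * a⁻¹ = w → w = 1 := by
    intro w hw h
    have h1 : w ∈ (V ⊓ centralizer (U : Set G)) ⊓ ⁅V, U⁆ :=
      ⟨⟨hWV hw, hC ⟨hWV hw, mem_centralizer_singleton_iff.mpr (mul_inv_eq_iff_eq_mul.mp h).symm⟩⟩,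
        hw⟩
    rwa [Coprime.inf_centralizer_inf_commutator_eq_bot hUV hcop, mem_bot] at h1
  set g : ↥(normalizer (W : Set G)) := ⟨a, haW⟩
  simp only [map_pow]
  have h := mul_geom_sum (conjEnd W g) p
  rw [← map_pow, show g ^ p = 1 from Subtype.ext hap, map_one, sub_self, sub_mul, one_mul,
    sub_eq_zero] at h
  refine AddMonoidHom.ext fun v => ?_
  have h1 := congrArg (fun f : AddMonoid.End (Additive W) => ((f v).toMul : G)) h
  change (((conjEnd W g) ((∑ k ∈ range p, conjEnd W g ^ k) v)).toMul : G) = _ at h1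
  rw [conjEnd_apply] at h1
  exact Additive.toMul.injective (Subtype.ext (hfix _ (SetLike.coe_mem _) h1))

theorem GF_group {p : ℕ} [Fact p.Prime] {U V : Subgroup G} {a : G} [IsMulCommutative V]
    (hap : a ^ p = 1) (hUV : U ≤ normalizer (V : Set G)) (haV : a ∈ normalizer (V : Set G))
    (haU : a ∈ normalizer (U : Set G)) (hcop : (Nat.card U).Coprime (Nat.card V))
    (hpU : ¬ p ∣ Nat.card U) (hCU : U ⊓ centralizer ({a} : Set G) ≤ centralizer (V : Set G))
    (hCV : V ⊓ centralizer ({a} : Set G) ≤ centralizer (U : Set G)) :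
    U ≤ centralizer (V : Set G) := by
  classical
  have hWV : ⁅V, U⁆ ≤ V := Coprime.commutator_le_of_le_normalizer hUV
  have : IsMulCommutative ↥⁅V, U⁆ := ⟨⟨fun x y => Subtype.ext (congrArg Subtype.val
    ((inferInstance : IsMulCommutative V).is_comm.comm (⟨x, hWV x.2⟩ : V) ⟨y, hWV y.2⟩) :)⟩⟩
  refine Coprime.le_centralizer_of_commutator_commutator_eq_bot hUV hcop ?_
  rw [commutator_eq_bot_iff_le_centralizer, le_centralizer_iff]
  have haW : a ∈ normalizer ((⁅V, U⁆ : Subgroup G) : Set G) := by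
    rw [mem_normalizer_iff_map_conj_eq, map_commutator, mem_normalizer_iff_map_conj_eq.mp haV,
      mem_normalizer_iff_map_conj_eq.mp haU]
  have hUW : U ≤ normalizer ((⁅V, U⁆ : Subgroup G) : Set G) := normalizer_commutator_ge_right V U
  set W := ⁅V, U⁆
  set M := normalizer (W : Set G)
  let U₀ := U.subgroupOf M
  let φ : ↥M →* (AddMonoid.End (Additive W))ˣ := (conjEnd W).toHomUnits
  set g : ↥M := ⟨a, haW⟩
  have hgU : zpowers g ≤ normalizer (U₀ : Set M) := zpowers_le.mpr
    (mem_normalizer_iff.mpr fun x => mem_normalizer_iff.mp haU _)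
  have hmap := Coprime.map_inf_centralizer φ hgU
    (coprime_card_zpowers (a := g) (Subtype.ext hap) fun h => hpU ((h.trans
      (card_dvd_of_le inf_le_left)).trans (Nat.card_congr (subgroupOfEquivOfLe hUW).toEquiv).dvd))
    (Or.inl (isSolvable_zpowers g))
  intro u hu
  have hfix : ∀ x ∈ U₀.map φ, φ g * x * (φ g)⁻¹ = x → x = 1 := by
    intro x hx hfx
    have h1 : x ∈ U₀.map φ ⊓ centralizer (((zpowers g).map φ : Subgroup _) : Set _) := by
      refine ⟨hx, mem_centralizer_iff.mpr ?_⟩
      rw [MonoidHom.map_zpowers]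
      intro y hy
      obtain ⟨k, rfl⟩ := mem_zpowers_iff.mp hy
      exact (Commute.zpow_left (mul_inv_eq_iff_eq_mul.mp hfx) k).eq
    rw [← hmap] at h1
    obtain ⟨y, ⟨hy, hyc⟩, rfl⟩ := h1
    refine Units.ext ?_
    show conjEnd W y = 1
    rw [conjEnd_eq_one_iff]
    refine centralizer_le (SetLike.coe_subset_coe.mpr hWV) (hCU ⟨hy, ?_⟩)
    exact mem_centralizer_singleton_iff.mpr
      (congrArg Subtype.val (mem_centralizer_iff.mp hyc g (mem_zpowers g)).symm)
  have hfin : Finite (U₀.map φ) := Finite.of_surjective _ (φ.subgroupMap_surjective U₀)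
  have h := ringGF (Units.coeHom (AddMonoid.End (Additive W))) (U₀.map φ)
    (a := φ g) (p := p) (by rw [← map_pow, show g ^ p = 1 from Subtype.ext hap, map_one])
    (le_normalizer_map φ (mem_map_of_mem φ (hgU (mem_zpowers g)))) hfix
    (by
      refine Eq.trans (Finset.sum_congr rfl fun k _ => ?_) (sum_conjEnd_eq_zero hap hUV hcop hCV haW)
      rw [← map_pow]
      rfl)
    (mem_map_of_mem φ (show (⟨u, hUW hu⟩ : M) ∈ U₀ from hu))
  rw [mem_centralizer_iff]
  refine mem_centralizer_iff.mp ((conjEnd_eq_one_iff W ⟨u, hUW hu⟩).mp ?_)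
  refine AddMonoidHom.ext fun v => ?_
  have h1 := congrArg (fun f : AddMonoid.End (Additive W) => f v) h
  change (Nat.card (U₀.map φ) : AddMonoid.End (Additive W))
    (((conjEnd W ⟨u, hUW hu⟩) - 1) v) = 0 at h1
  rw [AddMonoid.End.natCast_apply] at h1
  have hn : (Nat.card (U₀.map φ)).Coprime (Nat.card (Additive W)) :=
    (hcop.coprime_dvd_left ((card_map_dvd _ _).trans
      (Nat.card_congr (subgroupOfEquivOfLe hUW).toEquiv).dvd)).coprime_dvd_right
      (card_dvd_of_le hWV)
  exact sub_eq_zero.mp (AddMonoid.addOrderOf_eq_one_iff.mp (Nat.eq_one_of_dvd_coprimes hn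
    (addOrderOf_dvd_of_nsmul_eq_zero h1) (addOrderOf_dvd_natCard _)))

theorem OL_group {p r s : ℕ} [Fact p.Prime] [Fact r.Prime] [Fact s.Prime] (hrp : r ≠ p)
    (hodd : Odd r) (hsr : s ≠ r) (hsp : s ≠ p) {U V : Subgroup G} {a : G} [IsMulCommutative V]
    (hVs : ∀ v ∈ V, v ^ s = 1) (hU : IsPGroup r U) (hap : a ^ p = 1)
    (hUV : U ≤ normalizer (V : Set G)) (haV : a ∈ normalizer (V : Set G))
    (haU : a ∈ normalizer (U : Set G))
    (hCV : V ⊓ centralizer ({a} : Set G) ≤ centralizer (U : Set G)) :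
    ⁅U, zpowers a⁆ ≤ centralizer (V : Set G) := by
  classical
  have hcop : (Nat.card U).Coprime (Nat.card V) := by
    obtain ⟨k, hk⟩ := hU.exists_card_eq
    obtain ⟨l, hl⟩ := (show IsPGroup s V from fun v => ⟨1, Subtype.ext (by
      rw [pow_one]; simpa using hVs _ v.2)⟩).exists_card_eq
    rw [hk, hl]
    exact Nat.Coprime.pow k l ((Nat.coprime_primes Fact.out Fact.out).mpr hsr.symm)
  have hWV : ⁅V, U⁆ ≤ V := Coprime.commutator_le_of_le_normalizer hUV
  have : IsMulCommutative ↥⁅V, U⁆ := ⟨⟨fun x y => Subtype.ext (congrArg Subtype.val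
    ((inferInstance : IsMulCommutative V).is_comm.comm (⟨x, hWV x.2⟩ : V) ⟨y, hWV y.2⟩) :)⟩⟩
  have haW : a ∈ normalizer ((⁅V, U⁆ : Subgroup G) : Set G) := by
    rw [mem_normalizer_iff_map_conj_eq, map_commutator, mem_normalizer_iff_map_conj_eq.mp haV,
      mem_normalizer_iff_map_conj_eq.mp haU]
  have hUW : U ≤ normalizer ((⁅V, U⁆ : Subgroup G) : Set G) := normalizer_commutator_ge_right V U
  have hAU : ⁅U, zpowers a⁆ ≤ U :=
    Coprime.commutator_le_of_le_normalizer (zpowers_le.mpr haU)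
  rw [le_centralizer_iff, ← Coprime.inf_centralizer_sup_commutator_eq hUV hcop, sup_le_iff]
  refine ⟨inf_le_right.trans (centralizer_le (SetLike.coe_subset_coe.mpr hAU)), ?_⟩
  rw [le_centralizer_iff]
  set W := ⁅V, U⁆
  set M := normalizer (W : Set G)
  obtain ⟨n, f, hf⟩ := exists_end_linear (s := s) (Additive W) fun x => by
    apply Additive.toMul.injective
    rw [toMul_nsmul, toMul_zero]
    exact Subtype.ext (by simpa using hVs _ (hWV x.toMul.2))
  let ρ : ↥M →* (Module.End (AlgebraicClosure (ZMod s)) (Fin n → AlgebraicClosure (ZMod s)))ˣ :=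
    (f.toMonoidHom.comp (conjEnd W)).toHomUnits
  set g : ↥M := ⟨a, haW⟩
  let U₀ := U.subgroupOf M
  have hfin : Finite (U₀.map ρ) := Finite.of_surjective _ (ρ.subgroupMap_surjective U₀)
  have : CharP (AlgebraicClosure (ZMod s)) s :=
    charP_of_injective_algebraMap (algebraMap (ZMod s) _).injective s
  have hne : ∀ {m : ℕ}, m.Prime → s ≠ m → (m : AlgebraicClosure (ZMod s)) ≠ 0 := fun hm hsm h =>
    hsm ((Nat.prime_dvd_prime_iff_eq Fact.out hm).mp ((CharP.cast_eq_zero_iff _ s _).mp h))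
  have hlin := linearOL hrp hodd (hne Fact.out hsr) (hne Fact.out hsp)
    (U := U₀.map ρ) ((IsPGroup.comap_subtype hU).map ρ) (a := ρ g)
    (by rw [← map_pow, show g ^ p = 1 from Subtype.ext hap, map_one])
    (le_normalizer_map ρ (mem_map_of_mem ρ
      (show g ∈ normalizer (U₀ : Set M) from
        mem_normalizer_iff.mpr fun x => mem_normalizer_iff.mp haU _)))
    (by
      refine Eq.trans (Finset.sum_congr rfl fun k _ => ?_)
        ((map_sum f _ _).symm.trans ((congrArg f (sum_conjEnd_eq_zero hap hUV hcop hCV haW)).trans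
          (map_zero f)))
      rw [← Units.val_pow_eq_pow_val, ← map_pow]
      rfl)
  refine commutator_le.mpr fun u hu y hy => ?_
  obtain ⟨k, rfl⟩ := mem_zpowers_iff.mp hy
  have h2 : ρ (⟨u, hUW hu⟩ * g ^ k) = ρ (g ^ k * ⟨u, hUW hu⟩) := by
    rw [map_mul, map_mul, map_zpow]
    exact ((Commute.zpow_left (hlin _ (mem_map_of_mem ρ (show (⟨u, hUW hu⟩ : M) ∈ U₀ from hu))) k)
      ).eq.symm
  have h3 : ρ ⁅(⟨u, hUW hu⟩ : M), g ^ k⁆ = 1 := by
    rw [map_commutatorElement, commutatorElement_eq_one_iff_mul_comm, ← map_mul, ← map_mul, h2]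
  exact (conjEnd_eq_one_iff W _).mp (hf ((congrArg Units.val h3).trans (map_one f).symm))

theorem GF_mod {p r s : ℕ} [Fact p.Prime] [Fact r.Prime] [Fact s.Prime] (hsr : s ≠ r)
    {N Y U : Subgroup G} {a : G} (hap : a ^ p = 1)
    (hpN : ¬ p ∣ Nat.card N) (hYN : Y ≤ normalizer (N : Set G)) (hcomm : ⁅Y, Y⁆ ≤ N)
    (hpow : ∀ y ∈ Y, y ^ s ∈ N) (hU : IsPGroup r U)
    (hUN : U ≤ normalizer (N : Set G)) (haN : a ∈ normalizer (N : Set G))
    (hUY : U ≤ normalizer (Y : Set G)) (haY : a ∈ normalizer (Y : Set G))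
    (haU : a ∈ normalizer (U : Set G))
    (hpU : ¬ p ∣ Nat.card U) (hCU : ⁅U ⊓ centralizer ({a} : Set G), Y⁆ ≤ N)
    (hCY : ⁅U, Y ⊓ centralizer ({a} : Set G)⁆ ≤ N) : ⁅U, Y⁆ ≤ N := by
  have := img_isMulCommutative hYN hcomm
  have hC : ∀ {S : Subgroup G}, S ≤ normalizer (N : Set G) → a ∈ normalizer (S : Set G) →
      img N S ⊓ centralizer ({nproj N ⟨a, haN⟩} : Set (NQuot N)) =
        img N (S ⊓ centralizer ({a} : Set G)) := by
    intro S hS haS
    have h := img_inf_centralizer hS (zpowers_le.mpr haN) (zpowers_le.mpr haS)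
      (coprime_card_zpowers hap hpN) (isSolvable_zpowers a)
    rw [img_zpowers haN] at h
    simpa only [zpowers_eq_closure, centralizer_closure] using h
  rw [← img_le_centralizer_iff hUN hYN]
  refine GF_group (p := p) (a := nproj N ⟨a, haN⟩) ?_ (img_le_normalizer hUY) ?_ ?_
    (by
      obtain ⟨k, hk⟩ := (img_isPGroup (N := N) hU).exists_card_eq
      obtain ⟨l, hl⟩ := (show IsPGroup s (img N Y) from fun v => ⟨1, Subtype.ext (by
        rw [pow_one]; simpa using img_pow_eq_one hpow _ v.2)⟩).exists_card_eq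
      rw [hk, hl]
      exact Nat.Coprime.pow k l ((Nat.coprime_primes Fact.out Fact.out).mpr hsr.symm))
    (fun h => hpU (h.trans (img_card_dvd hUN))) ?_ ?_
  · rw [← map_pow, show (⟨a, haN⟩ : ↥(normalizer (N : Set G))) ^ p = 1 from Subtype.ext hap, map_one]
  · exact img_le_normalizer (zpowers_le.mpr haY) (mem_img (mem_zpowers a) haN)
  · exact img_le_normalizer (zpowers_le.mpr haU) (mem_img (mem_zpowers a) haN)
  · rw [hC hUN haU]
    exact (img_le_centralizer_iff (inf_le_left.trans hUN) hYN).mpr hCU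
  · rw [hC hYN haY, le_centralizer_iff]
    exact (img_le_centralizer_iff hUN (inf_le_left.trans hYN)).mpr hCY

theorem OL_mod {p r s : ℕ} [Fact p.Prime] [Fact r.Prime] [Fact s.Prime] (hrp : r ≠ p)
    (hodd : Odd r) (hsr : s ≠ r) (hsp : s ≠ p) {N Y U : Subgroup G} {a : G} (hap : a ^ p = 1)
    (hpN : ¬ p ∣ Nat.card N) (hYN : Y ≤ normalizer (N : Set G)) (hcomm : ⁅Y, Y⁆ ≤ N)
    (hpow : ∀ y ∈ Y, y ^ s ∈ N) (hU : IsPGroup r U)
    (hUN : U ≤ normalizer (N : Set G)) (haN : a ∈ normalizer (N : Set G))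
    (hUY : U ≤ normalizer (Y : Set G)) (haY : a ∈ normalizer (Y : Set G))
    (haU : a ∈ normalizer (U : Set G))
    (hCY : ⁅U, Y ⊓ centralizer ({a} : Set G)⁆ ≤ N) : ⁅⁅U, zpowers a⁆, Y⁆ ≤ N := by
  have := img_isMulCommutative hYN hcomm
  have hza : zpowers a ≤ normalizer (N : Set G) := zpowers_le.mpr haN
  rw [← img_le_centralizer_iff ((commutator_mono hUN hza).trans
      (normalizer (N : Set G)).commutator_le_self) hYN, img_commutator hUN hza, img_zpowers haN]
  refine OL_group hrp hodd hsr hsp (img_pow_eq_one hpow) (img_isPGroup hU) ?_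
    (img_le_normalizer hUY) ?_ ?_ ?_
  · rw [← map_pow, show (⟨a, haN⟩ : ↥(normalizer (N : Set G))) ^ p = 1 from Subtype.ext hap, map_one]
  · exact img_le_normalizer (zpowers_le.mpr haY) (mem_img (mem_zpowers a) haN)
  · exact img_le_normalizer (zpowers_le.mpr haU) (mem_img (mem_zpowers a) haN)
  · have h := img_inf_centralizer hYN hza (zpowers_le.mpr haY)
      (coprime_card_zpowers hap hpN) (isSolvable_zpowers a)
    rw [img_zpowers haN, zpowers_eq_closure, centralizer_closure, zpowers_eq_closure,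
      centralizer_closure] at h
    rw [h, le_centralizer_iff]
    exact (img_le_centralizer_iff hUN (inf_le_left.trans hYN)).mpr hCY

end CfsgLib.SolvSig
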