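import Cfsg.Agent.SolvSig.Setting

/-!
# Bender's uniqueness lemma

`MinCE.bender` : two maximal members each containing the cores of the other are equal, as soon as
they share a prime `q` of their Fitting subgroups and one has a second prime.
-/

set_option autoImplicit false

open scoped commutatorElement

namespace CfsgLib.SolvSig

open Subgroup CfsgLib.Transitivity

variable {G : Type*} [Group G]

/-- The `q'`-elements of `M` centralising `O_q(M)`. -/
def qPrimePart (q : ℕ) (M : Subgroup G) : Subgroup G :=
  closure {x : G | x ∈ M ∧ x ∈ centralizer (core q M : Set G) ∧ (orderOf x).Coprime q}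

theorem qPrimePart_le (q : ℕ) (M : Subgroup G) : qPrimePart q M ≤ M :=
  (closure_le _).mpr fun _ hx => hx.1

theorem normalizer_le_normalizer_qPrimePart (q : ℕ) (M : Subgroup G) :
    normalizer (M : Set G) ≤ normalizer (qPrimePart q M : Set G) := by
  refine le_normalizer_of_forall_conj fun k hk y hy => ?_
  have hle : qPrimePart q M ≤ (qPrimePart q M).comap (MulAut.conj k).toMonoidHom := by
    refine (closure_le _).mpr fun x hx => ?_
    refine subset_closure ⟨(mem_normalizer_iff.mp hk x).mp hx.1,
      (mem_normalizer_iff.mp (mem_normalizer_centralizer (normalizer_le_normalizer_core q M hk)) x).mp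
        hx.2.1, ?_⟩
    rw [orderOf_injective (MulAut.conj k).toMonoidHom (MulAut.conj k).injective x]
    exact hx.2.2
  exact hle hy

variable [Finite G]

/-- An element centralising the cores of a solvable `M` is a product of an element of `O_q(M)` and
of one in the other cores. -/
theorem mem_cores_of_centralizes {q : ℕ} {M : Subgroup G} (hM : Group.IsSolvable ↥M) {z : G}
    (hzM : z ∈ M) (hz : ∀ v : ℕ, v.Prime → z ∈ centralizer (core v M : Set G)) :
    z ∈ core q M ⊔ ⨆ w : {w : ℕ // w.Prime ∧ w ≠ q}, core (w : ℕ) M := by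
  have hF : Cfsg.fittingSubgroup ↥M ≤
      (core q M ⊔ ⨆ w : {w : ℕ // w.Prime ∧ w ≠ q}, core (w : ℕ) M).comap M.subtype := by
    rw [Solvable.fittingSubgroup_eq_iSup]
    refine iSup_le fun v => map_le_iff_le_comap.mp ?_
    by_cases hv : (v : ℕ) = q
    · exact hv ▸ le_sup_left
    · exact le_trans (le_iSup (fun w : {w : ℕ // w.Prime ∧ w ≠ q} => core (w : ℕ) M) ⟨v, v.2, hv⟩)
        le_sup_right
  refine hF (show (⟨z, hzM⟩ : M) ∈ _ from
    Solvable.centralizer_fittingSubgroup_le (mem_centralizer_iff.mpr fun f hf => ?_))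
  have hle : Cfsg.fittingSubgroup ↥M ≤ (centralizer ({z} : Set G)).comap M.subtype := by
    rw [Solvable.fittingSubgroup_eq_iSup]
    refine iSup_le fun v y hy => ?_
    rw [mem_comap, mem_centralizer_singleton_iff]
    exact mem_centralizer_iff.mp (hz v v.2) y ⟨y, hy, rfl⟩
  exact Subtype.ext (mem_centralizer_singleton_iff.mp (hle hf))

theorem centralizer_core_le {q : ℕ} [Fact q.Prime] {M H : Subgroup G} (hM : Group.IsSolvable ↥M)
    (hFM : ∀ w : ℕ, w.Prime → core w M ≤ H) (hqH : core q H ≤ M) {x : G} (hxM : x ∈ M)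
    (hx : x ∈ centralizer (core q M : Set G)) (hxq : (orderOf x).Coprime q) :
    x ∈ centralizer (core q H : Set G) := by
  rw [mem_centralizer_iff]
  intro y hy
  have hyM : y ∈ M := hqH hy
  set P := core q M
  set W := ⨆ w : {w : ℕ // w.Prime ∧ w ≠ q}, core (w : ℕ) M
  have hyW : ∀ w : ℕ, w.Prime → w ≠ q → y ∈ centralizer (core w M : Set G) := by
    intro w hw hwq
    have := Fact.mk hw
    refine (commutator_eq_bot_iff_le_centralizer.mp ?_ : core q H ≤ centralizer (core w M : Set G)) hy
    refine le_bot_iff.mp (le_trans (le_inf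
      (le_normalizer_iff_commutator_le_left.mp ((hFM w hw).trans (le_normalizer_core q H)))
      (le_normalizer_iff_commutator_le_right.mp (hqH.trans (le_normalizer_core w M)))) ?_)
    exact disjoint_iff_inf_le.mp
      (IsPGroup.disjoint_of_ne q w hwq.symm _ _ (core_isPGroup q H) (core_isPGroup w M))
  set z := ⁅x, y⁆ with hz
  have hzM : z ∈ M := M.commutator_le_self (commutator_mem_commutator hxM hyM)
  have hxn : ∀ v : ℕ, x ∈ normalizer (core v M : Set G) := fun v => le_normalizer_core v M hxM
  have hzC : ∀ v : ℕ, v.Prime → z ∈ centralizer (core v M : Set G) := by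
    intro v hv
    by_cases hvq : v = q
    · subst hvq
      rw [hz, commutatorElement_def, mul_assoc, mul_assoc]
      refine mul_mem hx ?_
      rw [← mul_assoc]
      exact (mem_normalizer_iff.mp
        (mem_normalizer_centralizer (le_normalizer_core v M hyM)) _).mp (inv_mem hx)
    · rw [hz, commutatorElement_def]
      exact mul_mem ((mem_normalizer_iff.mp
        (mem_normalizer_centralizer (hxn v)) y).mp (hyW v hv hvq)) (inv_mem (hyW v hv hvq))
  have hWP : P ≤ centralizer (W : Set G) := by
    rw [le_centralizer_iff]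
    refine iSup_le fun w => ?_
    have := Fact.mk w.2.1
    exact core_le_centralizer_core w.2.2 M
  have hyW' : y ∈ centralizer (W : Set G) := by
    have hle : W ≤ centralizer ((zpowers y : Subgroup G) : Set G) := iSup_le fun w =>
      le_centralizer_iff.mp (zpowers_le.mpr (hyW w w.2.1 w.2.2))
    exact le_centralizer_iff.mp hle (mem_zpowers y)
  have hWn : P ≤ normalizer (W : Set G) := hWP.trans (centralizer_le_normalizer _)
  obtain ⟨w, hw, u, hu, e⟩ := Coprime.exists_mul_of_mem_sup hWn
    (sup_comm P W ▸ mem_cores_of_centralizes hM hzM hzC : z ∈ W ⊔ P)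
  have hzP : z ∈ P := by
    have hyP : zpowers y ≤ normalizer (P : Set G) := zpowers_le.mpr (le_normalizer_core q M hyM)
    have hy2 : IsPGroup q (zpowers y) := (core_isPGroup q H).to_le (zpowers_le.mpr hy)
    obtain ⟨k, hk⟩ := ((core_isPGroup q M).to_sup_of_normal_left' hy2 hyP)
      ⟨u * y, mul_mem (mem_sup_left hu) (mem_sup_right (mem_zpowers y))⟩
    replace hk : (u * y) ^ q ^ k = 1 := congrArg Subtype.val hk
    obtain ⟨m, hm⟩ := (core_isPGroup q H) ⟨y, hy⟩
    replace hm : y ^ q ^ m = 1 := congrArg Subtype.val hm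
    have hcomm : Commute w (u * y) := Commute.mul_right
      (mem_centralizer_iff.mp (hWP hu) w hw) (mem_centralizer_iff.mp hyW' w hw)
    have hwy : (w * (u * y)) ^ q ^ m = 1 := by
      rw [← mul_assoc, e, hz, commutatorElement_def, inv_mul_cancel_right,
        conj_pow, hm, mul_one, mul_inv_cancel]
    have h1 : w ^ (q ^ (m + k)) = 1 := by
      have : (w * (u * y)) ^ q ^ (m + k) = 1 := by rw [pow_add, pow_mul, hwy, one_pow]
      rwa [hcomm.mul_pow, pow_add (a := q) (m := m), mul_comm, pow_mul (a := u * y), hk, one_pow,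
        mul_one, mul_comm, ← pow_add] at this
    have hw' : w ∈ core' q M := by
      refine (show W ≤ core' q M from iSup_le fun v => le_core' (core_le _ M)
        (le_normalizer_core _ M) ?_) hw
      have := Fact.mk v.2.1
      obtain ⟨n, hn⟩ := (core_isPGroup (v : ℕ) M).exists_card_eq
      rw [hn]
      exact ((Nat.coprime_primes v.2.1 Fact.out).mpr v.2.2).pow_left n
    rw [← e, orderOf_eq_one_iff.mp (Nat.eq_one_of_dvd_coprimes
      ((card_core'_coprime q M).pow_right (m + k)) (Subgroup.orderOf_dvd_natCard _ hw')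
      (orderOf_dvd_of_pow_eq_one h1)), one_mul]
    exact hu
  have hxz : Commute x z := (mem_centralizer_iff.mp hx z hzP).symm
  have hxy : ∀ i : ℕ, x ^ i * y = z ^ i * y * x ^ i := by
    intro i
    induction i with
    | zero => simp
    | succ i ih =>
      calc x ^ (i + 1) * y = x * (x ^ i * y) := by rw [pow_succ', mul_assoc]
        _ = x * z ^ i * y * x ^ i := by rw [ih]; group
        _ = z ^ i * (x * y) * x ^ i := by rw [(hxz.pow_right i).eq]; group
        _ = z ^ i * (z * y * x) * x ^ i := by rw [hz, commutatorElement_def]; group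
        _ = z ^ (i + 1) * y * x ^ (i + 1) := by rw [pow_succ, pow_succ']; group
  have hz1 : z ^ orderOf x = 1 := by
    have := hxy (orderOf x)
    rwa [pow_orderOf_eq_one, one_mul, mul_one, right_eq_mul] at this
  obtain ⟨n, hn⟩ := (core_isPGroup q M) ⟨z, hzP⟩
  have : z = 1 := orderOf_eq_one_iff.mp (Nat.eq_one_of_dvd_coprimes (hxq.pow_right n)
    (orderOf_dvd_of_pow_eq_one hz1) (orderOf_dvd_of_pow_eq_one (congrArg Subtype.val hn)))
  exact (commutatorElement_eq_one_iff_mul_comm.mp this).symm

variable {p : ℕ} [Fact p.Prime] {A : Subgroup G} {θ : G → Subgroup G}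

namespace MinCE

variable (h : MinCE p A θ)

include h

theorem qPrimePart_le_qPrimePart {q : ℕ} [Fact q.Prime] {M H : Subgroup G}
    (hM : IsMax p A θ M) (hH : IsMax p A θ H) (hFM : ∀ w : ℕ, w.Prime → core w M ≤ H)
    (hqH : core q H ≤ M) (hne : core q H ≠ ⊥) : qPrimePart q M ≤ qPrimePart q H := by
  have hC : qPrimePart q M ≤ centralizer (core q H : Set G) :=
    (closure_le _).mpr fun x hx => centralizer_core_le hM.1.1 hFM hqH hx.1 hx.2.1 hx.2.2
  have hmem : qPrimePart q M ∈ Cfsg.signalizerFamily p A θ := mem_of_le hM.1 (qPrimePart_le q M)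
    ((family_le_normalizer hM.1).trans (normalizer_le_normalizer_qPrimePart q M))
  have hle : qPrimePart q M ≤ H :=
    h.le_max_core hH hne hmem (hC.trans (centralizer_le_normalizer _))
  exact (closure_le _).mpr fun x hx =>
    subset_closure ⟨hle (subset_closure hx), hC (subset_closure hx), hx.2.2⟩

/-- Bender's uniqueness lemma. -/
theorem bender {q t : ℕ} [Fact q.Prime] [Fact t.Prime] (htq : t ≠ q) {M H : Subgroup G}
    (hM : IsMax p A θ M) (hH : IsMax p A θ H) (hFM : ∀ w : ℕ, w.Prime → core w M ≤ H)
    (hFH : ∀ w : ℕ, w.Prime → core w H ≤ M) (hqM : core q M ≠ ⊥) (hqH : core q H ≠ ⊥)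
    (ht : core t M ≠ ⊥) : M = H := by
  have heq : qPrimePart q M = qPrimePart q H :=
    le_antisymm (h.qPrimePart_le_qPrimePart hM hH hFM (hFH q Fact.out) hqH)
      (h.qPrimePart_le_qPrimePart hH hM hFH (hFM q Fact.out) hqM)
  have hmem : qPrimePart q M ∈ Cfsg.signalizerFamily p A θ := mem_of_le hM.1 (qPrimePart_le q M)
    ((family_le_normalizer hM.1).trans (normalizer_le_normalizer_qPrimePart q M))
  have hne : qPrimePart q M ≠ ⊥ := by
    intro e
    refine ht (le_bot_iff.mp (e ▸ fun x hx => subset_closure ⟨core_le t M hx,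
      core_le_centralizer_core htq M hx, ?_⟩))
    obtain ⟨n, hn⟩ := (core_isPGroup t M) ⟨x, hx⟩
    exact (((Nat.coprime_primes Fact.out Fact.out).mpr htq).pow_left n).coprime_dvd_left
      (orderOf_dvd_of_pow_eq_one (congrArg Subtype.val hn))
  have hle : H ≤ M := h.le_max hM hmem hne (le_normalizer.trans
    (normalizer_le_normalizer_qPrimePart q M)) hH.1
    (heq ▸ le_normalizer.trans (normalizer_le_normalizer_qPrimePart q H))
  exact hH.2 M hM.1 hle

end MinCE

end CfsgLib.SolvSig
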