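import Cfsg.Agent.SolvSig.Ring
import Cfsg.Agent.Coprime.Action
import Mathlib.Algebra.Order.Chebyshev
import Mathlib.FieldTheory.IsSepClosed
import Mathlib.RingTheory.RootsOfUnity.AlgebraicallyClosed

/-!
# The operator lemma for odd primes

`linearOL`: if a finite `r`-group `U` of linear operators, `r` odd, is normalised by an operator
`a` of prime order `p ≠ r` without fixed points, then `a` centralises `U` (coprime characteristic).
-/

set_option autoImplicit false

namespace CfsgLib.SolvSig

open Subgroup Finset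

/-- The arithmetic of the exceptional configuration: it needs `d = p - 1` even. -/
theorem no_odd_exception {p d D c f : ℕ} (hp : p.Prime) (hd : 1 < d) (hodd : Odd d)
    (hdvd : p ∣ d * d - 1) (hc : 0 < c) (hD : D * D = d * d * c)
    (hlow : D * D ≤ (p - 1) * f) (hup : p * f ≤ (d * d + p - 1) * c) : False := by
  have hp2 := hp.two_le
  obtain ⟨k, rfl⟩ : ∃ k, p = k + 1 := ⟨p - 1, by omega⟩
  simp only [Nat.add_sub_cancel] at hlow
  have hdd : d * d + (k + 1) - 1 = d * d + k := by omega
  rw [hdd] at hup
  have h1 : (k + 1) * (d * d * c) ≤ k * ((d * d + k) * c) := by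
    rw [← hD]
    calc (k + 1) * (D * D) ≤ (k + 1) * (k * f) := Nat.mul_le_mul_left _ hlow
      _ = k * ((k + 1) * f) := by ring
      _ ≤ k * ((d * d + k) * c) := Nat.mul_le_mul_left _ hup
  have h2 : d * d ≤ k * k := by nlinarith
  have hdk : d ≤ k := Nat.mul_self_le_mul_self_iff.mp h2
  have h3 : d * d - 1 = (d - 1) * (d + 1) := by
    obtain ⟨e, rfl⟩ : ∃ e, d = e + 1 := ⟨d - 1, by omega⟩
    simp only [Nat.add_sub_cancel]
    have : (e + 1) * (e + 1) = e * (e + 2) + 1 := by ring
    rw [this, Nat.add_sub_cancel]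
  rw [h3] at hdvd
  rcases (Nat.Prime.dvd_mul hp).mp hdvd with h | h
  · exact absurd (Nat.le_of_dvd (by omega) h) (by omega)
  · have h4 : d + 1 = k + 1 := le_antisymm (by omega) (Nat.le_of_dvd (by omega) h)
    obtain ⟨m, hm⟩ := hodd
    have h5 : 2 ∣ k + 1 := ⟨m + 1, by omega⟩
    have h6 := (Nat.prime_dvd_prime_iff_eq Nat.prime_two hp).mp h5
    omega

section

variable {L : Type*} [Field L] [IsAlgClosed L] {V : Type*} [AddCommGroup V] [Module L V]

omit [IsAlgClosed L] in
/-- Lower bound on the centraliser of an element of order `p` without fixed points. -/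
theorem sq_finrank_le_centralizer [IsAlgClosed L] [FiniteDimensional L V] {p : ℕ} [Fact p.Prime]
    (hp : (p : L) ≠ 0) {a : Module.End L V} (hap : a ^ p = 1)
    (hsum : ∑ k ∈ range p, a ^ k = 0) (F : Submodule L (Module.End L V))
    (hF : ∀ x, a * x = x * a → x ∈ F) :
    Module.finrank L V * Module.finrank L V ≤ (p - 1) * Module.finrank L F := by
  classical
  have : NeZero (p : L) := ⟨hp⟩
  obtain ⟨ω, hω⟩ := HasEnoughRootsOfUnity.exists_primitiveRoot L p
  have hp1 := (Fact.out : p.Prime).one_lt
  obtain ⟨e, he⟩ : ∃ e : ℕ → Module.End L V,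
      ∀ i, e i = (p : L)⁻¹ • ∑ k ∈ range p, (ω ^ i • a) ^ k := ⟨_, fun _ => rfl⟩
  have hae : ∀ i, a * e i = e i * a := fun i => by
    simp only [he, mul_smul_comm, smul_mul_assoc]
    exact congrArg _ (Commute.sum_right _ _ _ fun k _ => ((Commute.refl a).smul_right _).pow_right k).eq
  have hbp : ∀ i, (ω ^ i • a) ^ p = 1 := fun i => by
    rw [smul_pow, hap, ← pow_mul, mul_comm, pow_mul, hω.pow_eq_one, one_pow, one_smul]
  have hshift : ∀ i, (ω ^ i) • (a * e i) = e i := by
    intro i
    have h := mul_geom_sum (ω ^ i • a) p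
    rw [hbp, sub_self, sub_mul, one_mul, sub_eq_zero] at h
    rw [← smul_mul_assoc, he, mul_smul_comm, h]
  have hpow : ∀ i k, (ω ^ i • a) ^ k * e i = e i := by
    intro i k
    induction k with
    | zero => simp
    | succ k ih => rw [pow_succ, mul_assoc, smul_mul_assoc, hshift i, ih]
  have hidem : ∀ i, e i * e i = e i := by
    intro i
    conv_lhs => arg 1; rw [he]
    rw [smul_mul_assoc, sum_mul, Finset.sum_congr rfl fun k _ => hpow i k,
      sum_const, card_range, ← Nat.cast_smul_eq_nsmul L, smul_smul, inv_mul_cancel₀ hp, one_smul]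
  have horth : ∀ i j, i < p → j < p → i ≠ j → e i * e j = 0 := by
    intro i j hi hj hij
    have hij' : ω ^ i ≠ ω ^ j := fun h => hij (hω.pow_inj hi hj h)
    have h1 : (ω ^ j) • (a * (e i * e j)) = e i * e j := by
      conv_rhs => rw [← hshift j]
      rw [← mul_assoc, hae, mul_assoc, mul_smul_comm]
    have h2 : (ω ^ i) • (a * (e i * e j)) = e i * e j := by
      conv_rhs => rw [← hshift i]
      simp only [smul_mul_assoc, mul_assoc]
    have h3 : (ω ^ i - ω ^ j) • (a * (e i * e j)) = 0 := by rw [sub_smul, h1, h2, sub_self]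
    rw [← h1, (smul_eq_zero.mp h3).resolve_left (sub_ne_zero.mpr hij'), smul_zero]
  have he0 : e 0 = 0 := by simp [he, hsum]
  have htot : ∑ i ∈ range p, e i = 1 := by
    simp only [he, smul_pow, ← pow_mul, ← smul_sum]
    rw [sum_comm]
    simp only [← sum_smul]
    rw [Finset.sum_eq_single 0 (fun k hk hk0 => ?_) (fun h => absurd (mem_range.mpr (by omega)) h)]
    · simp [smul_smul, hp]
    · have hk1 : ω ^ k ≠ 1 := hω.pow_ne_one_of_pos_of_lt hk0 (mem_range.mp hk)
      have h1 : ∑ i ∈ range p, (ω ^ k) ^ i = 0 := by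
        rw [geom_sum_eq hk1, ← pow_mul, mul_comm, pow_mul, hω.pow_eq_one, one_pow, sub_self,
          zero_div]
      rw [Finset.sum_congr rfl fun i _ => show ω ^ (i * k) = (ω ^ k) ^ i by rw [← pow_mul, mul_comm],
        h1, zero_smul]
  have hrange : ∀ (i : ↥(Finset.Ico 1 p)) (x : LinearMap.range (e i)), e i x = x := by
    rintro i ⟨_, y, rfl⟩
    exact LinearMap.congr_fun (hidem i) y
  have h1 : Module.finrank L V ≤ ∑ i : ↥(Finset.Ico 1 p), Module.finrank L (LinearMap.range (e i)) := by
    rw [← Module.finrank_pi_fintype L]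
    refine LinearMap.finrank_le_finrank_of_injective
      (f := LinearMap.pi fun i : ↥(Finset.Ico 1 p) => (e i).rangeRestrict) fun v w hvw => ?_
    have hh : ∀ i ∈ range p, e i v = e i w := by
      intro i hi
      by_cases h : i = 0
      · simp [h, he0]
      · exact congrArg Subtype.val
          (congrFun hvw ⟨i, Finset.mem_Ico.mpr ⟨by omega, mem_range.mp hi⟩⟩)
    have := Finset.sum_congr rfl hh
    simpa [← LinearMap.sum_apply, htot] using this
  let Θ : (∀ i : ↥(Finset.Ico 1 p), Module.End L (LinearMap.range (e i))) →ₗ[L] Module.End L V :=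
    { toFun := fun f => ∑ i : ↥(Finset.Ico 1 p), (LinearMap.range (e i)).subtype ∘ₗ f i ∘ₗ (e i).rangeRestrict
      map_add' := fun f g => by
        simp [LinearMap.add_comp, LinearMap.comp_add, sum_add_distrib]
      map_smul' := fun c f => by simp [LinearMap.smul_comp, LinearMap.comp_smul, smul_sum] }
  have hΘmem : ∀ f, Θ f ∈ F := by
    intro f
    show (∑ i : ↥(Finset.Ico 1 p),
      (LinearMap.range (e i)).subtype ∘ₗ f i ∘ₗ (e i).rangeRestrict) ∈ F
    refine Submodule.sum_mem F fun i _ => hF _ ?_
    ext v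
    show a ((f i ((e i).rangeRestrict v) : LinearMap.range (e i)) : V) =
      ((f i ((e i).rangeRestrict (a v)) : LinearMap.range (e i)) : V)
    have hi : ω ^ (i : ℕ) ≠ 0 := pow_ne_zero _ (hω.ne_zero (Fact.out : p.Prime).ne_zero)
    have hsc : ∀ x : LinearMap.range (e i), a x = (ω ^ (i : ℕ))⁻¹ • (x : V) := by
      intro x
      have := LinearMap.congr_fun (hshift i) (x : V)
      simp only [LinearMap.smul_apply, Module.End.mul_apply, hrange] at this
      rw [eq_inv_smul_iff₀ hi]
      exact this
    have hev : (e i).rangeRestrict (a v) = (ω ^ (i : ℕ))⁻¹ • (e i).rangeRestrict v := by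
      refine Subtype.ext ?_
      show e i (a v) = (ω ^ (i : ℕ))⁻¹ • e i v
      rw [← Module.End.mul_apply, ← hae, Module.End.mul_apply]
      exact hsc ((e i).rangeRestrict v)
    rw [hsc, hev, map_smul, Submodule.coe_smul]
  have h2 : ∑ i : ↥(Finset.Ico 1 p), Module.finrank L (LinearMap.range (e i)) * Module.finrank L (LinearMap.range (e i))
      ≤ Module.finrank L F := by
    refine le_of_eq_of_le (?_ : _ = Module.finrank L
      (∀ i : ↥(Finset.Ico 1 p), Module.End L (LinearMap.range (e i)))) ?_
    · rw [Module.finrank_pi_fintype]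
      exact Finset.sum_congr rfl fun i _ => (Module.finrank_linearMap (R := L) L _ _).symm
    refine LinearMap.finrank_le_finrank_of_injective (f := Θ.codRestrict F hΘmem) fun f g hfg => ?_
    funext j
    refine LinearMap.ext fun x => Subtype.ext ?_
    have key : ∀ f, Θ f x = ((f j x : LinearMap.range (e j)) : V) := by
      intro f
      show (∑ i : ↥(Finset.Ico 1 p),
        (LinearMap.range (e i)).subtype ∘ₗ f i ∘ₗ (e i).rangeRestrict) (x : V) = _
      rw [LinearMap.sum_apply, Finset.sum_eq_single j (fun i _ hij => ?_)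
        fun h => absurd (mem_univ _) h]
      · show ((f j ((e j).rangeRestrict x) : LinearMap.range (e j)) : V) = _
        rw [show (e j).rangeRestrict (x : V) = x from Subtype.ext (hrange j x)]
      · show ((f i ((e i).rangeRestrict x) : LinearMap.range (e i)) : V) = 0
        rw [show (e i).rangeRestrict (x : V) = 0 from Subtype.ext ?_, map_zero, Submodule.coe_zero]
        show e i (x : V) = 0
        rw [← hrange j x, ← Module.End.mul_apply, horth i j (Finset.mem_Ico.mp i.2).2
          (Finset.mem_Ico.mp j.2).2 fun h => hij (Subtype.ext h), LinearMap.zero_apply]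
    rw [← key f, ← key g]
    exact LinearMap.congr_fun (congrArg Subtype.val hfg) _
  have hcs := sq_sum_le_card_mul_sum_sq (s := (univ : Finset ↥(Finset.Ico 1 p)))
    (f := fun i => Module.finrank L (LinearMap.range (e i)))
  simp only [pow_two, card_univ, Fintype.card_coe, Nat.card_Ico] at hcs
  exact (Nat.mul_le_mul h1 h1).trans (hcs.trans (Nat.mul_le_mul_left _ h2))

end

end CfsgLib.SolvSig
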