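import Cfsg.Agent.SolvSig.Linear

/-!
# `linearOL`
-/

set_option autoImplicit false

open scoped commutatorElement

namespace CfsgLib.SolvSig

open Subgroup Finset

universe v

variable {L : Type*} [Field L] [IsAlgClosed L]

omit [IsAlgClosed L] in
/-- The stabiliser of a subspace in the unit group. -/
def subspaceStab {V : Type v} [AddCommGroup V] [Module L V] [FiniteDimensional L V]
    (W : Submodule L V) : Subgroup (Module.End L V)ˣ where
  carrier := {g | ∀ w ∈ W, (g : Module.End L V) w ∈ W}
  one_mem' := fun w hw => by simpa using hw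
  mul_mem' := fun {g h} hg hh w hw => by
    rw [Units.val_mul, Module.End.mul_apply]
    exact hg _ (hh w hw)
  inv_mem' := fun {g} hg w hw => by
    have hinj : Function.Injective ((g : Module.End L V).restrict hg) := fun x y h => Subtype.ext (by
      have h1 := congrArg (fun z : W => ((g⁻¹ : (Module.End L V)ˣ) : Module.End L V) z) h
      simpa [← Module.End.mul_apply] using h1)
    obtain ⟨x, hx⟩ := LinearMap.surjective_of_injective hinj ⟨w, hw⟩
    have hgx : (g : Module.End L V) x = w := congrArg Subtype.val hx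
    rw [← hgx, ← Module.End.mul_apply, ← Units.val_mul, inv_mul_cancel, Units.val_one,
      Module.End.one_apply]
    exact x.2

section

variable {V : Type v} [AddCommGroup V] [Module L V] [FiniteDimensional L V]

omit [IsAlgClosed L] [FiniteDimensional L V] in
/-- A unipotent operator of order invertible in `L` is trivial. -/
theorem eq_one_of_sq_zero {g : Module.End L V} {m : ℕ} (hm : (m : L) ≠ 0) (hg : g ^ m = 1)
    (hsq : (g - 1) * (g - 1) = 0) : g = 1 := by
  have key : ∀ k : ℕ, g ^ k = 1 + k • (g - 1) := by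
    intro k
    induction k with
    | zero => simp
    | succ k ih =>
      rw [pow_succ, ih]
      nth_rw 2 [show g = 1 + (g - 1) by abel]
      rw [mul_add, mul_one, add_mul, one_mul, smul_mul_assoc, hsq, smul_zero, add_zero, add_assoc,
        succ_nsmul]
  have h := key m
  rw [hg, eq_comm, add_eq_left, ← Nat.cast_smul_eq_nsmul L, smul_eq_zero] at h
  exact sub_eq_zero.mp (h.resolve_left hm)

/-- Transport of the hypotheses along a hom of unit groups: the commutator vanishes in the image. -/
theorem commutator_map_eq_one {W : Type v} [AddCommGroup W] [Module L W]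
    (S : Subgroup (Module.End L V)ˣ) (f : S →* (Module.End L W)ˣ)
    {a u : (Module.End L V)ˣ} (ha : a ∈ S) (hu : u ∈ S)
    (h : f ⟨a, ha⟩ * f ⟨u, hu⟩ = f ⟨u, hu⟩ * f ⟨a, ha⟩) :
    f ⟨⁅a, u⁆, mul_mem (mul_mem (mul_mem ha hu) (inv_mem ha)) (inv_mem hu)⟩ = 1 := by
  rw [show (⟨⁅a, u⁆, _⟩ : S) = ⁅(⟨a, ha⟩ : S), ⟨u, hu⟩⁆ from Subtype.ext rfl, map_commutatorElement,
    commutatorElement_eq_one_iff_mul_comm]
  exact h

end

/-- The normaliser of a subgroup normalises its centraliser. -/
theorem mem_normalizer_centralizer {G : Type*} [Group G] {U : Subgroup G} {g : G}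
    (hg : g ∈ normalizer (U : Set G)) : g ∈ normalizer ((centralizer (U : Set G) : Subgroup G) : Set G) := by
  have key : ∀ h ∈ normalizer (U : Set G), ∀ x ∈ centralizer (U : Set G),
      h * x * h⁻¹ ∈ centralizer (U : Set G) := by
    intro h hh x hx
    rw [mem_centralizer_iff]
    intro u hu
    have h1 := mem_centralizer_iff.mp hx (h⁻¹ * u * h) (by
      simpa using (mem_normalizer_iff.mp (inv_mem hh) u).mp hu)
    calc u * (h * x * h⁻¹) = h * ((h⁻¹ * u * h) * x) * h⁻¹ := by group
      _ = h * (x * (h⁻¹ * u * h)) * h⁻¹ := by rw [h1]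
      _ = h * x * h⁻¹ * u := by group
  refine mem_normalizer_iff.mpr fun x => ⟨key g hg x, fun hx => ?_⟩
  simpa [mul_assoc] using key g⁻¹ (inv_mem hg) _ hx

/-- If a finite `r`-group `U` of operators, `r` odd, is normalised by an operator `a` of order
`p ≠ r` without fixed points, then `a` centralises `U`. -/
theorem linearOL {V : Type v} [AddCommGroup V] [Module L V] [FiniteDimensional L V] {r p : ℕ}
    [Fact r.Prime] [Fact p.Prime] (hrp : r ≠ p) (hodd : Odd r) (hr : (r : L) ≠ 0) (hp : (p : L) ≠ 0)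
    {U : Subgroup (Module.End L V)ˣ} [Finite U] (hU : IsPGroup r U) {a : (Module.End L V)ˣ}
    (hap : a ^ p = 1) (haU : a ∈ normalizer (U : Set (Module.End L V)ˣ))
    (hsum : ∑ k ∈ range p, (a : Module.End L V) ^ k = 0) : ∀ u ∈ U, a * u = u * a := by
  suffices key : ∀ (n : ℕ) (V : Type v) [AddCommGroup V] [Module L V] [FiniteDimensional L V]
      (U : Subgroup (Module.End L V)ˣ) (a : (Module.End L V)ˣ), Finite U → IsPGroup r U →
      a ^ p = 1 → a ∈ normalizer (U : Set (Module.End L V)ˣ) →
      ∑ k ∈ range p, (a : Module.End L V) ^ k = 0 →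
      Nat.card U + Module.finrank L V = n → ∀ u ∈ U, a * u = u * a from
    key _ V U a inferInstance hU hap haU hsum rfl
  intro n
  induction n using Nat.strongRecOn with
  | ind n ih =>
  intro V _ _ _ U a hfin hU hap haU hsum hn
  classical
  by_contra! hnc
  have hUp : ∀ {g : (Module.End L V)ˣ}, g ∈ U → g ^ p = 1 → g = 1 := by
    intro g hg hgp
    obtain ⟨k, hk⟩ := hU ⟨g, hg⟩
    refine orderOf_eq_one_iff.mp (Nat.eq_one_of_dvd_coprimes
      (Nat.Coprime.pow_left k ((Nat.coprime_primes Fact.out Fact.out).mpr hrp))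
      (orderOf_dvd_of_pow_eq_one (congrArg Subtype.val hk)) (orderOf_dvd_of_pow_eq_one hgp))
  obtain ⟨N, hN⟩ := hU.exists_card_eq
  have hUcard : (Nat.card U : L) ≠ 0 := by rw [hN, Nat.cast_pow]; exact pow_ne_zero _ hr
  -- proper invariant subgroups are centralised
  have hprop : ∀ K < U, a ∈ normalizer (K : Set (Module.End L V)ˣ) → ∀ k ∈ K, a * k = k * a := by
    intro K hK haK
    have : Finite K := Finite.of_injective _ (Subgroup.inclusion_injective hK.le)
    refine ih _ ?_ V K a this (hU.to_le hK.le) hap haK hsum rfl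
    rw [← hn]
    refine Nat.add_lt_add_right (lt_of_le_of_ne (Nat.le_of_dvd Nat.card_pos (card_dvd_of_le hK.le))
      fun h => hK.ne (eq_of_le_of_card_ge hK.le h.ge)) _
  -- a commutes with g ∈ U and with [a,u] only trivially
  have hcomm0 : ∀ u ∈ U, a * ⁅a, u⁆ = ⁅a, u⁆ * a → ⁅a, u⁆ = 1 := by
    intro u hu hg
    have hgU : ⁅a, u⁆ ∈ U := by
      rw [commutatorElement_def]
      exact mul_mem ((mem_normalizer_iff.mp haU u).mp hu) (inv_mem hu)
    refine hUp hgU ?_
    have key : ∀ k : ℕ, a ^ k * u * (a ^ k)⁻¹ = ⁅a, u⁆ ^ k * u := by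
      intro k
      induction k with
      | zero => simp
      | succ k ihk =>
        have h1 : a * ⁅a, u⁆ ^ k * a⁻¹ = ⁅a, u⁆ ^ k := by
          rw [((Commute.pow_right hg k)).eq, mul_inv_cancel_right]
        calc a ^ (k + 1) * u * (a ^ (k + 1))⁻¹ = a * (a ^ k * u * (a ^ k)⁻¹) * a⁻¹ := by
              rw [pow_succ']; group
          _ = (a * ⁅a, u⁆ ^ k * a⁻¹) * (a * u * a⁻¹ * u⁻¹ * u) := by rw [ihk]; group
          _ = ⁅a, u⁆ ^ (k + 1) * u := by rw [h1, ← commutatorElement_def, pow_succ, mul_assoc]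
    have h := key p
    rw [hap, inv_one, mul_one, one_mul, eq_comm, mul_eq_right] at h
    exact h
  -- no invariant subspace
  have hirr : ∀ W : Submodule L V, (∀ u ∈ U, ∀ w ∈ W, (u : Module.End L V) w ∈ W) →
      (∀ w ∈ W, (a : Module.End L V) w ∈ W) → W = ⊥ ∨ W = ⊤ := by
    intro W hUW haW
    by_contra! hW
    obtain ⟨hW0, hW1⟩ := hW
    set S := subspaceStab W
    have hUS : U ≤ S := hUW
    have haS : a ∈ S := haW
    let res : S →* (Module.End L W)ˣ :=
      ({ toFun := fun g : S => ((g : (Module.End L V)ˣ) : Module.End L V).restrict g.2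
         map_one' := LinearMap.ext fun w => Subtype.ext rfl
         map_mul' := fun g h => LinearMap.ext fun w => Subtype.ext rfl } :
        S →* Module.End L W).toHomUnits
    let quo : S →* (Module.End L (V ⧸ W))ˣ :=
      ({ toFun := fun g : S => W.mapQ W ((g : (Module.End L V)ˣ) : Module.End L V) g.2
         map_one' := LinearMap.ext fun q => by
           induction q using Submodule.Quotient.induction_on with | H v => rfl
         map_mul' := fun g h => LinearMap.ext fun q => by
           induction q using Submodule.Quotient.induction_on with | H v => rfl } :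
        S →* Module.End L (V ⧸ W)).toHomUnits
    have hres : ∀ (X : Type v) [AddCommGroup X] [Module L X] [FiniteDimensional L X]
        (f : S →* (Module.End L X)ˣ), Module.finrank L X < Module.finrank L V →
        (∑ k ∈ range p, (f ⟨a, haS⟩ : Module.End L X) ^ k = 0) → ∀ u (hu : u ∈ U),
        f ⟨a, haS⟩ * f ⟨u, hUS hu⟩ = f ⟨u, hUS hu⟩ * f ⟨a, haS⟩ := by
      intro X _ _ _ f hlt hs u hu
      have : Finite (U.subgroupOf S) := Finite.of_equiv U (subgroupOfEquivOfLe hUS).symm.toEquiv
      have : Finite ((U.subgroupOf S).map f) := Finite.of_surjective _ (f.subgroupMap_surjective _)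
      refine ih _ ?_ X _ _ this ((hU.of_equiv (subgroupOfEquivOfLe hUS).symm).map f) ?_ ?_ hs rfl _
        (mem_map_of_mem f hu)
      · rw [← hn]
        refine Nat.add_lt_add_of_le_of_lt ?_ hlt
        rw [← Nat.card_congr (subgroupOfEquivOfLe hUS).toEquiv]
        exact Nat.card_le_card_of_surjective _ (f.subgroupMap_surjective _)
      · rw [← map_pow]
        convert map_one f
        exact Subtype.ext hap
      · refine le_normalizer_map f ⟨⟨a, haS⟩, ?_, rfl⟩
        rw [SetLike.mem_coe, mem_normalizer_iff]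
        exact fun x => mem_normalizer_iff.mp haU _
    have hfr : Module.finrank L W < Module.finrank L V := Submodule.finrank_lt hW1
    have hfq : Module.finrank L (V ⧸ W) < Module.finrank L V := by
      have h1 := W.finrank_quotient_add_finrank
      have h2 : 0 < Module.finrank L W := Submodule.one_le_finrank_iff.mpr hW0
      omega
    have hpowS : ∀ k : ℕ, ((⟨a, haS⟩ : S) ^ k : S).1.1 = (a : Module.End L V) ^ k := fun k => by
      simp
    obtain ⟨u, hu, hau⟩ := hnc
    refine hau ?_
    rw [← commutatorElement_eq_one_iff_mul_comm]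
    have hgU : ⁅a, u⁆ ∈ U := by
      rw [commutatorElement_def]
      exact mul_mem ((mem_normalizer_iff.mp haU u).mp hu) (inv_mem hu)
    have e1 := commutator_map_eq_one S res haS (hUS hu) (hres W res hfr (by
      refine LinearMap.ext fun w => Subtype.ext ?_
      rw [LinearMap.sum_apply, AddSubmonoidClass.coe_finsetSum, LinearMap.zero_apply,
        Submodule.coe_zero]
      have h := LinearMap.congr_fun hsum (w : V)
      rw [LinearMap.sum_apply, LinearMap.zero_apply] at h
      refine Eq.trans (Finset.sum_congr rfl fun k _ => ?_) h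
      rw [← Units.val_pow_eq_pow_val, ← map_pow, ← hpowS k]
      rfl) u hu)
    have e2 := commutator_map_eq_one S quo haS (hUS hu) (hres (V ⧸ W) quo hfq (by
      refine LinearMap.ext fun q => ?_
      induction q using Submodule.Quotient.induction_on with | H v => ?_
      rw [LinearMap.sum_apply, LinearMap.zero_apply]
      have h := congrArg (Submodule.Quotient.mk (p := W)) (LinearMap.congr_fun hsum v)
      rw [LinearMap.sum_apply, LinearMap.zero_apply, Submodule.Quotient.mk_zero,
        ← Submodule.mkQ_apply, map_sum] at h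
      refine Eq.trans (Finset.sum_congr rfl fun k _ => ?_) h
      rw [← Units.val_pow_eq_pow_val, ← map_pow, ← hpowS k]
      rfl) u hu)
    set g := ⁅a, u⁆
    have hgW : ∀ w ∈ W, (g : Module.End L V) w = w := fun w hw =>
      congrArg Subtype.val (LinearMap.congr_fun (congrArg Units.val e1) (⟨w, hw⟩ : W))
    have hgV : ∀ v, (g : Module.End L V) v - v ∈ W := fun v =>
      (Submodule.Quotient.eq W).mp
        (LinearMap.congr_fun (congrArg Units.val e2) (Submodule.Quotient.mk v : V ⧸ W))
    refine Units.ext (eq_one_of_sq_zero hUcard ?_ (LinearMap.ext fun v => ?_))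
    · rw [← Units.val_pow_eq_pow_val, Units.val_eq_one]
      exact congrArg Subtype.val (pow_card_eq_one' (x := (⟨g, hgU⟩ : U)))
    · show (g : Module.End L V) ((g : Module.End L V) v - v) - ((g : Module.End L V) v - v) = 0
      rw [hgW _ (hgV v), sub_self]
  -- the fixed subgroup
  set A₀ := zpowers a
  have haA₀ : A₀ ≤ normalizer (U : Set (Module.End L V)ˣ) := zpowers_le.mpr haU
  set C := U ⊓ centralizer (A₀ : Set (Module.End L V)ˣ) with hC
  have hCmem : ∀ u, u ∈ C ↔ u ∈ U ∧ a * u = u * a := fun u => by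
    rw [hC, Subgroup.mem_inf, mem_centralizer_iff]
    refine and_congr_right fun _ => ⟨fun h => h a (mem_zpowers a), fun h x hx => ?_⟩
    obtain ⟨k, rfl⟩ := mem_zpowers_iff.mp hx
    exact (Commute.zpow_left h k).eq
  have hCU : C ≠ U := fun h => by
    obtain ⟨u, hu, hau⟩ := hnc
    exact hau ((hCmem u).mp (h ▸ hu)).2
  -- `U = [U,a]`
  have hUa : ⁅U, A₀⁆ = U := by
    by_contra h
    obtain ⟨u, hu, hau⟩ := hnc
    refine hau ?_
    rw [← commutatorElement_eq_one_iff_mul_comm]
    refine hcomm0 u hu (hprop _ (lt_of_le_of_ne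
      (Coprime.commutator_le_of_le_normalizer haA₀) h) ?_ _ ?_)
    · exact (Coprime.sup_le_normalizer_commutator U A₀) (mem_sup_right (mem_zpowers a))
    · rw [commutator_comm]
      exact commutator_mem_commutator (mem_zpowers a) hu
  have hnil : Group.IsNilpotent U := hU.isNilpotent
  have hUne : U ≠ ⊥ := fun h => hCU (le_antisymm inf_le_left (h ▸ bot_le))
  have hU'C : ⁅U, U⁆ ≤ C := by
    have hlt : ⁅U, U⁆ < U := by
      refine lt_of_le_of_ne U.commutator_le_self fun h => ?_
      have : Group.IsSolvable U := inferInstance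
      have : Nontrivial U := (nontrivial_iff_ne_bot U).mpr hUne
      have h1 := congrArg (fun K => Subgroup.comap U.subtype K) h
      refine (Group.IsSolvable.commutator_lt_top_of_nontrivial U).ne ?_
      apply map_injective U.subtype_injective
      rw [_root_.commutator_def, map_commutator, ← MonoidHom.range_eq_map, range_subtype, h]
    refine fun x hx => (hCmem x).mpr ⟨hlt.le hx, hprop _ hlt ?_ x hx⟩
    rw [mem_normalizer_iff_map_conj_eq, map_commutator]
    exact congrArg₂ _ (mem_normalizer_iff_map_conj_eq.mp haU) (mem_normalizer_iff_map_conj_eq.mp haU)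
  have hCc : ⁅C, U⁆ = ⊥ := by
    have h1 : ⁅⁅C, A₀⁆, U⁆ = ⊥ := by
      rw [commutator_eq_bot_iff_le_centralizer.mpr (inf_le_right : C ≤ _), commutator_bot_left]
    have h2 : ⁅⁅U, C⁆, A₀⁆ = ⊥ := by
      rw [commutator_eq_bot_iff_le_centralizer]
      exact ((commutator_mono le_rfl inf_le_left).trans hU'C).trans inf_le_right
    have h3 : ⁅⁅A₀, U⁆, C⁆ = ⊥ := commutator_commutator_eq_bot_of_rotate h2 h1
    rwa [commutator_comm A₀, hUa, commutator_comm] at h3
  by_cases hC1 : C = ⊥
  · obtain ⟨u, hu, hau⟩ := hnc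
    refine hau ?_
    have h := ringGF (Units.coeHom (Module.End L V)) U hap haU (fun w hw hfix => by
      have : w ∈ C := (hCmem w).mpr ⟨hw, mul_inv_eq_iff_eq_mul.mp hfix⟩
      rwa [hC1, mem_bot] at this)
      (by simpa using hsum) hu
    have hu1 : u = 1 := by
      refine Units.ext (sub_eq_zero.mp ?_)
      have h' : (Nat.card U : L) • ((u : Module.End L V) - 1) = 0 := by
        rw [Nat.cast_smul_eq_nsmul, nsmul_eq_mul]
        exact h
      exact (smul_eq_zero.mp h').resolve_left hUcard
    rw [hu1, mul_one, one_mul]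
  have hVnt : Nontrivial V := by
    rw [← not_subsingleton_iff_nontrivial]
    intro hs
    obtain ⟨u, hu, hau⟩ := hnc
    exact hau (Units.ext (LinearMap.ext fun v => Subsingleton.elim _ _))
  -- elements of C are scalars
  have hscalar : ∀ z ∈ C, ∃ c : L, (z : Module.End L V) = c • 1 := by
    intro z hz
    obtain ⟨c, hc⟩ := Module.End.exists_eigenvalue (z : Module.End L V)
    refine ⟨c, ?_⟩
    have hzU : ∀ u ∈ U, z * u = u * z := fun u hu => by
      rw [← commutatorElement_eq_one_iff_mul_comm, ← mem_bot, ← hCc]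
      exact commutator_mem_commutator hz hu
    have hinv : ∀ g : (Module.End L V)ˣ, z * g = g * z →
        ∀ w ∈ Module.End.eigenspace (z : Module.End L V) c,
          (g : Module.End L V) w ∈ Module.End.eigenspace (z : Module.End L V) c := by
      intro g hg w hw
      rw [Module.End.mem_eigenspace_iff] at hw ⊢
      rw [← Module.End.mul_apply, ← Units.val_mul, hg, Units.val_mul, Module.End.mul_apply, hw,
        map_smul]
    rcases hirr _ (fun u hu => hinv u (hzU u hu)) (hinv a ((hCmem z).mp hz).2.symm) with h | h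
    · exact absurd h hc
    · refine LinearMap.ext fun v => ?_
      rw [LinearMap.smul_apply, Module.End.one_apply]
      exact Module.End.mem_eigenspace_iff.mp (h ▸ Submodule.mem_top)
  -- commutators detect elements outside C
  have hZ : ∀ u ∈ U, u ∉ C → ∃ w ∈ U, ⁅w, u⁆ ≠ 1 := by
    intro u hu huC
    by_contra! h
    apply huC
    set Zu := U ⊓ centralizer (U : Set (Module.End L V)ˣ) with hZu
    have huZ : u ∈ Zu := ⟨hu, mem_centralizer_iff.mpr fun w hw =>
      commutatorElement_eq_one_iff_mul_comm.mp (h w hw)⟩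
    by_cases hZlt : Zu = U
    · exfalso
      -- `U` abelian: `x ↦ [a,x]` is an endomorphism with nontrivial kernel generating `U`
      have hab : ∀ x ∈ U, ∀ y ∈ U, x * y = y * x := fun x hx y hy =>
        (mem_centralizer_iff.mp (show x ∈ Zu by rw [hZlt]; exact hx).2 y hy).symm
      have hmem : ∀ x : U, a * x * a⁻¹ * (x : (Module.End L V)ˣ)⁻¹ ∈ U := fun x =>
        mul_mem ((mem_normalizer_iff.mp haU _).mp x.2) (inv_mem x.2)
      let ψ : U →* U := MonoidHom.mk' (fun x => ⟨_, hmem x⟩) fun x y => Subtype.ext (by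
        show a * (↑x * ↑y) * a⁻¹ * ((x : (Module.End L V)ˣ) * y)⁻¹ = _ * (_ * _)
        calc a * ((x : (Module.End L V)ˣ) * y) * a⁻¹ * ((x : (Module.End L V)ˣ) * y)⁻¹
            = (a * x * a⁻¹) * ((a * y * a⁻¹ * (y : (Module.End L V)ˣ)⁻¹) *
              (x : (Module.End L V)ˣ)⁻¹) := by group
          _ = (a * x * a⁻¹) * ((x : (Module.End L V)ˣ)⁻¹ *
              (a * y * a⁻¹ * (y : (Module.End L V)ˣ)⁻¹)) := by
              rw [hab _ (hmem y) _ (inv_mem x.2)]
          _ = _ := by group)
      have hsurj : Function.Surjective ψ := by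
        rw [← MonoidHom.range_eq_top]
        apply map_injective U.subtype_injective
        rw [← MonoidHom.range_eq_map U.subtype, range_subtype]
        refine le_antisymm (map_subtype_le _) ?_
        conv_lhs => rw [← hUa]
        refine commutator_le.mpr fun x hx y hy => ?_
        obtain ⟨m, rfl⟩ := mem_zpowers_iff.mp hy
        set R' := ψ.range.map U.subtype with hR'
        have hbase : ∀ x ∈ U, a * x * a⁻¹ * x⁻¹ ∈ R' := fun x hx => ⟨ψ ⟨x, hx⟩, ⟨_, rfl⟩, rfl⟩
        have : Finite R' := Finite.of_injective (Subgroup.inclusion (map_subtype_le ψ.range : R' ≤ U))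
          (Subgroup.inclusion_injective _)
        have haR : a ∈ normalizer (R' : Set (Module.End L V)ˣ) := by
          rw [mem_normalizer_iff_map_conj_eq]
          refine eq_of_le_of_card_ge ?_ (card_map_of_injective (MulAut.conj a).injective).ge
          rintro _ ⟨_, ⟨_, ⟨y, rfl⟩, rfl⟩, rfl⟩
          refine ⟨ψ ⟨a * y * a⁻¹, (mem_normalizer_iff.mp haU _).mp y.2⟩, ⟨_, rfl⟩, ?_⟩
          show a * (a * y * a⁻¹) * a⁻¹ * (a * y * a⁻¹)⁻¹ =
            a * (a * y * a⁻¹ * (y : (Module.End L V)ˣ)⁻¹) * a⁻¹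
          group
        let St : Subgroup (Module.End L V)ˣ :=
          { carrier := {g | g ∈ normalizer (U : Set (Module.End L V)ˣ) ∧
              g ∈ normalizer (R' : Set (Module.End L V)ˣ) ∧ ∀ x ∈ U, g * x * g⁻¹ * x⁻¹ ∈ R'}
            one_mem' := ⟨one_mem _, one_mem _, fun x _ => by simp⟩
            mul_mem' := by
              rintro g h ⟨hg1, hg2, hg3⟩ ⟨hh1, hh2, hh3⟩
              refine ⟨mul_mem hg1 hh1, mul_mem hg2 hh2, fun x hx => ?_⟩
              have e : g * h * x * (g * h)⁻¹ * x⁻¹ =
                  (g * (h * x * h⁻¹ * x⁻¹) * g⁻¹) * (g * x * g⁻¹ * x⁻¹) := by group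
              rw [e]
              exact mul_mem ((mem_normalizer_iff.mp hg2 _).mp (hh3 x hx)) (hg3 x hx)
            inv_mem' := by
              rintro g ⟨hg1, hg2, hg3⟩
              refine ⟨inv_mem hg1, inv_mem hg2, fun x hx => ?_⟩
              have e : g⁻¹ * x * g⁻¹⁻¹ * x⁻¹ = (g⁻¹ * (g * x * g⁻¹ * x⁻¹) * g⁻¹⁻¹)⁻¹ := by group
              rw [e]
              exact inv_mem ((mem_normalizer_iff.mp (inv_mem hg2) _).mp (hg3 x hx)) }
        have hm : a ^ m ∈ St := zpow_mem (show a ∈ St from ⟨haU, haR, hbase⟩) m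
        have h3 := inv_mem (hm.2.2 x hx)
        rw [show (a ^ m * x * (a ^ m)⁻¹ * x⁻¹)⁻¹ = ⁅x, a ^ m⁆ by
          rw [commutatorElement_def]; group] at h3
        exact h3
      obtain ⟨z, hz, hz1⟩ : ∃ z ∈ C, z ≠ 1 := by
        by_contra! h'
        exact hC1 ((eq_bot_iff_forall C).mpr h')
      refine hz1 (congrArg Subtype.val ((Finite.injective_iff_surjective.mpr hsurj)
        (a₁ := (⟨z, ((hCmem z).mp hz).1⟩ : U)) (a₂ := 1) (Subtype.ext ?_)))
      show a * z * a⁻¹ * z⁻¹ = a * 1 * a⁻¹ * 1⁻¹
      rw [((hCmem z).mp hz).2]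
      group
    · refine (hCmem u).mpr ⟨hu, hprop _ (lt_of_le_of_ne inf_le_left hZlt) ?_ u huZ⟩
      exact inf_normalizer_le_normalizer_inf
        ⟨haU, mem_normalizer_centralizer haU⟩
  -- the counting
  set Z : Subgroup U := C.subgroupOf U with hZdef
  have hcent : ∀ x ∈ C, ∀ u ∈ U, x * u = u * x := fun x hx u hu =>
    commutatorElement_eq_one_iff_mul_comm.mp (mem_bot.mp (hCc ▸ commutator_mem_commutator hx hu))
  have hZn : Z.Normal := ⟨fun x hx g => by
    rw [hZdef, mem_subgroupOf] at hx ⊢
    rw [Subgroup.coe_mul, Subgroup.coe_mul, ← hcent _ hx g g.2, Subgroup.coe_inv, mul_inv_cancel_right]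
    exact hx⟩
  let ρ : U →* Module.End L V := (Units.coeHom _).comp U.subtype
  have hρs : ∀ z ∈ Z, ∃ c : L, ρ z = c • 1 := fun z hz => hscalar _ hz
  have hρn : ∀ u ∉ Z, ∃ w : U, ∃ ζ : L, ζ ≠ 1 ∧ ρ (w * u * w⁻¹) = ζ • ρ u := by
    intro u huZ
    obtain ⟨w, hw, hwu⟩ := hZ u u.2 huZ
    have hcU : ⁅w, (u : (Module.End L V)ˣ)⁆ ∈ C := hU'C (commutator_mem_commutator hw u.2)
    obtain ⟨ζ, hζ⟩ := hscalar _ hcU
    refine ⟨⟨w, hw⟩, ζ, fun h => hwu (Units.ext (by rw [hζ, h, one_smul, Units.val_one])), ?_⟩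
    show ((w * u * w⁻¹ : (Module.End L V)ˣ) : Module.End L V) = ζ • ((u : (Module.End L V)ˣ) : _)
    rw [← smul_one_mul ζ, ← hζ, ← Units.val_mul, commutatorElement_def, inv_mul_cancel_right]
  have hEq := finrank_end_eq ρ Z hUcard hρs hρn
  set Q := Nat.card (U ⧸ Z) with hQ
  set c := Module.finrank L (opCentralizer ρ) with hc
  -- a square
  obtain ⟨Y, hY, hYmin⟩ : ∃ Y : Submodule L V, (Y ≠ ⊥ ∧ ∀ u : U, ∀ y ∈ Y, ρ u y ∈ Y) ∧
      ∀ Y' : Submodule L V, (Y' ≠ ⊥ ∧ ∀ u : U, ∀ y ∈ Y', ρ u y ∈ Y') → Y' ≤ Y → Y' = Y := by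
    have hex : ∃ m, ∃ Y : Submodule L V, (Y ≠ ⊥ ∧ ∀ u : U, ∀ y ∈ Y, ρ u y ∈ Y) ∧
        Module.finrank L Y = m := ⟨_, ⊤, ⟨top_ne_bot, fun _ _ _ => Submodule.mem_top⟩, rfl⟩
    obtain ⟨Y, hY, hYm⟩ := Nat.find_spec hex
    refine ⟨Y, hY, fun Y' hY' hle => Submodule.eq_of_le_of_finrank_le hle ?_⟩
    rw [hYm]
    exact Nat.find_min' hex ⟨Y', hY', rfl⟩
  let ρY : U →* Module.End L Y :=
    { toFun := fun u => (ρ u).restrict (hY.2 u)
      map_one' := LinearMap.ext fun y => Subtype.ext (by simp)
      map_mul' := fun u w => LinearMap.ext fun y => Subtype.ext (by simp) }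
  have hEqY := finrank_end_eq ρY Z hUcard (fun z hz => by
      obtain ⟨k, hk⟩ := hρs z hz
      exact ⟨k, LinearMap.ext fun y => Subtype.ext (LinearMap.congr_fun hk y)⟩) (fun u huZ => by
      obtain ⟨w, ζ, hζ, hw⟩ := hρn u huZ
      exact ⟨w, ζ, hζ, LinearMap.ext fun y => Subtype.ext (LinearMap.congr_fun hw y)⟩)
  have hYnt : Nontrivial Y := Submodule.nontrivial_iff_ne_bot.mpr hY.1
  have hcY : Module.finrank L (opCentralizer ρY) = 1 := by
    refine finrank_eq_one (⟨1, fun u => by rw [mul_one, one_mul]⟩ : opCentralizer ρY)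
      (fun h => one_ne_zero (congrArg Subtype.val h)) fun x => ?_
    obtain ⟨μ, hμ⟩ := Module.End.exists_eigenvalue (x : Module.End L Y)
    refine ⟨μ, Subtype.ext ?_⟩
    have hE := hYmin ((Module.End.eigenspace (x : Module.End L Y) μ).map Y.subtype)
      ⟨fun h => hμ (Submodule.map_injective_of_injective Y.injective_subtype
        (h.trans (Submodule.map_bot _).symm)), ?_⟩ (Submodule.map_subtype_le _ _)
    · refine LinearMap.ext fun y => ?_
      obtain ⟨y', hy', hyy⟩ := hE.ge y.2
      rw [show y = y' from Subtype.ext hyy.symm, Submodule.coe_smul, LinearMap.smul_apply,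
        Module.End.one_apply]
      exact (Module.End.mem_eigenspace_iff.mp hy').symm
    · rintro u _ ⟨y, hy, rfl⟩
      refine ⟨ρY u y, ?_, rfl⟩
      rw [SetLike.mem_coe, Module.End.mem_eigenspace_iff] at hy ⊢
      rw [← Module.End.mul_apply, ← x.2 u, Module.End.mul_apply, hy, map_smul]
  rw [hcY, mul_one] at hEqY
  set d := Module.finrank L Y
  set D := Module.finrank L V with hD
  have hQ1 : 1 < Q := by
    have : Nontrivial (U ⧸ Z) := by
      refine nontrivial_of_ne (QuotientGroup.mk 1) (QuotientGroup.mk ?_) ?_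
      · exact ⟨_, (hnc.choose_spec).1⟩
      · intro h
        have h2 := QuotientGroup.eq.mp h
        rw [inv_one, one_mul] at h2
        exact hnc.choose_spec.2 ((hCmem _).mp h2).2
    exact Finite.one_lt_card
  have hd1 : 1 < d := by
    by_contra h
    push Not at h
    rw [hQ, ← hEqY] at hQ1
    exact absurd (Nat.mul_le_mul h h) (not_le.mpr (by omega))
  have hdodd : Odd d := by
    have h1 : Odd (Nat.card U) := hN ▸ hodd.pow
    rw [Z.card_eq_card_quotient_mul_card_subgroup] at h1
    have h2 := (Nat.odd_mul.mp h1).1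
    rw [← hEqY] at h2
    exact (Nat.odd_mul.mp h2).1
  have hc0 : 0 < c := by
    rw [Nat.pos_iff_ne_zero]
    intro h
    rw [h, mul_zero] at hEq
    have : 0 < D := Module.finrank_pos
    nlinarith
  -- the action of `a` on `U/Z`
  have hconjU : ∀ g ∈ A₀, ∀ x : U, g * x * g⁻¹ ∈ U := fun g hg x =>
    (mem_normalizer_iff.mp (haA₀ hg) _).mp x.2
  have hZconj : ∀ g ∈ A₀, ∀ x, x ∈ C → g * x * g⁻¹ = x := fun g hg x hx => by
    rw [mem_centralizer_iff.mp hx.2 g hg, mul_inv_cancel_right]
  let act : A₀ → U ⧸ Z → U ⧸ Z := fun g => Quotient.map'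
    (fun x : U => (⟨(g : (Module.End L V)ˣ) * x * (g : (Module.End L V)ˣ)⁻¹, hconjU g g.2 x⟩ : U))
    fun x y hxy => by
      rw [QuotientGroup.leftRel_apply] at hxy ⊢
      rw [mem_subgroupOf] at hxy ⊢
      simp only [Subgroup.coe_mul, Subgroup.coe_inv] at hxy ⊢
      rw [show ((g : (Module.End L V)ˣ) * x * (g : (Module.End L V)ˣ)⁻¹)⁻¹ *
          (g * y * (g : (Module.End L V)ˣ)⁻¹) =
          g * ((x : (Module.End L V)ˣ)⁻¹ * y) * (g : (Module.End L V)ˣ)⁻¹ by group,
        hZconj g g.2 _ hxy]
      exact hxy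
  have hactmk : ∀ (g : A₀) (x : U), act g (QuotientGroup.mk x) =
      QuotientGroup.mk ⟨(g : (Module.End L V)ˣ) * x * (g : (Module.End L V)ˣ)⁻¹, hconjU g g.2 x⟩ :=
    fun g x => rfl
  letI : MulAction A₀ (U ⧸ Z) :=
    { smul := act
      one_smul := fun q => by
        induction q using QuotientGroup.induction_on with | H x => ?_
        exact congrArg QuotientGroup.mk (Subtype.ext (by simp))
      mul_smul := fun g h q => by
        induction q using QuotientGroup.induction_on with | H x => ?_
        exact congrArg QuotientGroup.mk (Subtype.ext (by simp [mul_assoc])) }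
  have hfixed : MulAction.fixedPoints A₀ (U ⧸ Z) = {QuotientGroup.mk 1} := by
    refine Set.eq_singleton_iff_unique_mem.mpr ⟨fun g => congrArg QuotientGroup.mk
      (Subtype.ext (by simp)), fun q hq => ?_⟩
    induction q using QuotientGroup.induction_on with | H x => ?_
    have h1 := QuotientGroup.eq.mp (hq ⟨a, mem_zpowers a⟩).symm
    rw [mem_subgroupOf] at h1
    simp only [Subgroup.coe_mul, Subgroup.coe_inv] at h1
    rw [QuotientGroup.eq, mul_one, inv_mem_iff, mem_subgroupOf]
    refine (hCmem _).mpr ⟨x.2, commutatorElement_eq_one_iff_mul_comm.mp (hcomm0 _ x.2 ?_)⟩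
    have e : ⁅a, (x : (Module.End L V)ˣ)⁆ = (x : (Module.End L V)ˣ)⁻¹ * (a * x * a⁻¹) := by
      have hcx : ⁅((x : (Module.End L V)ˣ)⁻¹ * (a * x * a⁻¹)), (x : (Module.End L V)ˣ)⁆ = 1 :=
        mem_bot.mp (hCc ▸ commutator_mem_commutator h1 x.2)
      rw [commutatorElement_eq_one_iff_mul_comm] at hcx
      calc ⁅a, (x : (Module.End L V)ˣ)⁆
          = x * ((x : (Module.End L V)ˣ)⁻¹ * (a * x * a⁻¹)) * (x : (Module.End L V)ˣ)⁻¹ := by
            rw [commutatorElement_def]; group
        _ = (x : (Module.End L V)ˣ)⁻¹ * (a * x * a⁻¹) := by rw [← hcx, mul_inv_cancel_right]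
    rw [e]
    exact ((hCmem _).mp h1).2
  have haord : orderOf a = p := orderOf_eq_prime hap fun h => by
    obtain ⟨u, hu, hau⟩ := hnc
    exact hau (by rw [h, one_mul, mul_one])
  have hA₀p : Nat.card A₀ = p := by rw [Nat.card_zpowers, haord]
  have hfinA₀ : Finite A₀ := Nat.finite_of_card_ne_zero (hA₀p ▸ (Fact.out : p.Prime).ne_zero)
  have hmod := (IsPGroup.of_card (n := 1) (by rw [hA₀p, pow_one]) : IsPGroup p A₀).card_modEq_card_fixedPoints
    (U ⧸ Z)
  rw [hfixed, Nat.card_eq_fintype_card (α := ({QuotientGroup.mk 1} : Set (U ⧸ Z))),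
    Set.card_singleton] at hmod
  have hdvd : p ∣ d * d - 1 := by
    rw [hEqY]
    exact (Nat.modEq_iff_dvd' hQ1.le).mp hmod.symm
  -- orbit count
  let O := Quotient (MulAction.orbitRel A₀ (U ⧸ Z))
  cases nonempty_fintype (U ⧸ Z)
  cases nonempty_fintype O
  have horb : p * Fintype.card O ≤ Q + p - 1 := by
    have hcount : Q = ∑ o : O, Nat.card (MulAction.orbit A₀ o.out) := by
      rw [hQ, Nat.card_congr (MulAction.selfEquivSigmaOrbits A₀ (U ⧸ Z)), Nat.card_sigma]
    have hsz : ∀ o : O, o ≠ Quotient.mk'' (QuotientGroup.mk 1) →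
        p ≤ Nat.card (MulAction.orbit A₀ o.out) := by
      intro o ho
      have hdv : Nat.card (MulAction.orbit A₀ o.out) ∣ p := by
        rw [Nat.card_congr (MulAction.orbitEquivQuotientStabilizer A₀ o.out), ← hA₀p]
        exact Subgroup.card_quotient_dvd_card _
      rcases (Nat.dvd_prime Fact.out).mp hdv with h1 | h1
      · exfalso
        have hmem : o.out ∈ MulAction.fixedPoints A₀ (U ⧸ Z) := fun g => by
          have := (Nat.card_eq_one_iff_unique.mp h1).1
          exact congrArg Subtype.val (Subsingleton.elim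
            (⟨g • o.out, MulAction.mem_orbit _ g⟩ : MulAction.orbit A₀ o.out)
            ⟨o.out, MulAction.mem_orbit_self _⟩)
        rw [hfixed, Set.mem_singleton_iff] at hmem
        exact ho (hmem ▸ o.out_eq.symm)
      · exact h1.ge
    rw [hcount, ← Finset.add_sum_erase _ _ (mem_univ (Quotient.mk'' (QuotientGroup.mk 1) : O))]
    have h2 := Finset.card_nsmul_le_sum (univ.erase (Quotient.mk'' (QuotientGroup.mk 1) : O))
      (fun o => Nat.card (MulAction.orbit A₀ o.out)) p fun o ho => hsz o (Finset.ne_of_mem_erase ho)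
    rw [Finset.card_erase_of_mem (mem_univ _), card_univ, smul_eq_mul] at h2
    have h3 : 0 < Nat.card (MulAction.orbit A₀ (Quotient.mk'' (QuotientGroup.mk 1) : O).out) :=
      Nat.card_pos_iff.mpr ⟨⟨⟨_, MulAction.mem_orbit_self _⟩⟩, inferInstance⟩
    have h4 : 1 ≤ Fintype.card O := Fintype.card_pos_iff.mpr ⟨Quotient.mk'' (QuotientGroup.mk 1)⟩
    obtain ⟨k, hk⟩ : ∃ k, Fintype.card O = k + 1 := ⟨_, (Nat.sub_add_cancel h4).symm⟩
    rw [hk, Nat.add_sub_cancel] at h2
    rw [hk, mul_add, mul_one, mul_comm]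
    omega
  -- the centraliser of `a`
  let F : Submodule L (Module.End L V) :=
    { carrier := {x | (a : Module.End L V) * x = x * a}
      zero_mem' := by simp
      add_mem' := fun {x y} hx hy => by
        show (a : Module.End L V) * (x + y) = (x + y) * a
        rw [mul_add, add_mul, hx, hy]
      smul_mem' := fun k x hx => by
        show (a : Module.End L V) * (k • x) = (k • x) * a
        rw [mul_smul_comm, smul_mul_assoc, hx] }
  have hlow := sq_finrank_le_centralizer hp (by rw [← Units.val_pow_eq_pow_val, hap, Units.val_one])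
    hsum F fun x hx => hx
  -- fixed operators are determined by their coordinates at orbit representatives
  have hup : Module.finrank L F ≤ Fintype.card O * c := by
    let Φ : (U ⧸ Z → opCentralizer ρ) →ₗ[L] Module.End L V :=
      { toFun := fun f => ∑ q, ρ q.out * (f q : Module.End L V)
        map_add' := fun f g => by simp [mul_add, sum_add_distrib]
        map_smul' := fun k f => by simp [smul_sum] }
    let e := LinearEquiv.ofBijective Φ (span_indep ρ Z hUcard hρs hρn)
    have hkey : ∀ f : U ⧸ Z → opCentralizer ρ, Φ f ∈ F → ∀ q, f q = 0 →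
        ∀ g : A₀, f (g • q) = 0 := by
      intro f hf q hfq g
      have hconjout : ∀ q' : U ⧸ Z, ∃ k : L, ∀ y : Module.End L V,
          ((g : (Module.End L V)ˣ) : Module.End L V) * (ρ q'.out * y) *
            (((g : (Module.End L V)ˣ)⁻¹ : (Module.End L V)ˣ) : Module.End L V) =
          ρ (g • q').out * (k • (((g : (Module.End L V)ˣ) : Module.End L V) * y *
            (((g : (Module.End L V)ˣ)⁻¹ : (Module.End L V)ˣ) : Module.End L V))) := by
        intro q'
        let x : U := ⟨(g : (Module.End L V)ˣ) * q'.out * (g : (Module.End L V)ˣ)⁻¹,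
          hconjU g g.2 q'.out⟩
        have hx : QuotientGroup.mk x = g • q' := by
          conv_rhs => rw [← q'.out_eq]
          rfl
        obtain ⟨k, hk⟩ := hρs _ (QuotientGroup.eq.mp ((g • q').out_eq.trans hx.symm))
        refine ⟨k, fun y => ?_⟩
        have h1 : ρ x = k • ρ (g • q').out := by
          rw [← mul_smul_one k, ← mul_inv_cancel_left (g • q').out x, map_mul, hk]
        have h2 : ((g : (Module.End L V)ˣ) : Module.End L V) * ρ q'.out =
            ρ x * ((g : (Module.End L V)ˣ) : Module.End L V) := by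
          show _ = (((g : (Module.End L V)ˣ) * q'.out * (g : (Module.End L V)ˣ)⁻¹ :
            (Module.End L V)ˣ) : Module.End L V) * _
          rw [← Units.val_mul, inv_mul_cancel_right, Units.val_mul]
          rfl
        rw [← mul_assoc (((g : (Module.End L V)ˣ) : Module.End L V)), h2, h1]
        simp only [smul_mul_assoc, mul_smul_comm, mul_assoc]
      have hcen : ∀ y ∈ opCentralizer ρ, ((g : (Module.End L V)ˣ) : Module.End L V) * y *
          (((g : (Module.End L V)ˣ)⁻¹ : (Module.End L V)ˣ) : Module.End L V) ∈ opCentralizer ρ := by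
        intro y hy u
        let v : U := ⟨(g : (Module.End L V)ˣ)⁻¹ * u * ((g : (Module.End L V)ˣ)⁻¹)⁻¹,
          hconjU _ (inv_mem g.2) u⟩
        have h2 : ρ u * ((g : (Module.End L V)ˣ) : Module.End L V) =
            ((g : (Module.End L V)ˣ) : Module.End L V) * ρ v := by
          show ((u : (Module.End L V)ˣ) : Module.End L V) * _ = _
          rw [← Units.val_mul]
          show _ = ((g : (Module.End L V)ˣ) : Module.End L V) *
            (((g : (Module.End L V)ˣ)⁻¹ * u * ((g : (Module.End L V)ˣ)⁻¹)⁻¹ : (Module.End L V)ˣ) :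
              Module.End L V)
          rw [← Units.val_mul]
          congr 1
          group
        have h3 : ρ v * (((g : (Module.End L V)ˣ)⁻¹ : (Module.End L V)ˣ) : Module.End L V) =
            (((g : (Module.End L V)ˣ)⁻¹ : (Module.End L V)ˣ) : Module.End L V) * ρ u := by
          show (((g : (Module.End L V)ˣ)⁻¹ * u * ((g : (Module.End L V)ˣ)⁻¹)⁻¹ :
            (Module.End L V)ˣ) : Module.End L V) * _ = _
          rw [← Units.val_mul, show ((g : (Module.End L V)ˣ)⁻¹ * u * ((g : (Module.End L V)ˣ)⁻¹)⁻¹) *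
            (g : (Module.End L V)ˣ)⁻¹ = (g : (Module.End L V)ˣ)⁻¹ * u by group, Units.val_mul]
          rfl
        rw [← mul_assoc (ρ u), ← mul_assoc (ρ u), h2, mul_assoc _ (ρ v) y, hy v, ← mul_assoc,
          mul_assoc _ (ρ v), h3, ← mul_assoc]
      choose k hk using hconjout
      let f' : U ⧸ Z → opCentralizer ρ := fun q' => k ((g⁻¹ : A₀) • q') •
        ⟨_, hcen _ (f ((g⁻¹ : A₀) • q')).2⟩
      have hf' : f' = f := by
        refine (span_indep ρ Z hUcard hρs hρn).1 ?_
        have hfix : ((g : (Module.End L V)ˣ) : Module.End L V) * Φ f *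
            (((g : (Module.End L V)ˣ)⁻¹ : (Module.End L V)ˣ) : Module.End L V) = Φ f := by
          have hga : ((g : (Module.End L V)ˣ) : Module.End L V) * Φ f =
              Φ f * ((g : (Module.End L V)ˣ) : Module.End L V) := by
            obtain ⟨m, hm⟩ := mem_zpowers_iff.mp g.2
            rw [← hm]
            exact (Commute.units_zpow_left hf m).eq
          rw [hga, mul_assoc, ← Units.val_mul, mul_inv_cancel, Units.val_one, mul_one]
        refine Eq.trans ?_ hfix
        show ∑ q', ρ q'.out * ((f' q' : opCentralizer ρ) : Module.End L V) =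
          _ * (∑ q', ρ q'.out * (f q' : Module.End L V)) * _
        rw [mul_sum, sum_mul]
        simp only [hk]
        refine (Fintype.sum_equiv (MulAction.toPerm g) _ _ fun q' => ?_).symm
        simp only [f', MulAction.toPerm_apply, inv_smul_smul, Submodule.coe_smul]
      rw [← hf']
      refine Subtype.ext ?_
      simp only [f', inv_smul_smul, hfq, Submodule.coe_smul, Submodule.coe_zero, mul_zero, zero_mul,
        smul_zero]
    let Ψ : F →ₗ[L] (O → opCentralizer ρ) :=
      (LinearMap.funLeft L (opCentralizer ρ) Quotient.out).comp (e.symm.toLinearMap.comp F.subtype)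
    have hinj : Function.Injective Ψ := by
      rw [← LinearMap.ker_eq_bot]
      refine (Submodule.eq_bot_iff _).mpr fun x hx => Subtype.ext ?_
      have h0 : e.symm (x : Module.End L V) = 0 := by
        funext q
        have hq := congrFun (LinearMap.mem_ker.mp hx)
          (Quotient.mk'' q : O)
        obtain ⟨g, hg⟩ := MulAction.orbitRel_apply.mp
          (Quotient.exact' ((Quotient.mk'' q : O).out_eq.symm))
        rw [← hg]
        refine hkey _ ?_ _ hq g
        show e (e.symm (x : Module.End L V)) ∈ F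
        rw [e.apply_symm_apply]
        exact x.2
      rw [Submodule.coe_zero, ← e.apply_symm_apply (x : Module.End L V), h0, map_zero]
    refine (LinearMap.finrank_le_finrank_of_injective hinj).trans (le_of_eq ?_)
    rw [Module.finrank_pi_fintype, Finset.sum_const, card_univ, smul_eq_mul]
  refine no_odd_exception Fact.out hd1 hdodd hdvd hc0 (D := D) (f := Module.finrank L F)
    (by rw [hEqY]; exact hEq) hlow ?_
  rw [hEqY]
  calc p * Module.finrank L F ≤ p * (Fintype.card O * c) := Nat.mul_le_mul_left _ hup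
    _ = p * Fintype.card O * c := (mul_assoc _ _ _).symm
    _ ≤ (Q + p - 1) * c := Nat.mul_le_mul_right _ horb

end CfsgLib.SolvSig
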