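import Mathlib.GroupTheory.PGroup
import Mathlib.GroupTheory.QuotientGroup.Basic
import Mathlib.Algebra.BigOperators.Ring.Finset
import Mathlib.LinearAlgebra.Eigenspace.Triangularizable
import Mathlib.LinearAlgebra.FiniteDimensional.Basic
import Mathlib.LinearAlgebra.Dimension.Constructions

/-!
# An element of prime order normalising a group of operators

Two lemmas used for the solvable signalizer functor theorem.

* `ringGF`: `U` a finite group of operators normalised by `a` of order `p`, `C_U(a) = 1` and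
  `∑ a^k = 0` force `|U| (w - 1) = 0` for all `w ∈ U`.
* `span_indep`: a group of operators that is a projectively faithful twisted abelian group splits
  the endomorphism ring over its centraliser.
-/

set_option autoImplicit false

namespace CfsgLib.SolvSig

open Subgroup Finset

theorem ringGF {H R : Type*} [Group H] [Ring R] (φ : H →* R) (U : Subgroup H) [Finite U] {a : H}
    {p : ℕ} [Fact p.Prime] (hap : a ^ p = 1) (haU : a ∈ normalizer (U : Set H))
    (hfix : ∀ u ∈ U, a * u * a⁻¹ = u → u = 1)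
    (hsum : ∑ k ∈ range p, φ (a ^ k) = 0) {w : H} (hw : w ∈ U) :
    (Nat.card U : R) * (φ w - 1) = 0 := by
  classical
  cases nonempty_fintype U
  have hk : ∀ k : ℕ, ¬ p ∣ k → Function.Injective
      fun u : U => (⟨(u : H) * (a ^ k * (u : H)⁻¹ * (a ^ k)⁻¹), mul_mem u.2
        ((mem_normalizer_iff.mp (pow_mem haU k) _).mp (inv_mem u.2))⟩ : U) := by
    intro k hk u v huv
    have h1 := congrArg Subtype.val huv
    simp only at h1
    have hc : a ^ k * ((v : H)⁻¹ * u) * (a ^ k)⁻¹ = (v : H)⁻¹ * u := by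
      calc a ^ k * ((v : H)⁻¹ * u) * (a ^ k)⁻¹
          = (v : H)⁻¹ * ((v : H) * (a ^ k * (v : H)⁻¹ * (a ^ k)⁻¹)) * (a ^ k * u * (a ^ k)⁻¹) := by
            group
        _ = (v : H)⁻¹ * ((u : H) * (a ^ k * (u : H)⁻¹ * (a ^ k)⁻¹)) * (a ^ k * u * (a ^ k)⁻¹) := by
            rw [h1]
        _ = (v : H)⁻¹ * u := by group
    have hcomm : Commute (a ^ k) ((v : H)⁻¹ * u) := mul_inv_eq_iff_eq_mul.mp hc
    obtain ⟨j, hj⟩ : ∃ j : ℕ, (a ^ k) ^ j = a := exists_pow_eq_self_of_coprime (by
      have h2 : orderOf a ∣ p := orderOf_dvd_of_pow_eq_one hap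
      exact ((Fact.out : p.Prime).coprime_iff_not_dvd.mpr hk).symm.coprime_dvd_right h2)
    have hca : Commute a ((v : H)⁻¹ * u) := hj ▸ hcomm.pow_left j
    have h3 := hfix _ (mul_mem (inv_mem v.2) u.2) (by rw [hca.eq, mul_inv_cancel_right])
    exact Subtype.ext (inv_mul_eq_one.mp h3).symm
  set s := ∑ u : U, φ u with hs
  have hterm : ∀ k ∈ range p, ∑ u : U, φ ((u : H) * a ^ k * (u : H)⁻¹) =
      if k = 0 then (Nat.card U : R) else s * φ (a ^ k) := by
    intro k hkp
    split_ifs with h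
    · subst h
      simp [Nat.card_eq_fintype_card]
    · have hkd : ¬ p ∣ k := fun hd => h (Nat.eq_zero_of_dvd_of_lt hd (mem_range.mp hkp))
      rw [hs, sum_mul]
      refine Fintype.sum_bijective _ (Finite.injective_iff_bijective.mp (hk k hkd)) _ _ fun u => ?_
      rw [← map_mul]
      congr 1
      simp only
      group
  have h0 : ∑ u : U, ∑ k ∈ range p, φ ((u : H) * a ^ k * (u : H)⁻¹) = 0 := by
    refine Finset.sum_eq_zero fun u _ => ?_
    have h1 : ∑ k ∈ range p, φ ((u : H) * a ^ k * (u : H)⁻¹) =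
        φ (u : H) * (∑ k ∈ range p, φ (a ^ k)) * φ ((u : H)⁻¹) := by
      rw [mul_sum, sum_mul]
      exact Finset.sum_congr rfl fun k _ => by rw [map_mul, map_mul]
    rw [h1, hsum, mul_zero, zero_mul]
  rw [sum_comm, sum_congr rfl hterm] at h0
  obtain ⟨m, hm⟩ := Nat.exists_eq_succ_of_ne_zero (Fact.out : p.Prime).ne_zero
  rw [hm, sum_range_succ'] at h0 hsum
  simp only [Nat.succ_ne_zero, if_false, if_true, ← mul_sum, pow_zero, map_one] at h0 hsum
  rw [eq_neg_of_add_eq_zero_left hsum, mul_neg_one] at h0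
  have hsn : s = (Nat.card U : R) := (neg_add_eq_zero.mp h0)
  have hws : φ w * s = s := by
    rw [hs, mul_sum]
    exact Fintype.sum_bijective (fun u : U => (⟨w, hw⟩ : U) * u)
      (Group.mulLeft_bijective _) _ _ fun u => by rw [← map_mul]; rfl
  rw [hsn] at hws
  rw [mul_sub, mul_one, Nat.cast_comm, hws, sub_self]

section SpanIndep

variable {L V U : Type*} [Field L] [AddCommGroup V] [Module L V] [Group U]

/-- The operators commuting with all `ρ u`. -/
def opCentralizer (ρ : U →* Module.End L V) : Submodule L (Module.End L V) where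
  carrier := {x | ∀ u, ρ u * x = x * ρ u}
  zero_mem' := fun u => by simp
  add_mem' := fun hx hy u => by rw [mul_add, add_mul, hx u, hy u]
  smul_mem' := fun c x hx u => by rw [mul_smul_comm, smul_mul_assoc, hx u]

variable [Finite U] (ρ : U →* Module.End L V) (Z : Subgroup U) [Z.Normal]

theorem span_indep (hU : (Nat.card U : L) ≠ 0) (hscal : ∀ z ∈ Z, ∃ c : L, ρ z = c • 1)
    (hnondeg : ∀ u ∉ Z, ∃ w : U, ∃ ζ : L, ζ ≠ 1 ∧ ρ (w * u * w⁻¹) = ζ • ρ u)
    [Fintype (U ⧸ Z)] :
    Function.Bijective fun f : U ⧸ Z → opCentralizer ρ =>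
      ∑ q, ρ q.out * (f q : Module.End L V) := by
  classical
  cases nonempty_fintype U
  have hinv : ∀ u : U, ρ u * ρ u⁻¹ = 1 := fun u => by rw [← map_mul, mul_inv_cancel, map_one]
  have hinv' : ∀ u : U, ρ u⁻¹ * ρ u = 1 := fun u => by rw [← map_mul, inv_mul_cancel, map_one]
  have hout : ∀ {u : U} {q : U ⧸ Z}, QuotientGroup.mk u = q → q.out⁻¹ * u ∈ Z := fun {u q} h =>
    QuotientGroup.eq.mp (q.out_eq.trans h.symm)
  -- averaging
  let π : Module.End L V → Module.End L V := fun x => ∑ u : U, ρ u * x * ρ u⁻¹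
  have hπv : ∀ v : U, v ∉ Z → π (ρ v) = 0 := by
    intro v hv
    obtain ⟨w, ζ, hζ, hw⟩ := hnondeg v hv
    have h1 : π (ρ v) = ζ • π (ρ v) := by
      show ∑ u : U, ρ u * ρ v * ρ u⁻¹ = ζ • ∑ u : U, ρ u * ρ v * ρ u⁻¹
      rw [smul_sum, ← Equiv.sum_comp (Equiv.mulRight w)]
      refine Finset.sum_congr rfl fun u _ => ?_
      rw [Equiv.coe_mulRight, ← map_mul, ← map_mul, show u * w * v * (u * w)⁻¹ = u * (w * v * w⁻¹) * u⁻¹ by group,
        map_mul, map_mul, hw, mul_smul_comm, smul_mul_assoc]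
    have h2 : (1 - ζ) • π (ρ v) = 0 := by rw [sub_smul, one_smul, ← h1, sub_self]
    exact (smul_eq_zero.mp h2).resolve_left (sub_ne_zero.mpr fun h => hζ h.symm)
  have hπz : ∀ z ∈ Z, π (ρ z) = (Nat.card U : L) • ρ z := by
    intro z hz
    obtain ⟨c, hc⟩ := hscal z hz
    show ∑ u : U, ρ u * ρ z * ρ u⁻¹ = _
    simp only [hc, mul_smul_comm, smul_mul_assoc, mul_one, hinv]
    rw [Finset.sum_const, card_univ, ← Nat.card_eq_fintype_card, Nat.cast_smul_eq_nsmul]
  have hπc : ∀ x, ∀ c ∈ opCentralizer ρ, π (x * c) = π x * c := by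
    intro x c hc
    show ∑ u : U, ρ u * (x * c) * ρ u⁻¹ = (∑ u : U, ρ u * x * ρ u⁻¹) * c
    rw [sum_mul]
    exact Finset.sum_congr rfl fun u _ => by rw [mul_assoc, mul_assoc, ← hc, ← mul_assoc, ← mul_assoc]
  have hπmem : ∀ x, π x ∈ opCentralizer ρ := by
    intro x u
    show ρ u * (∑ v : U, ρ v * x * ρ v⁻¹) = (∑ v : U, ρ v * x * ρ v⁻¹) * ρ u
    rw [mul_sum, sum_mul]
    refine Fintype.sum_bijective (u * ·) (Group.mulLeft_bijective u) _ _ fun v => ?_
    rw [mul_inv_rev, map_mul, map_mul]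
    simp only [mul_assoc, hinv', mul_one]
  have hZ0 : (Nat.card Z : L) ≠ 0 := by
    rw [← Z.card_mul_index, Nat.cast_mul] at hU
    exact left_ne_zero_of_mul hU
  refine ⟨fun f g hfg => funext fun q₀ => Subtype.ext ?_, fun x => ?_⟩
  · have key : ∀ f : U ⧸ Z → opCentralizer ρ,
        π (ρ q₀.out⁻¹ * ∑ q, ρ q.out * (f q : Module.End L V)) =
          (Nat.card U : L) • (f q₀ : Module.End L V) := by
      intro f
      have h1 : π (ρ q₀.out⁻¹ * ∑ q, ρ q.out * (f q : Module.End L V)) =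
          ∑ q, π (ρ (q₀.out⁻¹ * q.out)) * (f q : Module.End L V) := by
        rw [show ρ q₀.out⁻¹ * ∑ q, ρ q.out * (f q : Module.End L V) =
          ∑ q, ρ (q₀.out⁻¹ * q.out) * (f q : Module.End L V) by
            rw [mul_sum]; exact Finset.sum_congr rfl fun q _ => by rw [map_mul, mul_assoc]]
        show ∑ u : U, ρ u * _ * ρ u⁻¹ = _
        simp only [mul_sum, sum_mul]
        rw [sum_comm]
        exact Finset.sum_congr rfl fun q _ => hπc _ _ (f q).2 ▸ by simp only [π, sum_mul]
      rw [h1, Finset.sum_eq_single q₀ (fun q _ hq => ?_) fun h => absurd (mem_univ _) h]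
      · rw [inv_mul_cancel, hπz 1 (one_mem Z), map_one, smul_one_mul]
      · rw [hπv _ (fun h => hq ?_), zero_mul]
        rw [← q.out_eq, ← q₀.out_eq]
        exact (QuotientGroup.eq.mpr h).symm
    have h2 := key f
    rw [show (∑ q, ρ q.out * (f q : Module.End L V)) = ∑ q, ρ q.out * (g q : Module.End L V) from hfg,
      key g] at h2
    exact (smul_right_injective _ hU h2).symm
  · -- spanning
    let S : Submodule L (Module.End L V) :=
      { carrier := Set.range fun f : U ⧸ Z → opCentralizer ρ =>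
          ∑ q, ρ q.out * (f q : Module.End L V)
        zero_mem' := ⟨0, by simp⟩
        add_mem' := by
          rintro _ _ ⟨f, rfl⟩ ⟨g, rfl⟩
          exact ⟨f + g, by simp [mul_add, sum_add_distrib]⟩
        smul_mem' := by
          rintro c _ ⟨f, rfl⟩
          exact ⟨c • f, by simp [smul_sum]⟩ }
    show x ∈ S
    have hw : ∀ w : U, ∀ c ∈ opCentralizer ρ, ρ w * c ∈ S := by
      intro w c hc
      obtain ⟨k, hk⟩ := hscal _ (hout (rfl : (QuotientGroup.mk w : U ⧸ Z) = _))
      refine ⟨Pi.single (QuotientGroup.mk w) ⟨k • c, Submodule.smul_mem _ k hc⟩, ?_⟩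
      show ∑ q, _ = _
      rw [Finset.sum_eq_single (QuotientGroup.mk w : U ⧸ Z) (fun q _ hq => by simp [hq])
        fun h => absurd (mem_univ _) h, Pi.single_eq_same]
      show ρ (QuotientGroup.mk w : U ⧸ Z).out * (k • c) = ρ w * c
      conv_rhs => rw [← mul_inv_cancel_left (QuotientGroup.mk w : U ⧸ Z).out w, map_mul, hk]
      rw [mul_smul_comm, mul_smul_comm, mul_one, smul_mul_assoc]
    have hsum : ∑ w : U, ρ w * π (ρ w⁻¹ * x) = ((Nat.card Z : L) * (Nat.card U : L)) • x := by
      have h1 : ∑ w : U, ρ w * π (ρ w⁻¹ * x) = ∑ u : U, π (ρ u) * x * ρ u⁻¹ := by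
        simp only [π, mul_sum, sum_mul]
        rw [sum_comm]
        refine Finset.sum_congr rfl fun u _ => Finset.sum_congr rfl fun w _ => ?_
        simp only [mul_assoc]
      rw [h1, ← Finset.sum_subset (subset_univ (univ.filter (· ∈ Z))) fun u _ hu => by
        rw [hπv u (fun h => hu (mem_filter.mpr ⟨mem_univ _, h⟩)), zero_mul, zero_mul]]
      rw [Finset.sum_congr rfl (g := fun _ => (Nat.card U : L) • x) fun u hu => by
        obtain ⟨c, hc⟩ := hscal u (mem_filter.mp hu).2
        rw [hπz u (mem_filter.mp hu).2, smul_mul_assoc, smul_mul_assoc]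
        congr 1
        rw [hc, smul_one_mul, smul_mul_assoc, ← mul_smul_comm c x (ρ u⁻¹),
          ← one_mul (ρ u⁻¹), ← smul_mul_assoc c (1 : Module.End L V), ← hc, hinv, mul_one]]
      rw [Finset.sum_const, mul_smul, Nat.cast_smul_eq_nsmul]
      congr 1
      rw [Nat.cast_smul_eq_nsmul, show Nat.card Z = (univ.filter (· ∈ Z)).card from
        Nat.card_eq_fintype_card.trans (Fintype.card_subtype _)]
    have hmem : ((Nat.card Z : L) * (Nat.card U : L)) • x ∈ S :=
      hsum ▸ Submodule.sum_mem _ fun w _ => hw w _ (hπmem _)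
    exact (Submodule.smul_mem_iff _ (mul_ne_zero hZ0 hU)).mp hmem

/-- The dimension count coming from `span_indep`. -/
theorem finrank_end_eq [FiniteDimensional L V] (hU : (Nat.card U : L) ≠ 0)
    (hscal : ∀ z ∈ Z, ∃ c : L, ρ z = c • 1)
    (hnondeg : ∀ u ∉ Z, ∃ w : U, ∃ ζ : L, ζ ≠ 1 ∧ ρ (w * u * w⁻¹) = ζ • ρ u) :
    Module.finrank L V * Module.finrank L V =
      Nat.card (U ⧸ Z) * Module.finrank L (opCentralizer ρ) := by
  cases nonempty_fintype (U ⧸ Z)
  let Φ : (U ⧸ Z → opCentralizer ρ) →ₗ[L] Module.End L V :=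
    { toFun := fun f => ∑ q, ρ q.out * (f q : Module.End L V)
      map_add' := fun f g => by simp [mul_add, sum_add_distrib]
      map_smul' := fun c f => by simp [smul_sum] }
  have h := (LinearEquiv.ofBijective Φ (span_indep ρ Z hU hscal hnondeg)).finrank_eq
  rw [Module.finrank_linearMap, Module.finrank_pi_fintype, Finset.sum_const, card_univ,
    smul_eq_mul, ← Nat.card_eq_fintype_card] at h
  exact h.symm

end SpanIndep

end CfsgLib.SolvSig
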