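import Cfsg.Agent.SolvSig.Core
import Cfsg.Agent.Transitivity.Transitivity
import Cfsg.Agent.Transitivity.SolvableAmbient
import Cfsg.Agent.Transitivity.KBalanced
import Cfsg.Agent.Solvable.Nilpotent

/-!
# The minimal counterexample to the solvable signalizer functor theorem

`MinCE` collects the properties of a minimal counterexample which the proof uses.
-/

set_option autoImplicit false

open scoped commutatorElement

namespace CfsgLib.SolvSig

open Subgroup CfsgLib.Transitivity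

variable {G : Type*} [Group G]

/-- The conclusion of the theorem. -/
def Good (p : ℕ) (A : Subgroup G) (θ : G → Subgroup G) : Prop :=
  Group.IsSolvable ↥(Cfsg.signalizerClosure A θ) ∧ ¬ p ∣ Nat.card ↥(Cfsg.signalizerClosure A θ)

/-- A hyperplane of `A` (of order `p ^ 3`). -/
def Hyp (p : ℕ) (A B : Subgroup G) : Prop :=
  B ≤ A ∧ Nat.card B = p ^ 2

/-- A minimal counterexample. -/
structure MinCE (p : ℕ) (A : Subgroup G) (θ : G → Subgroup G) : Prop where
  ea : Cfsg.IsElementaryAbelian p A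
  card : Nat.card A = p ^ 3
  func : Cfsg.IsSolvableSignalizerFunctor p A θ
  top : Cfsg.signalizerClosure A θ ⊔ A = ⊤
  no_normal : ∀ N : Subgroup G, N.Normal → Group.IsSolvable ↥N → ¬ p ∣ Nat.card N → N = ⊥
  local_member : ∀ H : Subgroup G, H ≠ ⊤ → A ≤ H → ∃ W ∈ Cfsg.signalizerFamily p A θ, W ≤ H ∧
    ∀ U ∈ Cfsg.signalizerFamily p A θ, U ≤ H → U ≤ W
  proper_sub : ∀ θ' : G → Subgroup G, Cfsg.IsSolvableSignalizerFunctor p A θ' →
    (∀ a ∈ A, a ≠ 1 → θ' a ≤ θ a) → (∃ a ∈ A, a ≠ 1 ∧ θ' a ≠ θ a) → Good p A θ'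
  not_good : ¬ Good p A θ

/-- A maximal member of the family. -/
def IsMax (p : ℕ) (A : Subgroup G) (θ : G → Subgroup G) (M : Subgroup G) : Prop :=
  M ∈ Cfsg.signalizerFamily p A θ ∧ ∀ M' ∈ Cfsg.signalizerFamily p A θ, M ≤ M' → M' = M

/-- The centre of a subgroup, in the ambient group. -/
abbrev zc (K : Subgroup G) : Subgroup G :=
  K ⊓ centralizer (K : Set G)

theorem normalizer_le_normalizer_zc (K : Subgroup G) :
    normalizer (K : Set G) ≤ normalizer (zc K : Set G) := fun _ hg =>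
  inf_normalizer_le_normalizer_inf ⟨hg, mem_normalizer_centralizer hg⟩

theorem zc_ne_bot [Finite G] {r : ℕ} [Fact r.Prime] {K : Subgroup G} (hK : IsPGroup r K)
    (hne : K ≠ ⊥) : zc K ≠ ⊥ := by
  have : Nontrivial ↥K := (nontrivial_iff_ne_bot K).mpr hne
  obtain ⟨z, hz, hz1⟩ : ∃ z ∈ center ↥K, z ≠ 1 := by
    have := hK.center_nontrivial
    obtain ⟨z, hz⟩ := exists_ne (1 : center ↥K)
    exact ⟨z, z.2, fun h => hz (Subtype.ext h)⟩
  intro h
  refine hz1 (Subtype.ext ?_)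
  have : (z : G) ∈ zc K := ⟨z.2, mem_centralizer_iff.mpr fun k hk =>
    congrArg Subtype.val (mem_center_iff.mp hz ⟨k, hk⟩)⟩
  rwa [h, mem_bot] at this

theorem mem_of_pow_mem {x : G} {N : Subgroup G} {s : ℕ} (hcop : (orderOf x).Coprime s)
    (h : x ^ s ∈ N) : x ∈ N := by
  obtain ⟨m, hm⟩ := exists_pow_eq_self_of_coprime (x := x) (n := s) hcop.symm
  exact hm ▸ pow_mem h m

variable [Finite G] {p : ℕ} [Fact p.Prime] {A : Subgroup G} {θ : G → Subgroup G}

namespace MinCE

variable (h : MinCE p A θ)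

include h

theorem card_le : p ^ 3 ≤ Nat.card A := h.card.ge

theorem comm : A ≤ centralizer (A : Set G) :=
  le_centralizer_iff_isMulCommutative.mpr h.ea.1

theorem le_centralizer_of_le {B : Subgroup G} (hB : B ≤ A) : A ≤ centralizer (B : Set G) :=
  h.comm.trans (centralizer_le (SetLike.coe_subset_coe.mpr hB))

theorem le_normalizer_of_le {B : Subgroup G} (hB : B ≤ A) : A ≤ normalizer (B : Set G) :=
  (h.le_centralizer_of_le hB).trans (centralizer_le_normalizer _)

theorem mem_theta {a : G} (ha : a ∈ A) (ha1 : a ≠ 1) : θ a ∈ Cfsg.signalizerFamily p A θ :=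
  mem_family_theta h.func ha ha1

theorem theta_le_centralizer {a : G} (ha : a ∈ A) (ha1 : a ≠ 1) :
    θ a ≤ centralizer ({a} : Set G) :=
  h.func.1.1 a ha ha1

omit h in
theorem mem_solvable {U : Subgroup G} (hU : U ∈ Cfsg.signalizerFamily p A θ) :
    Group.IsSolvable ↥U := hU.1

theorem coprime {U : Subgroup G} (hU : U ∈ Cfsg.signalizerFamily p A θ) :
    (Nat.card A).Coprime (Nat.card U) :=
  coprime_card_of_elab h.ea hU.2.1

theorem zpowers_le_A {a : G} (ha : a ∈ A) : zpowers a ≤ A := zpowers_le.mpr ha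

omit h in
theorem mem_of_le {U V : Subgroup G} (hU : U ∈ Cfsg.signalizerFamily p A θ) (hVU : V ≤ U)
    (hV : A ≤ normalizer (V : Set G)) : V ∈ Cfsg.signalizerFamily p A θ :=
  mem_family_of_le hU hVU hV

theorem mem_inf_centralizer {U B : Subgroup G} (hU : U ∈ Cfsg.signalizerFamily p A θ)
    (hB : B ≤ A) : U ⊓ centralizer (B : Set G) ∈ Cfsg.signalizerFamily p A θ :=
  mem_family_of_le hU inf_le_left ((le_inf (family_le_normalizer hU)
    ((h.le_centralizer_of_le hB).trans le_normalizer)).trans inf_normalizer_le_normalizer_inf)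

theorem mem_inf {U V : Subgroup G} (hU : U ∈ Cfsg.signalizerFamily p A θ)
    (hV : A ≤ normalizer (V : Set G)) : U ⊓ V ∈ Cfsg.signalizerFamily p A θ :=
  mem_family_of_le hU inf_le_left
    ((le_inf (family_le_normalizer hU) hV).trans inf_normalizer_le_normalizer_inf)

theorem le_normalizer_commutator {U E : Subgroup G} (hU : A ≤ normalizer (U : Set G)) (hE : E ≤ A) :
    A ≤ normalizer ((⁅U, E⁆ : Subgroup G) : Set G) := by
  intro a ha
  rw [mem_normalizer_iff_map_conj_eq, map_commutator, mem_normalizer_iff_map_conj_eq.mp (hU ha),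
    mem_normalizer_iff_map_conj_eq.mp (h.le_normalizer_of_le hE ha)]

theorem mem_commutator {U E : Subgroup G} (hU : U ∈ Cfsg.signalizerFamily p A θ) (hE : E ≤ A) :
    ⁅U, E⁆ ∈ Cfsg.signalizerFamily p A θ :=
  mem_family_of_le hU (Coprime.commutator_le_of_le_normalizer (hE.trans (family_le_normalizer hU)))
    (h.le_normalizer_commutator (family_le_normalizer hU) hE)

theorem comm_comm {U E : Subgroup G} (hU : U ∈ Cfsg.signalizerFamily p A θ) (hE : E ≤ A) :
    ⁅⁅U, E⁆, E⁆ = ⁅U, E⁆ :=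
  Coprime.commutator_commutator_eq (hE.trans (family_le_normalizer hU))
    ((h.coprime hU).coprime_dvd_left (card_dvd_of_le hE))

theorem mem_core {K : Subgroup G} (hK : K ∈ Cfsg.signalizerFamily p A θ) (r : ℕ) :
    core r K ∈ Cfsg.signalizerFamily p A θ :=
  mem_family_of_le hK (core_le r K)
    ((family_le_normalizer hK).trans (normalizer_le_normalizer_core r K))

theorem mem_zc_core {K : Subgroup G} (hK : K ∈ Cfsg.signalizerFamily p A θ) (r : ℕ) :
    zc (core r K) ∈ Cfsg.signalizerFamily p A θ :=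
  mem_family_of_le (h.mem_core hK r) inf_le_left
    ((family_le_normalizer (h.mem_core hK r)).trans (normalizer_le_normalizer_zc _))

omit h in
theorem inf_centralizer_le_theta {U : Subgroup G} (hU : U ∈ Cfsg.signalizerFamily p A θ) {a : G}
    (ha : a ∈ A) (ha1 : a ≠ 1) : U ⊓ centralizer ({a} : Set G) ≤ θ a :=
  hU.2.2.2 a ha ha1

omit h in
theorem inf_le_thetaB {U B : Subgroup G} (hU : U ∈ Cfsg.signalizerFamily p A θ) (hB : B ≤ A) :
    U ⊓ centralizer (B : Set G) ≤ Cfsg.signalizerInf B θ := fun x hx =>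
  mem_signalizerInf.mpr fun b hb hb1 => hU.2.2.2 b (hB hb) hb1
    ⟨hx.1, centralizer_le (Set.singleton_subset_iff.mpr hb) hx.2⟩

omit h in
theorem thetaB_le {B : Subgroup G} {e : G} (he : e ∈ B) (he1 : e ≠ 1) :
    Cfsg.signalizerInf B θ ≤ θ e := fun _ hx => mem_signalizerInf.mp hx e he he1

omit h in
theorem thetaA_le {e : G} (he : e ∈ A) (he1 : e ≠ 1) : Cfsg.signalizerInf A θ ≤ θ e :=
  thetaB_le he he1

theorem exists_ne_one {B : Subgroup G} (hB : Hyp p A B) : ∃ b ∈ B, b ≠ 1 := by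
  by_contra! hb
  have h1 := hB.2
  rw [(eq_bot_iff_forall B).mpr hb, card_bot] at h1
  exact (Nat.one_lt_pow two_ne_zero (Fact.out : p.Prime).one_lt).ne h1

/-- Generation by the centralisers of hyperplanes. -/
theorem le_of_hyp {K D : Subgroup G} (hAK : A ≤ normalizer (K : Set G)) (hK : ¬ p ∣ Nat.card K)
    (hD : ∀ B, Hyp p A B → K ⊓ centralizer (B : Set G) ≤ D) : K ≤ D := by
  by_contra hle
  obtain ⟨B, hBA, hc, hn⟩ := exists_hyperplane_not_le h.ea hAK hK hle
  have hB2 : p ^ 2 ≤ Nat.card B := by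
    rw [h.card, pow_succ'] at hc
    exact Nat.le_of_mul_le_mul_left hc (Fact.out : p.Prime).pos
  obtain ⟨B', hB'B, hB'c⟩ := exists_le_card_eq h.ea hBA (k := 2) hB2
  exact hn ((inf_le_inf_left _ (centralizer_le (SetLike.coe_subset_coe.mpr hB'B))).trans
    (hD B' ⟨hB'B.trans hBA, hB'c⟩))

theorem le_of_hyp_mem {U D : Subgroup G} (hU : U ∈ Cfsg.signalizerFamily p A θ)
    (hD : ∀ B, Hyp p A B → U ⊓ centralizer (B : Set G) ≤ D) : U ≤ D :=
  h.le_of_hyp (family_le_normalizer hU) hU.2.1 hD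

theorem exists_mem_inf {B B' : Subgroup G} (hB : Hyp p A B) (hB' : Hyp p A B') :
    ∃ e, e ∈ B ∧ e ∈ B' ∧ e ≠ 1 := by
  refine exists_mem_inf_of_hyperplanes h.ea h.card_le hB.1 hB'.1 ?_ ?_
  · rw [h.card, hB.2, pow_succ']
  · rw [h.card, hB'.2, pow_succ']

theorem card_zpowers {a : G} (ha : a ∈ A) (ha1 : a ≠ 1) : Nat.card (zpowers a) = p := by
  rw [Nat.card_zpowers, orderOf_eq_prime (h.ea.2 a ha) ha1]

theorem card_sup_zpowers {B : Subgroup G} (hB : B ≤ A) {a : G} (ha : a ∈ A) (haB : a ∉ B) :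
    Nat.card ↥(B ⊔ zpowers a) = p * Nat.card B := by
  have ha1 : a ≠ 1 := fun e => haB (e ▸ one_mem B)
  have hn : zpowers a ≤ normalizer (B : Set G) := (zpowers_le.mpr ha).trans (h.le_normalizer_of_le hB)
  rw [Coprime.card_sup_eq hn, h.card_zpowers ha ha1, mul_comm]
  rw [eq_bot_iff]
  rintro v ⟨hvB, hva⟩
  rw [mem_bot]
  by_contra hv1
  exact haB (zpowers_le.mpr hvB (mem_zpowers_of_ne_one (h.ea.2 a ha) hva hv1))

theorem sup_eq_top {B : Subgroup G} (hB : Hyp p A B) {a : G} (ha : a ∈ A) (haB : a ∉ B) :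
    B ⊔ zpowers a = A :=
  eq_of_le_of_card_ge (sup_le hB.1 (zpowers_le.mpr ha))
    (by rw [h.card_sup_zpowers hB.1 ha haB, hB.2, h.card, pow_succ'])

theorem hyp_of_two {e f : G} (he : e ∈ A) (hf : f ∈ A) (he1 : e ≠ 1) (hfe : f ∉ zpowers e) :
    Hyp p A (zpowers e ⊔ zpowers f) :=
  ⟨sup_le (zpowers_le.mpr he) (zpowers_le.mpr hf), by
    rw [h.card_sup_zpowers (zpowers_le.mpr he) hf hfe, h.card_zpowers he he1, sq]⟩

theorem exists_notMem_of_card_lt {B : Subgroup G} (hlt : Nat.card B < p ^ 3) : ∃ a ∈ A, a ∉ B := by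
  by_contra! hle
  exact absurd (Nat.le_of_dvd Nat.card_pos (card_dvd_of_le hle)) (not_le.mpr (h.card.symm ▸ hlt))

theorem exists_notMem {B : Subgroup G} (hB : Hyp p A B) : ∃ a ∈ A, a ∉ B :=
  h.exists_notMem_of_card_lt (hB.2 ▸ Nat.pow_lt_pow_right (Fact.out : p.Prime).one_lt (by norm_num))

theorem exists_hyp_mem {a : G} (ha : a ∈ A) (ha1 : a ≠ 1) : ∃ B, Hyp p A B ∧ a ∈ B := by
  obtain ⟨f, hf, hfa⟩ := h.exists_notMem_of_card_lt (B := zpowers a) (by
    rw [h.card_zpowers ha ha1]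
    exact lt_self_pow₀ (Fact.out : p.Prime).one_lt (by norm_num))
  exact ⟨_, h.hyp_of_two ha hf ha1 hfa, mem_sup_left (mem_zpowers a)⟩

theorem exists_hyp_notMem {a : G} (ha : a ∈ A) (ha1 : a ≠ 1) : ∃ B, Hyp p A B ∧ a ∉ B := by
  obtain ⟨B, hB, haB⟩ := h.exists_hyp_mem ha ha1
  obtain ⟨c, hc, hcB⟩ := h.exists_notMem hB
  obtain ⟨b, hb, hba⟩ : ∃ b ∈ B, b ∉ zpowers a := by
    by_contra! hle
    have := Nat.le_of_dvd Nat.card_pos (card_dvd_of_le hle)
    rw [hB.2, h.card_zpowers ha ha1] at this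
    exact absurd this (not_le.mpr (lt_self_pow₀ (Fact.out : p.Prime).one_lt (by norm_num)))
  have hb1 : b ≠ 1 := fun e => hba (e ▸ one_mem _)
  have hcb : c ∉ zpowers b := fun hc' => hcB (zpowers_le.mpr hb hc')
  refine ⟨_, h.hyp_of_two (hB.1 hb) hc hb1 hcb, fun hmem => hcB ?_⟩
  obtain ⟨x, hx, y, hy, e⟩ := Coprime.exists_mul_of_mem_sup
    ((zpowers_le.mpr hc).trans (h.le_normalizer_of_le (zpowers_le.mpr (hB.1 hb)))) hmem
  by_cases hy1 : y = 1
  · subst hy1
    rw [mul_one] at e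
    subst e
    exact absurd (mem_zpowers_of_ne_one (h.ea.2 b (hB.1 hb)) hx ha1) hba
  · have hyB : y ∈ B := by
      have h1 := mul_mem (inv_mem (zpowers_le.mpr hb hx)) haB
      rwa [← e, inv_mul_cancel_left] at h1
    exact zpowers_le.mpr hyB (mem_zpowers_of_ne_one (h.ea.2 c hc) hy hy1)

/-- `[K,e]` is generated by the `[C_K(B),e]`, `e ∉ B`. -/
theorem commutator_le_of_hyp {K D : Subgroup G} (hK : K ∈ Cfsg.signalizerFamily p A θ) {e : G}
    (he : e ∈ A)
    (hD : ∀ B, Hyp p A B → e ∉ B → ⁅K ⊓ centralizer (B : Set G), zpowers e⁆ ≤ D) :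
    ⁅K, zpowers e⁆ ≤ D := by
  refine commutator_le_of_hyperplanes {B | Hyp p A B} (zpowers_le.mpr he) h.comm
    (fun K hAK hcop D hD => h.le_of_hyp hAK (fun hp => ?_) hD) K hK.1 (family_le_normalizer hK)
    (h.coprime hK) fun B hB => ?_
  · rw [h.card] at hcop
    exact (Fact.out : p.Prime).coprime_iff_not_dvd.mp
      (hcop.coprime_dvd_left (dvd_pow_self p (by norm_num))) hp
  · by_cases heB : e ∈ B
    · refine le_trans ?_ bot_le
      rw [le_bot_iff, commutator_eq_bot_iff_le_centralizer]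
      exact inf_le_right.trans (centralizer_le (SetLike.coe_subset_coe.mpr (zpowers_le.mpr heB)))
    · exact hD B hB heB

/-- A member normalised by all `θ(B)` is trivial. -/
theorem eq_bot_of_normalized {X : Subgroup G} (hX : X ∈ Cfsg.signalizerFamily p A θ)
    (hn : ∀ B, Hyp p A B → Cfsg.signalizerInf B θ ≤ normalizer (X : Set G)) : X = ⊥ := by
  refine h.no_normal X ?_ hX.1 hX.2.1
  rw [← normalizer_eq_top_iff, ← top_le_iff, ← h.top]
  refine sup_le (iSup_le fun a => h.le_of_hyp_mem (h.mem_theta a.2.1 a.2.2) fun B hB =>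
    le_trans (inf_le_thetaB (h.mem_theta a.2.1 a.2.2) hB.1) (hn B hB)) (family_le_normalizer hX)

omit h in
theorem exists_max_ge {U : Subgroup G} (hU : U ∈ Cfsg.signalizerFamily p A θ) :
    ∃ M, U ≤ M ∧ IsMax p A θ M := by
  obtain ⟨M, hUM, hM⟩ := (Set.toFinite (Cfsg.signalizerFamily p A θ)).exists_le_maximal hU
  exact ⟨M, hUM, hM.1, fun M' hM' hle => le_antisymm (hM.2 hM' hle) hle⟩

/-- Everything normalising a nontrivial member lies in one maximal member. -/
theorem exists_max_normalized {X : Subgroup G} (hX : X ∈ Cfsg.signalizerFamily p A θ)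
    (hne : X ≠ ⊥) : ∃ M, IsMax p A θ M ∧
      ∀ U ∈ Cfsg.signalizerFamily p A θ, U ≤ normalizer (X : Set G) → U ≤ M := by
  have hH : normalizer (X : Set G) ≠ ⊤ := fun e =>
    hne (h.no_normal X (normalizer_eq_top_iff.mp e) hX.1 hX.2.1)
  obtain ⟨W, hW, -, hW'⟩ := h.local_member _ hH (family_le_normalizer hX)
  obtain ⟨M, hWM, hM⟩ := exists_max_ge hW
  exact ⟨M, hM, fun U hU hUX => (hW' U hU hUX).trans hWM⟩

/-- A maximal member contains all members normalising one of its nontrivial invariant subgroups. -/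
theorem le_max {M X U : Subgroup G} (hM : IsMax p A θ M) (hX : X ∈ Cfsg.signalizerFamily p A θ)
    (hne : X ≠ ⊥) (hMX : M ≤ normalizer (X : Set G)) (hU : U ∈ Cfsg.signalizerFamily p A θ)
    (hUX : U ≤ normalizer (X : Set G)) : U ≤ M := by
  obtain ⟨M', hM', hall⟩ := h.exists_max_normalized hX hne
  exact (hall U hU hUX).trans (hM.2 M' hM'.1 (hall M hM.1 hMX)).le

theorem le_max_core {M U : Subgroup G} {r : ℕ} (hM : IsMax p A θ M) (hne : core r M ≠ ⊥)
    (hU : U ∈ Cfsg.signalizerFamily p A θ) (hUX : U ≤ normalizer (core r M : Set G)) : U ≤ M :=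
  h.le_max hM (h.mem_core hM.1 r) hne (le_normalizer_core r M) hU hUX

theorem le_max_zc {M U : Subgroup G} {r : ℕ} [Fact r.Prime] (hM : IsMax p A θ M)
    (hne : core r M ≠ ⊥) (hU : U ∈ Cfsg.signalizerFamily p A θ)
    (hUX : U ≤ normalizer (zc (core r M) : Set G)) : U ≤ M :=
  h.le_max hM (h.mem_zc_core hM.1 r) (zc_ne_bot (core_isPGroup r M) hne)
    ((le_normalizer_core r M).trans (normalizer_le_normalizer_zc _)) hU hUX

/-! ### Sylow members -/

/-- An `r`-member lies in a `θ(A)`-conjugate of any maximal `r`-member. -/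
theorem exists_le_conj {r : ℕ} [Fact r.Prime] {R U : Subgroup G}
    (hR : IsMaximalMember p r A θ R) (hU : U ∈ Cfsg.signalizerFamily p A θ) (hUr : IsPGroup r U) :
    ∃ c ∈ Cfsg.signalizerInf A θ, U ≤ R.map (MulAut.conj c).toMonoidHom := by
  obtain ⟨R', hUR, hR'⟩ := exists_maximalMember_ge hU hUr
  obtain ⟨c, hc, rfl⟩ := exists_conj_of_maximal h.ea h.card_le h.func hR hR'
  exact ⟨c, hc, hUR⟩

/-- The `r`-core of a member containing `θ(A)` lies in every maximal `r`-member. -/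
theorem core_le_maximal {r : ℕ} [Fact r.Prime] {R K : Subgroup G}
    (hR : IsMaximalMember p r A θ R) (hK : K ∈ Cfsg.signalizerFamily p A θ)
    (hA : Cfsg.signalizerInf A θ ≤ K) : core r K ≤ R := by
  obtain ⟨c, hc, hle⟩ := h.exists_le_conj hR (h.mem_core hK r) (core_isPGroup r K)
  intro x hx
  have h1 : c * x * c⁻¹ ∈ core r K :=
    (mem_normalizer_iff.mp (le_normalizer_core r K (hA hc)) x).mp hx
  obtain ⟨y, hy, e⟩ := hle h1
  simp only [MulEquiv.coe_toMonoidHom, MulAut.conj_apply, mul_left_inj, mul_right_inj] at e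
  exact e ▸ hy

/-! ### Layers -/

omit h in
/-- `r`-elements of a `s`-layer lie in its kernel. -/
theorem le_layer_of_isPGroup {r s : ℕ} [Fact r.Prime] [Fact s.Prime] (hsr : s ≠ r)
    {N Y D : Subgroup G} (hD : IsPGroup r D) (hpow : ∀ y ∈ Y, y ^ s ∈ N) (hDY : D ≤ Y) : D ≤ N := by
  intro x hx
  refine mem_of_pow_mem ?_ (hpow x (hDY hx))
  obtain ⟨k, hk⟩ := hD ⟨x, hx⟩
  exact (Nat.Coprime.pow_left k ((Nat.coprime_primes Fact.out Fact.out).mpr hsr.symm)).coprime_dvd_left
    (orderOf_dvd_of_pow_eq_one (congrArg Subtype.val hk))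

/-- The skeleton of all layer arguments. -/
theorem le_core_of_layers {r : ℕ} [Fact r.Prime] {K Z : Subgroup G}
    (hK : K ∈ Cfsg.signalizerFamily p A θ) (hZK : Z ≤ K) (hZ : IsPGroup r Z)
    (hlay : ∀ (s : ℕ), s.Prime → s ≠ r → s ≠ p → ∀ N Y : Subgroup G, N ≤ Y → Y ≤ K →
      K ⊔ A ≤ normalizer (N : Set G) → K ⊔ A ≤ normalizer (Y : Set G) → ⁅Y, Y⁆ ≤ N →
      (∀ y ∈ Y, y ^ s ∈ N) → ⁅Z, Y⁆ ≤ N) : Z ≤ core r K := by
  refine le_core_of_forall_core' hZK fun s hs hsr => ?_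
  have := Fact.mk hs
  by_cases hsp : s = p
  · subst hsp
    exact hZK.trans (le_core' le_rfl le_normalizer
      (PLocal.not_dvd_iff_coprime.mpr hK.2.1))
  obtain ⟨N, Y, hNY, hYK, hN, hY, hcomm, hpow, hfaith⟩ := exists_layer (s := s) hK.1
  refine hfaith Z hZK ?_ (hlay s hs hsr hsp N Y hNY hYK
    ((sup_le le_normalizer (family_le_normalizer hK)).trans hN)
    ((sup_le le_normalizer (family_le_normalizer hK)).trans hY) hcomm hpow)
  intro hdvd
  obtain ⟨k, hk⟩ := hZ.exists_card_eq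
  rw [hk] at hdvd
  exact hsr ((Nat.prime_dvd_prime_iff_eq hs Fact.out).mp (hs.dvd_of_dvd_pow hdvd))

theorem le_core_of_hyp {r : ℕ} [Fact r.Prime] {K Z R : Subgroup G}
    (hK : K ∈ Cfsg.signalizerFamily p A θ) (hZK : Z ≤ K) (hR : IsPGroup r R) (hZ : IsPGroup r Z)
    (hcomm : ∀ B, Hyp p A B → ⁅Z, K ⊓ centralizer (B : Set G)⁆ ≤ R) : Z ≤ core r K := by
  refine h.le_core_of_layers hK hZK hZ fun s hs hsr _ N Y hNY hYK hN hY _ hpow => ?_
  have := Fact.mk hs
  have hZN : Z ≤ normalizer (N : Set G) := hZK.trans (le_sup_left.trans hN)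
  have hYN : Y ≤ normalizer (N : Set G) := hYK.trans (le_sup_left.trans hN)
  have hle : Y ≤ ((centralizer (img N Z : Set (NQuot N))).comap (nproj N)).map
      (normalizer (N : Set G)).subtype := by
    refine h.le_of_hyp (le_sup_right.trans hY) (fun e => hK.2.1 (e.trans (card_dvd_of_le hYK)))
      fun B hB x hx => ?_
    have h1 : ⁅Z, Y ⊓ centralizer (B : Set G)⁆ ≤ N := by
      refine le_layer_of_isPGroup hsr (hR.to_le ?_) hpow ?_
      · exact (commutator_mono le_rfl (inf_le_inf_right _ hYK)).trans (hcomm B hB)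
      · exact (commutator_mono le_rfl inf_le_left).trans (le_normalizer_iff_commutator_le_right.mp
          ((hZK.trans (le_sup_left.trans hY))))
    rw [commutator_comm] at h1
    exact ⟨⟨x, hYN hx.1⟩, (img_le_centralizer_iff (inf_le_left.trans hYN) hZN).mpr h1
      (mem_img hx (hYN hx.1)), rfl⟩
  rw [commutator_comm]
  refine (img_le_centralizer_iff hYN hZN).mp ?_
  rintro _ ⟨x, hx, rfl⟩
  obtain ⟨y, hy, hyx⟩ := hle hx
  rw [← (normalizer (N : Set G)).subtype_injective hyx]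
  exact hy

theorem le_core_GF {r : ℕ} [Fact r.Prime] {K U R : Subgroup G}
    (hK : K ∈ Cfsg.signalizerFamily p A θ) (hUK : U ≤ K) (hU : IsPGroup r U)
    (hAU : A ≤ normalizer (U : Set G)) {a : G} (ha : a ∈ A) (hR : IsPGroup r R)
    (hCK : ⁅U, K ⊓ centralizer ({a} : Set G)⁆ ≤ R)
    (hCU : U ⊓ centralizer ({a} : Set G) ≤ core r K) : U ≤ core r K := by
  refine h.le_core_of_layers hK hUK hU fun s hs hsr hsp N Y hNY hYK hN hY hcomm hpow => ?_
  have := Fact.mk hs
  have hUY : U ≤ normalizer (Y : Set G) := hUK.trans (le_sup_left.trans hY)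
  have hpN : ¬ p ∣ Nat.card N := fun e => hK.2.1 (e.trans (card_dvd_of_le (hNY.trans hYK)))
  exact GF_mod hsr (h.ea.2 a ha) hpN (hYK.trans (le_sup_left.trans hN)) hcomm hpow hU
    (hUK.trans (le_sup_left.trans hN)) (hN (mem_sup_right ha)) hUY (hY (mem_sup_right ha)) (hAU ha)
    (fun e => hK.2.1 (e.trans (card_dvd_of_le hUK)))
    (le_layer_of_isPGroup hsr ((core_isPGroup r K).to_le
        ((commutator_mono hCU le_rfl).trans (le_normalizer_iff_commutator_le_left.mp
          (hYK.trans (le_normalizer_core r K))))) hpow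
      ((commutator_mono inf_le_left le_rfl).trans (le_normalizer_iff_commutator_le_right.mp hUY)))
    (le_layer_of_isPGroup hsr (hR.to_le ((commutator_mono le_rfl (inf_le_inf_right _ hYK)).trans hCK))
      hpow ((commutator_mono le_rfl inf_le_left).trans
        (le_normalizer_iff_commutator_le_right.mp hUY)))

theorem commutator_le_core {r : ℕ} [Fact r.Prime] (hodd : Odd r) {K U R : Subgroup G}
    (hK : K ∈ Cfsg.signalizerFamily p A θ) (hUK : U ≤ K) (hU : IsPGroup r U)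
    (hAU : A ≤ normalizer (U : Set G)) {a : G} (ha : a ∈ A) (hR : IsPGroup r R)
    (hCK : ⁅U, K ⊓ centralizer ({a} : Set G)⁆ ≤ R) : ⁅U, zpowers a⁆ ≤ core r K := by
  have hle : ⁅U, zpowers a⁆ ≤ U :=
    Coprime.commutator_le_of_le_normalizer ((zpowers_le.mpr ha).trans hAU)
  by_cases hrp : r = p
  · subst hrp
    have : U = ⊥ := by
      refine PLocal.eq_bot_of_isPGroup_of_coprime hU ?_
      exact PLocal.not_dvd_iff_coprime.mpr fun e => hK.2.1 (e.trans (card_dvd_of_le hUK))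
    rw [this, commutator_bot_left]
    exact bot_le
  refine h.le_core_of_layers hK (hle.trans hUK) (hU.to_le hle)
    fun s hs hsr hsp N Y hNY hYK hN hY hcomm hpow => ?_
  have := Fact.mk hs
  exact OL_mod hrp hodd hsr hsp (h.ea.2 a ha)
    (fun e => hK.2.1 (e.trans (card_dvd_of_le (hNY.trans hYK))))
    (hYK.trans (le_sup_left.trans hN)) hcomm hpow hU (hUK.trans (le_sup_left.trans hN))
    (hN (mem_sup_right ha)) (hUK.trans (le_sup_left.trans hY)) (hY (mem_sup_right ha)) (hAU ha)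
    (le_layer_of_isPGroup hsr (hR.to_le ((commutator_mono le_rfl (inf_le_inf_right _ hYK)).trans hCK))
      hpow ((commutator_mono le_rfl inf_le_left).trans
        (le_normalizer_iff_commutator_le_right.mp (hUK.trans (le_sup_left.trans hY)))))

end MinCE

end CfsgLib.SolvSig
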