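import Cfsg.Agent.SolvSig.Final

/-!
# The subgroups generated by the cores of the values on hyperplanes

`Dcore r θ B` is the intersection of the `O_r(θ b)`, `b ∈ B#`, and `Tcore p r A θ` is generated
by the `Dcore r θ B` over the hyperplanes `B` of `A`.

* `MinCE.tcore_inf_le_core` : `T ⊓ K ≤ O_r(K)` for every member `K`.
* `MinCE.tcore_le_core_max` : `T ≤ O_r(N)` if `N` is maximal, contains `θ(A)` and `O_r(N) ≠ 1`.
* `MinCE.tcore_eq_bot_of_forall` : `T = 1` if all of `A#` has colours with nontrivial `r`-core.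
* `MinCE.core_odd_commutator_eq_bot`, `MinCE.tcore_two_eq_bot`.
-/

set_option autoImplicit false

open scoped commutatorElement

namespace CfsgLib.SolvSig

open Subgroup CfsgLib.Transitivity

variable {G : Type*} [Group G]

/-- The intersection of the `r`-cores of the values on `B#`. -/
def Dcore (r : ℕ) (θ : G → Subgroup G) (B : Subgroup G) : Subgroup G :=
  Cfsg.signalizerInf B fun e => core r (θ e)

/-- The subgroup generated by the `Dcore r θ B`, `B` a hyperplane. -/
def Tcore (p r : ℕ) (A : Subgroup G) (θ : G → Subgroup G) : Subgroup G :=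
  ⨆ B : {B : Subgroup G // Hyp p A B}, Dcore r θ (B : Subgroup G)

/-- `a` has a colour with nontrivial `r`-core. -/
def InA (p r : ℕ) (A : Subgroup G) (θ : G → Subgroup G) (a : G) : Prop :=
  ∃ N, IsMax p A θ N ∧ θ a ≤ N ∧ core r N ≠ ⊥

theorem mem_Dcore {r : ℕ} {θ : G → Subgroup G} {B : Subgroup G} {x : G} :
    x ∈ Dcore r θ B ↔ ∀ e ∈ B, e ≠ 1 → x ∈ core r (θ e) :=
  mem_signalizerInf (θ := fun e => core r (θ e))

theorem Dcore_le_core {r : ℕ} {θ : G → Subgroup G} {B : Subgroup G} {e : G} (he : e ∈ B)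
    (he1 : e ≠ 1) : Dcore r θ B ≤ core r (θ e) := fun _ hx => mem_Dcore.mp hx e he he1

theorem Dcore_le_Tcore {p r : ℕ} {A : Subgroup G} {θ : G → Subgroup G} {B : Subgroup G}
    (hB : Hyp p A B) : Dcore r θ B ≤ Tcore p r A θ :=
  le_iSup (fun B : {B : Subgroup G // Hyp p A B} => Dcore r θ (B : Subgroup G)) ⟨B, hB⟩

variable [Finite G] {p : ℕ} [Fact p.Prime] {A : Subgroup G} {θ : G → Subgroup G}

namespace MinCE

variable (h : MinCE p A θ)

include h

theorem exists_mem_A : ∃ a ∈ A, a ≠ 1 := by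
  obtain ⟨a, ha, ha'⟩ := h.exists_notMem_of_card_lt (B := ⊥)
    (by rw [card_bot]; exact Nat.one_lt_pow three_ne_zero (Fact.out : p.Prime).one_lt)
  exact ⟨a, ha, fun e => ha' (e ▸ one_mem _)⟩

theorem exists_maximal (r : ℕ) : ∃ R, IsMaximalMember p r A θ R := by
  obtain ⟨a, ha, ha1⟩ := h.exists_mem_A
  obtain ⟨R, -, hR⟩ := exists_maximalMember_ge
    (mem_of_le (h.mem_theta ha ha1) (bot_le : (⊥ : Subgroup G) ≤ θ a)
      (by rw [normalizer_eq_top_iff.mpr inferInstance]; exact le_top))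
    (IsPGroup.of_bot (p := r))
  exact ⟨R, hR⟩

theorem Dcore_le_maximal {r : ℕ} [Fact r.Prime] {R B : Subgroup G}
    (hR : IsMaximalMember p r A θ R) (hB : Hyp p A B) : Dcore r θ B ≤ R := by
  obtain ⟨e, he, he1⟩ := h.exists_ne_one hB
  exact (Dcore_le_core he he1).trans
    (h.core_le_maximal hR (h.mem_theta (hB.1 he) he1) (thetaA_le (hB.1 he) he1))

theorem tcore_le_maximal {r : ℕ} [Fact r.Prime] {R : Subgroup G}
    (hR : IsMaximalMember p r A θ R) : Tcore p r A θ ≤ R :=
  iSup_le fun B => h.Dcore_le_maximal hR B.2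

theorem tcore_isPGroup {r : ℕ} [Fact r.Prime] : IsPGroup r (Tcore p r A θ) := by
  obtain ⟨R, hR⟩ := h.exists_maximal r
  exact hR.2.1.to_le (h.tcore_le_maximal hR)

/-- `θ(A)` and `A` normalise every `Dcore r θ B`. -/
theorem le_normalizer_Dcore (r : ℕ) {B : Subgroup G} (hB : Hyp p A B) :
    Cfsg.signalizerInf A θ ⊔ A ≤ normalizer (Dcore r θ B : Set G) := by
  intro w hw
  rw [mem_normalizer_iff]
  refine fun x => ?_
  simp only [mem_Dcore]
  refine forall_congr' fun e => imp_congr_right fun he => imp_congr_right fun he1 => ?_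
  refine mem_normalizer_iff.mp ?_ x
  exact sup_le ((thetaA_le (hB.1 he) he1).trans (le_normalizer_core r _))
    (family_le_normalizer (h.mem_core (h.mem_theta (hB.1 he) he1) r)) hw

theorem le_normalizer_tcore (r : ℕ) :
    Cfsg.signalizerInf A θ ⊔ A ≤ normalizer (Tcore p r A θ : Set G) := by
  intro w hw
  rw [mem_normalizer_iff_map_conj_eq, Tcore, Subgroup.map_iSup]
  exact iSup_congr fun B => mem_normalizer_iff_map_conj_eq.mp (h.le_normalizer_Dcore r B.2 hw)

theorem mem_tcore (r : ℕ) [Fact r.Prime] : Tcore p r A θ ∈ Cfsg.signalizerFamily p A θ := by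
  obtain ⟨R, hR⟩ := h.exists_maximal r
  exact mem_of_le hR.1 (h.tcore_le_maximal hR) (le_sup_right.trans (h.le_normalizer_tcore r))

/-- Stability of `T` under the `θ(L)`. -/
theorem conj_tcore_mem {r : ℕ} [Fact r.Prime] {R L : Subgroup G}
    (hR : IsMaximalMember p r A θ R) (hL : Hyp p A L) {w x : G}
    (hw : w ∈ Cfsg.signalizerInf L θ) (hx : x ∈ Tcore p r A θ) : w * x * w⁻¹ ∈ R := by
  have hle : Tcore p r A θ ≤ R.comap (MulAut.conj w).toMonoidHom := by
    refine iSup_le fun B y hy => ?_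
    obtain ⟨e, heL, heB, he1⟩ := h.exists_mem_inf hL B.2
    refine h.core_le_maximal hR (h.mem_theta (hL.1 heL) he1) (thetaA_le (hL.1 heL) he1) ?_
    exact (mem_normalizer_iff.mp (le_normalizer_core r _ (thetaB_le heL he1 hw)) y).mp
      (Dcore_le_core heB he1 hy)
  exact hle hx

/-- `T ⊓ K ≤ O_r(K)`. -/
theorem tcore_inf_le_core {r : ℕ} [Fact r.Prime] {K : Subgroup G}
    (hK : K ∈ Cfsg.signalizerFamily p A θ) : Tcore p r A θ ⊓ K ≤ core r K := by
  obtain ⟨R, hR⟩ := h.exists_maximal r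
  refine h.le_core_of_hyp hK inf_le_right hR.2.1 (h.tcore_isPGroup.to_le inf_le_left)
    fun B hB => commutator_le.mpr fun z hz w hw => ?_
  rw [commutatorElement_def, show z * w * z⁻¹ * w⁻¹ = z * (w * z⁻¹ * w⁻¹) by group]
  exact mul_mem (h.tcore_le_maximal hR hz.1)
    (h.conj_tcore_mem hR hB (inf_le_thetaB hK hB.1 hw) (inv_mem hz.1))

theorem tcore_inf_theta_le {r : ℕ} [Fact r.Prime] {e : G} (he : e ∈ A) (he1 : e ≠ 1) :
    Tcore p r A θ ⊓ centralizer ({e} : Set G) ≤ core r (θ e) :=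
  (le_inf inf_le_left (inf_centralizer_le_theta (h.mem_tcore r) he he1)).trans
    (h.tcore_inf_le_core (h.mem_theta he he1))

/-- `C_T(B) = D(B)`. -/
theorem tcore_inf_centralizer {r : ℕ} [Fact r.Prime] {B : Subgroup G} (hB : Hyp p A B) :
    Tcore p r A θ ⊓ centralizer (B : Set G) = Dcore r θ B := by
  refine le_antisymm (fun x hx => mem_Dcore.mpr fun e he he1 => h.tcore_inf_theta_le (hB.1 he) he1
    ⟨hx.1, centralizer_le (Set.singleton_subset_iff.mpr he) hx.2⟩)
    (le_inf (Dcore_le_Tcore hB) fun x hx => ?_)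
  exact signalizerInf_le_centralizer h.func.1 hB.1
    (mem_signalizerInf.mpr fun e he he1 => core_le r _ (Dcore_le_core he he1 hx))

/-- `T` lies in the `r`-core of every maximal member containing `θ(A)` with nontrivial `r`-core. -/
theorem tcore_le_core_max {r : ℕ} [Fact r.Prime] {N : Subgroup G} (hN : IsMax p A θ N)
    (hA : Cfsg.signalizerInf A θ ≤ N) (hne : core r N ≠ ⊥) : Tcore p r A θ ≤ core r N := by
  obtain ⟨R, hR⟩ := h.exists_maximal r
  set O := core r N
  set T' := Tcore p r A θ ⊔ O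
  have hOR : O ≤ R := h.core_le_maximal hR hN.1 hA
  have hT'R : T' ≤ R := sup_le (h.tcore_le_maximal hR) hOR
  have hAT' : A ≤ normalizer (T' : Set G) := by
    intro a ha
    rw [mem_normalizer_iff_map_conj_eq, Subgroup.map_sup,
      mem_normalizer_iff_map_conj_eq.mp (h.le_normalizer_tcore r (mem_sup_right ha)),
      mem_normalizer_iff_map_conj_eq.mp (family_le_normalizer (h.mem_core hN.1 r) ha)]
  have hinf : T' ⊓ N ≤ O := by
    refine h.le_core_of_hyp hN.1 inf_le_right hR.2.1 (hR.2.1.to_le (inf_le_left.trans hT'R))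
      fun B hB => commutator_le.mpr fun z hz w hw => ?_
    rw [commutatorElement_def, show z * w * z⁻¹ * w⁻¹ = z * (w * z⁻¹ * w⁻¹) by group]
    refine mul_mem (hT'R hz.1) ?_
    have hle : T' ≤ R.comap (MulAut.conj w).toMonoidHom := sup_le
      (fun y hy => h.conj_tcore_mem hR hB (inf_le_thetaB hN.1 hB.1 hw) hy)
      (fun y hy => hOR ((mem_normalizer_iff.mp (le_normalizer_core r N hw.1) y).mp hy))
    exact hle (inv_mem hz.1)
  by_contra hle
  refine lt_inf_normalizer (hR.2.1.to_le hT'R) le_sup_right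
    (fun e => hle (le_sup_left.trans e.ge)) (le_trans (le_inf inf_le_right ?_) hinf)
  exact h.le_max_core hN hne (mem_of_le hR.1 (inf_le_right.trans hT'R)
    ((le_inf ((family_le_normalizer (h.mem_core hN.1 r)).trans le_normalizer) hAT').trans
      inf_normalizer_le_normalizer_inf)) inf_le_left

theorem tcore_inf_theta_eq_bot {r : ℕ} [Fact r.Prime] {g : G} (hg : g ∈ A) (hg1 : g ≠ 1)
    (hgA : ¬ InA p r A θ g) : Tcore p r A θ ⊓ centralizer ({g} : Set G) = ⊥ := by
  obtain ⟨N, hgN, hN⟩ := exists_max_ge (h.mem_theta hg hg1)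
  have hbot : core r N = ⊥ := by
    by_contra hne
    exact hgA ⟨N, hN, hgN, hne⟩
  exact le_bot_iff.mp ((le_inf inf_le_left ((inf_centralizer_le_theta (h.mem_tcore r) hg hg1).trans
    hgN)).trans ((h.tcore_inf_le_core hN.1).trans hbot.le))

/-- If all elements of `A` have colours with nontrivial `r`-core then `T = 1`. -/
theorem tcore_eq_bot_of_forall {r : ℕ} [Fact r.Prime]
    (hall : ∀ a ∈ A, a ≠ 1 → InA p r A θ a) : Tcore p r A θ = ⊥ := by
  obtain ⟨R, hR⟩ := h.exists_maximal r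
  refine h.eq_bot_of_normalized (h.mem_tcore r) fun L hL w hw => ?_
  have hAw : A ≤ normalizer (Cfsg.signalizerInf L θ : Set G) := le_normalizer_of_forall_conj
    fun a ha y hy => mem_signalizerInf.mpr fun b hb hb1 =>
      h.func.1.2.2.1 b (hL.1 hb) hb1 a ha y (mem_signalizerInf.mp hy b hb hb1)
  set Y := ⨆ v : Cfsg.signalizerInf L θ,
    (Tcore p r A θ).map (MulAut.conj (v : G)).toMonoidHom
  have hYR : Y ≤ R := iSup_le fun v => map_le_iff_le_comap.mpr fun x hx =>
    h.conj_tcore_mem hR hL v.2 hx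
  have hAY : A ≤ normalizer (Y : Set G) := by
    refine le_normalizer_of_forall_conj fun a ha y hy => ?_
    have hle : Y ≤ Y.comap (MulAut.conj a).toMonoidHom := by
      refine iSup_le fun v => map_le_iff_le_comap.mpr fun x hx => ?_
      simp only [mem_comap, MulEquiv.coe_toMonoidHom, MulAut.conj_apply]
      refine le_iSup (fun v : Cfsg.signalizerInf L θ =>
        (Tcore p r A θ).map (MulAut.conj (v : G)).toMonoidHom)
        ⟨_, (mem_normalizer_iff.mp (hAw ha) v).mp v.2⟩ ⟨a * x * a⁻¹,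
          (mem_normalizer_iff.mp (h.le_normalizer_tcore r (mem_sup_right ha)) x).mp hx, ?_⟩
      simp only [MulEquiv.coe_toMonoidHom, MulAut.conj_apply]
      group
    exact hle hy
  have hYmem : Y ∈ Cfsg.signalizerFamily p A θ := mem_of_le hR.1 hYR hAY
  have hYC : ∀ e ∈ A, e ≠ 1 → Y ⊓ centralizer ({e} : Set G) ≤ core r (θ e) := by
    intro e he he1
    refine h.le_core_of_hyp (h.mem_theta he he1) (inf_centralizer_le_theta hYmem he he1) hR.2.1
      (hR.2.1.to_le (inf_le_left.trans hYR)) fun L' hL' => commutator_le.mpr fun z hz u hu => ?_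
    rw [commutatorElement_def, show z * u * z⁻¹ * u⁻¹ = z * (u * z⁻¹ * u⁻¹) by group]
    refine mul_mem (hYR hz.1) ?_
    obtain ⟨e', heL, heL', he'1⟩ := h.exists_mem_inf hL hL'
    obtain ⟨N, hN, heN, hne⟩ := hall e' (hL.1 heL) he'1
    have hA : Cfsg.signalizerInf A θ ≤ N := (thetaA_le (hL.1 heL) he'1).trans heN
    have hYN : Y ≤ core r N := iSup_le fun v => map_le_iff_le_comap.mpr fun x hx =>
      (mem_normalizer_iff.mp (le_normalizer_core r N (heN (thetaB_le heL he'1 v.2))) x).mp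
        (h.tcore_le_core_max hN hA hne hx)
    exact h.core_le_maximal hR hN.1 hA ((mem_normalizer_iff.mp (le_normalizer_core r N (heN
      (thetaB_le heL' he'1 (inf_le_thetaB (h.mem_theta he he1) hL'.1 hu)))) _).mp
        (hYN (inv_mem hz.1)))
  have hYT : Y ≤ Tcore p r A θ := h.le_of_hyp_mem hYmem fun B hB x hx =>
    Dcore_le_Tcore hB (mem_Dcore.mpr fun e he he1 => hYC e (hB.1 he) he1
      ⟨hx.1, centralizer_le (Set.singleton_subset_iff.mpr he) hx.2⟩)
  rw [mem_normalizer_iff_map_conj_eq]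
  exact eq_of_le_of_card_ge ((le_iSup (fun v : Cfsg.signalizerInf L θ =>
    (Tcore p r A θ).map (MulAut.conj (v : G)).toMonoidHom) ⟨w, hw⟩).trans hYT)
    (card_map_of_injective (MulAut.conj w).injective).ge

theorem tcore_le_centralizer_tcore {r t : ℕ} [Fact r.Prime] [Fact t.Prime] (hrt : r ≠ t) :
    Tcore p r A θ ≤ centralizer (Tcore p t A θ : Set G) := by
  rw [le_centralizer_iff]
  refine iSup_le fun B => ?_
  rw [le_centralizer_iff]
  refine iSup_le fun B' => ?_
  rw [le_centralizer_iff]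
  obtain ⟨e, he, he', he1⟩ := h.exists_mem_inf B.2 B'.2
  exact (Dcore_le_core he he1).trans ((core_le_centralizer_core hrt.symm (θ e)).trans
    (centralizer_le (SetLike.coe_subset_coe.mpr (Dcore_le_core he' he1))))

/-- `[O_t(N),a] ≤ T_t` for odd `t` and a colour `N` of `a`. -/
theorem commutator_core_le_tcore {t : ℕ} [Fact t.Prime] (hodd : Odd t) {a : G} (ha : a ∈ A)
    (ha1 : a ≠ 1) {N : Subgroup G} (hN : N ∈ Cfsg.signalizerFamily p A θ) (haN : θ a ≤ N) :
    ⁅core t N, zpowers a⁆ ≤ Tcore p t A θ := by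
  refine h.commutator_le_of_hyp (h.mem_core hN t) ha fun B hB _ => le_trans ?_ (Dcore_le_Tcore hB)
  intro x hx
  refine mem_Dcore.mpr fun f hf hf1 => ?_
  have hOm := h.mem_inf_centralizer (h.mem_core hN t) hB.1
  refine h.commutator_le_core hodd (h.mem_theta (hB.1 hf) hf1) ?_
    ((core_isPGroup t N).to_le inf_le_left) (family_le_normalizer hOm) ha (core_isPGroup t N) ?_ hx
  · exact (inf_le_thetaB (h.mem_core hN t) hB.1).trans (thetaB_le hf hf1)
  · refine (commutator_mono inf_le_left le_rfl).trans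
      (le_normalizer_iff_commutator_le_left.mp ?_)
    exact ((inf_centralizer_le_theta (h.mem_theta (hB.1 hf) hf1) ha ha1).trans haN).trans
      (le_normalizer_core t N)

/-- If `T_r ≠ 1` and `g` has no colour with nontrivial `r`-core, then `g` centralises the odd
cores, other than `r`, of all its colours. -/
theorem core_odd_commutator_eq_bot {r t : ℕ} [Fact r.Prime] [Fact t.Prime] (hrt : r ≠ t)
    (hodd : Odd t) (hT : Tcore p r A θ ≠ ⊥) {g : G} (hg : g ∈ A) (hg1 : g ≠ 1)
    (hgA : ¬ InA p r A θ g) {N : Subgroup G} (hN : IsMax p A θ N) (hgN : θ g ≤ N) :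
    ⁅core t N, zpowers g⁆ = ⊥ := by
  by_contra hne
  set J := ⁅core t N, zpowers g⁆
  have hJ : J ∈ Cfsg.signalizerFamily p A θ :=
    h.mem_commutator (h.mem_core hN.1 t) (zpowers_le.mpr hg)
  obtain ⟨M, hM, hall⟩ := h.exists_max_normalized hJ hne
  have hgJ : θ g ≤ normalizer (J : Set G) := by
    intro w hw
    rw [mem_normalizer_iff_map_conj_eq, map_commutator,
      mem_normalizer_iff_map_conj_eq.mp (le_normalizer_core t N (hgN hw)),
      mem_normalizer_iff_map_conj_eq.mp (centralizer_le_normalizer _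
        ((centralizer_singleton_eq g).le (h.theta_le_centralizer hg hg1 hw)))]
  have hTM : Tcore p r A θ ≤ M := hall _ (h.mem_tcore r)
    (((h.tcore_le_centralizer_tcore hrt).trans (centralizer_le (SetLike.coe_subset_coe.mpr
      (h.commutator_core_le_tcore hodd hg hg1 hN.1 hgN)))).trans (centralizer_le_normalizer _))
  refine hT (le_bot_iff.mp ((le_inf le_rfl hTM).trans ((h.tcore_inf_le_core hM.1).trans ?_)))
  rw [le_bot_iff]
  by_contra hne'
  exact hgA ⟨M, hM, hall _ (h.mem_theta hg hg1) hgJ, hne'⟩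

theorem tcore_two_eq_bot : Tcore p 2 A θ = ⊥ := by
  by_contra hT
  have := Fact.mk Nat.prime_two
  refine hT (h.tcore_eq_bot_of_forall fun g hg hg1 => ?_)
  by_contra hgA
  obtain ⟨N, hN, hgN, t, ht, hne⟩ := h.exists_moved hg hg1
  have := Fact.mk ht
  rcases ht.eq_two_or_odd' with rfl | hodd
  · refine hgA ⟨N, hN, hgN, fun e => hne ?_⟩
    rw [e, commutator_bot_left]
  · exact hne (h.core_odd_commutator_eq_bot (fun e => absurd (e ▸ hodd) (by decide)) hodd hT hg hg1 hgA hN hgN)

end MinCE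

end CfsgLib.SolvSig
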