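import Cfsg.Agent.SolvSig.T
import Cfsg.Agent.SolvSig.Bender
import Cfsg.Agent.Coprime.PTimesQ

/-!
# The odd primes: `T_r = 1`

`MinCE.tcore_eq_bot` : the subgroups `Tcore p r A θ` are all trivial.
-/

set_option autoImplicit false

open scoped commutatorElement

namespace CfsgLib.SolvSig

open Subgroup CfsgLib.Transitivity

variable {G : Type*} [Group G]

/-- Two members of disjoint orders normalising each other centralise each other. -/
theorem le_centralizer_of_mutual {u v : ℕ} [Fact u.Prime] [Fact v.Prime] (huv : u ≠ v)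
    {X Y : Subgroup G} (hX : IsPGroup u X) (hY : IsPGroup v Y)
    (hXY : X ≤ normalizer (Y : Set G)) (hYX : Y ≤ normalizer (X : Set G)) :
    X ≤ centralizer (Y : Set G) := by
  rw [← commutator_eq_bot_iff_le_centralizer, ← le_bot_iff]
  exact (le_inf (le_normalizer_iff_commutator_le_left.mp hYX)
    (le_normalizer_iff_commutator_le_right.mp hXY)).trans
    (disjoint_iff_inf_le.mp (IsPGroup.disjoint_of_ne u v huv _ _ hX hY))

variable [Finite G]

theorem coprime_card_of_isPGroup {u v : ℕ} [Fact u.Prime] [Fact v.Prime] (huv : u ≠ v)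
    {X : Subgroup G} (hX : IsPGroup u X) : (Nat.card X).Coprime v := by
  obtain ⟨n, hn⟩ := hX.exists_card_eq
  rw [hn]
  exact ((Nat.coprime_primes Fact.out Fact.out).mpr huv).pow_left n

variable {p : ℕ} [Fact p.Prime] {A : Subgroup G} {θ : G → Subgroup G}

namespace MinCE

variable (h : MinCE p A θ)

include h

theorem eq_bot_of_le_centralizer {K : Subgroup G} (hK : K ∈ Cfsg.signalizerFamily p A θ) {e : G}
    (he : e ∈ A) (hle : ⁅K, zpowers e⁆ ≤ centralizer ({e} : Set G)) : ⁅K, zpowers e⁆ = ⊥ := by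
  rw [← h.comm_comm hK (zpowers_le.mpr he), commutator_eq_bot_iff_le_centralizer,
    ← centralizer_singleton_eq]
  exact hle

omit h in
theorem le_centralizer_of_commutator_eq_bot {K : Subgroup G} {e : G}
    (hle : ⁅K, zpowers e⁆ = ⊥) : K ≤ centralizer ({e} : Set G) := by
  rwa [centralizer_singleton_eq, ← commutator_eq_bot_iff_le_centralizer]

/-- If `C_X(e) = 1` then `[U,e]` centralises `X`, for an `r`-group `U`, `r` odd, and a
`v`-group `X`, `v ≠ r`. -/
theorem commutator_le_centralizer_of_fpf {r v : ℕ} [Fact r.Prime] [Fact v.Prime] (hodd : Odd r)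
    (hvr : v ≠ r) {U X : Subgroup G} (hU : U ∈ Cfsg.signalizerFamily p A θ)
    (hX : X ∈ Cfsg.signalizerFamily p A θ) (hUr : IsPGroup r U) (hXv : IsPGroup v X)
    (hn : U ≤ normalizer (X : Set G)) {e : G} (he : e ∈ A)
    (hfpf : X ⊓ centralizer ({e} : Set G) = ⊥) :
    ⁅U, zpowers e⁆ ≤ centralizer (X : Set G) := by
  have hK : X ⊔ U ∈ Cfsg.signalizerFamily p A θ := mem_family_sup h.ea hX hU hn
  have hzA : zpowers e ≤ A := zpowers_le.mpr he
  have hC : (X ⊔ U) ⊓ centralizer ({e} : Set G) ≤ U := by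
    rintro z ⟨hz, hze⟩
    obtain ⟨x, hx, u, hu, rfl⟩ := Coprime.exists_mul_of_mem_sup hn hz
    obtain ⟨x', hx', u', hu', e'⟩ := Coprime.exists_mul_eq_of_mem_centralizer
      (hzA.trans (family_le_normalizer hX)) (hzA.trans (family_le_normalizer hU))
      ((coprime_card_of_elab h.ea fun hd =>
        hX.2.1 (hd.trans (card_dvd_of_le inf_le_left))).coprime_dvd_left (card_dvd_of_le hzA))
      (Or.inl (isSolvable_zpowers e)) hx hu (by rw [← centralizer_singleton_eq]; exact hze)
    rw [← centralizer_singleton_eq, hfpf, mem_bot] at hx'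
    rw [e', hx', one_mul]
    exact (Subgroup.mem_inf.mp hu').1
  refine (h.commutator_le_core hodd hK le_sup_right hUr (family_le_normalizer hU) he hUr
    ((commutator_mono le_rfl hC).trans U.commutator_le_self)).trans ?_
  refine (core_le_centralizer_core hvr.symm (X ⊔ U)).trans
    (centralizer_le (SetLike.coe_subset_coe.mpr ?_))
  exact le_core le_sup_left (sup_le le_normalizer hn) hXv

/-- If two cores of `M` have their centres in `H`, then `O_u(H) ≤ M`. -/
theorem core_le_of_zc {u v : ℕ} [Fact u.Prime] [Fact v.Prime] (huv : u ≠ v) {M H : Subgroup G}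
    (hM : IsMax p A θ M) (hH : H ∈ Cfsg.signalizerFamily p A θ) (huM : core u M ≠ ⊥)
    (hvM : core v M ≠ ⊥) (hu : zc (core u M) ≤ H) (hv : zc (core v M) ≤ H) : core u H ≤ M := by
  set X := core u H
  set P := zc (core u M)
  set Q := zc (core v M)
  have hX := h.mem_core hH u
  have hPm := h.mem_zc_core hM.1 u
  have hXCm : X ⊓ centralizer (P : Set G) ∈ Cfsg.signalizerFamily p A θ :=
    h.mem_inf hX fun a ha => mem_normalizer_centralizer (family_le_normalizer hPm ha)
  have hXC : X ⊓ centralizer (P : Set G) ≤ M :=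
    h.le_max_zc hM huM hXCm (inf_le_right.trans (centralizer_le_normalizer _))
  have hQ : Q ≤ centralizer (X : Set G) := by
    refine Coprime.le_centralizer_of_inf_centralizer_le ((core_isPGroup u M).to_le inf_le_left)
      (coprime_card_of_isPGroup huv.symm ((core_isPGroup v M).to_le inf_le_left))
      (core_isPGroup u H) ?_ (hu.trans (le_normalizer_core u H)) (hv.trans (le_normalizer_core u H)) ?_
    · exact inf_le_left.trans ((core_le_centralizer_core huv M).trans
        (centralizer_le (SetLike.coe_subset_coe.mpr inf_le_left)))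
    · rw [← commutator_eq_bot_iff_le_centralizer, ← le_bot_iff]
      refine le_trans (le_inf ((commutator_mono inf_le_left le_rfl).trans
          (le_normalizer_iff_commutator_le_left.mp (hv.trans (le_normalizer_core u H))))
        ((commutator_mono le_rfl inf_le_left).trans
          (le_normalizer_iff_commutator_le_right.mp (hXC.trans (le_normalizer_core v M))))) ?_
      exact disjoint_iff_inf_le.mp
        (IsPGroup.disjoint_of_ne u v huv _ _ (core_isPGroup u H) (core_isPGroup v M))
  exact h.le_max_zc hM hvM hX ((le_centralizer_iff.mp hQ).trans (centralizer_le_normalizer _))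

/-- A colour of a point of a tangent, and the cores of `H` seen from it. -/
theorem point_facts {r : ℕ} [Fact r.Prime] (hodd : Odd r) (hT : Tcore p r A θ ≠ ⊥)
    {H : Subgroup G} (hH : IsMax p A θ H)
    (hHall : ∀ U ∈ Cfsg.signalizerFamily p A θ, U ≤ normalizer (Tcore p r A θ : Set G) → U ≤ H)
    {e : G} (he : e ∈ A) (he1 : e ≠ 1) (hTe : Tcore p r A θ ≤ centralizer ({e} : Set G))
    (heH : ¬ θ e ≤ H) :
    ∃ M, IsMax p A θ M ∧ θ e ≤ M ∧ Tcore p r A θ ≤ core r M ∧ core 2 M ≠ ⊥ ∧
      core r M ≤ centralizer ({e} : Set G) ∧ core r H ≤ M ∧ core 2 H ≤ M ∧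
      core r H ≤ centralizer ({e} : Set G) ∧
      ∀ v : ℕ, v.Prime → v ≠ 2 → core v H ≤ centralizer ({e} : Set G) ∨
        core v H ⊓ centralizer ({e} : Set G) = ⊥ := by
  set T := Tcore p r A θ
  set E := zpowers e
  have hEA : E ≤ A := zpowers_le.mpr he
  have hTm := h.mem_tcore r
  have hr2 : r ≠ 2 := fun e => absurd (e ▸ hodd) (by decide)
  have hTθ : T ≤ θ e := (le_inf le_rfl hTe).trans (inf_centralizer_le_theta hTm he he1)
  have hcol : ∀ {M : Subgroup G}, IsMax p A θ M → θ e ≤ M → T ≤ core r M := fun hM heM =>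
    (le_inf le_rfl (hTθ.trans heM)).trans (h.tcore_inf_le_core hM.1)
  have hfix : ∀ {M : Subgroup G}, IsMax p A θ M → θ e ≤ M →
      core r M ≤ centralizer ({e} : Set G) := fun hM heM =>
    le_centralizer_of_commutator_eq_bot (h.eq_bot_of_le_centralizer (h.mem_core hM.1 r) he
      ((h.commutator_core_le_tcore hodd he he1 hM.1 heM).trans hTe))
  have hneT : ∀ {M : Subgroup G}, T ≤ core r M → core r M ≠ ⊥ := fun hle e' =>
    hT (le_bot_iff.mp (hle.trans e'.le))
  have hTH : T ≤ core r H := (le_inf le_rfl (hHall T hTm le_normalizer)).trans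
    (h.tcore_inf_le_core hH.1)
  have hvH : ∀ {M : Subgroup G}, M ∈ Cfsg.signalizerFamily p A θ → T ≤ core r M → ∀ v : ℕ,
      v.Prime → v ≠ r → core v M ≤ H := by
    intro M hM hTM v hv hvr
    have := Fact.mk hv
    exact hHall _ (h.mem_core hM v) (((core_le_centralizer_core hvr M).trans
      (centralizer_le (SetLike.coe_subset_coe.mpr hTM))).trans (centralizer_le_normalizer _))
  have hzr : ∀ {M : Subgroup G}, M ∈ Cfsg.signalizerFamily p A θ → T ≤ core r M →
      zc (core r M) ≤ H := fun hM hTM => hHall _ (h.mem_zc_core hM r)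
    ((inf_le_right.trans (centralizer_le (SetLike.coe_subset_coe.mpr hTM))).trans
      (centralizer_le_normalizer _))
  have hodd' : ∀ {M : Subgroup G}, IsMax p A θ M → θ e ≤ M → ∀ t : ℕ, t.Prime → t ≠ 2 →
      ⁅core t M, E⁆ = ⊥ := by
    intro N hN heN t ht ht2
    by_contra hne
    have := Fact.mk ht
    have htr : t ≠ r := by
      rintro rfl
      exact hne (commutator_eq_bot_iff_le_centralizer.mpr
        ((hfix hN heN).trans (centralizer_singleton_eq e).le))
    set J := ⁅core t N, E⁆
    have hJ : J ∈ Cfsg.signalizerFamily p A θ := h.mem_commutator (h.mem_core hN.1 t) hEA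
    obtain ⟨M, hM, hall⟩ := h.exists_max_normalized hJ hne
    have heJ : θ e ≤ normalizer (J : Set G) := by
      intro w hw
      rw [mem_normalizer_iff_map_conj_eq, map_commutator,
        mem_normalizer_iff_map_conj_eq.mp (le_normalizer_core t N (heN hw)),
        mem_normalizer_iff_map_conj_eq.mp (centralizer_le_normalizer _
          ((centralizer_singleton_eq e).le (h.theta_le_centralizer he he1 hw)))]
    have heM : θ e ≤ M := hall _ (h.mem_theta he he1) heJ
    have hTM := hcol hM heM
    have hJT : J ≤ Tcore p t A θ :=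
      h.commutator_core_le_tcore (ht.eq_two_or_odd'.resolve_left ht2) he he1 hN.1 heN
    have hJH : J ≤ core t H := (le_inf hJT (hJT.trans (hHall _ (h.mem_tcore t)
      ((h.tcore_le_centralizer_tcore htr).trans (centralizer_le_normalizer _))))).trans
        (h.tcore_inf_le_core hH.1)
    have hJM : J ≤ core t M :=
      (le_inf hJT (hall J hJ le_normalizer)).trans (h.tcore_inf_le_core hM.1)
    have htM : core t M ≠ ⊥ := fun e' => hne (le_bot_iff.mp (hJM.trans e'.le))
    have htH : core t H ≠ ⊥ := fun e' => hne (le_bot_iff.mp (hJH.trans e'.le))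
    have hFH : ∀ w : ℕ, w.Prime → core w H ≤ M := by
      intro w hw
      have := Fact.mk hw
      by_cases hwt : w = t
      · subst hwt
        exact h.core_le_of_zc htr hM hH.1 htM (hneT hTM)
          (inf_le_left.trans (hvH hM.1 hTM w hw htr)) (hzr hM.1 hTM)
      · exact hall _ (h.mem_core hH.1 w) (((core_le_centralizer_core hwt H).trans
          (centralizer_le (SetLike.coe_subset_coe.mpr hJH))).trans (centralizer_le_normalizer _))
    have hFM : ∀ w : ℕ, w.Prime → core w M ≤ H := by
      intro w hw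
      by_cases hwr : w = r
      · subst hwr
        exact h.core_le_of_zc htr.symm hH hM.1 (hneT hTH) htH
          (inf_le_left.trans (hFH w hw)) (inf_le_left.trans (hFH t ht))
      · exact hvH hM.1 hTM w hw hwr
    obtain rfl : M = H := h.bender htr hM hH hFM hFH (hneT hTM) (hneT hTH) htM
    exact heH heM
  obtain ⟨M, hM, heM, t, ht, hne⟩ := h.exists_moved he he1
  obtain rfl : t = 2 := by_contra fun ht2 => hne (hodd' hM heM t ht ht2)
  have := Fact.mk Nat.prime_two
  have hTM := hcol hM heM
  have h2M : core 2 M ≠ ⊥ := fun e' => hne (by rw [e', commutator_bot_left])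
  have h2MH : core 2 M ≤ H := hvH hM.1 hTM 2 Nat.prime_two (Ne.symm hr2)
  have hcent : ∀ v : ℕ, v.Prime → v ≠ 2 → core v H ≤ M →
      core v H ≤ centralizer ({e} : Set G) := by
    intro v hv hv2 hvM
    have := Fact.mk hv
    refine le_centralizer_of_commutator_eq_bot (h.eq_bot_of_le_centralizer (h.mem_core hH.1 v) he ?_)
    have hX : ⁅core v H, E⁆ ≤ core v H := Coprime.commutator_le_of_le_normalizer
      (hEA.trans (family_le_normalizer (h.mem_core hH.1 v)))
    refine le_trans (le_core_of_centralizes hM.1.1 (hX.trans hvM)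
      ((core_isPGroup v H).to_le hX) fun w hw => ?_) (le_centralizer_of_commutator_eq_bot (hodd' hM heM v hv hv2))
    by_cases hw2 : w = 2
    · subst hw2
      exact hX.trans (le_centralizer_of_mutual hv2 (core_isPGroup v H) (core_isPGroup 2 M)
        (hvM.trans (le_normalizer_core 2 M)) (h2MH.trans (le_normalizer_core v H)))
    · exact commutator_le_centralizer (hvM.trans (le_normalizer_core w M))
        (le_centralizer_zpowers (le_centralizer_of_commutator_eq_bot (hodd' hM heM w hw hw2)))
  have hrHM : core r H ≤ M :=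
    h.core_le_of_zc hr2 hM hH.1 (hneT hTM) h2M (hzr hM.1 hTM) (inf_le_left.trans h2MH)
  refine ⟨M, hM, heM, hTM, h2M, hfix hM heM, hrHM,
    h.core_le_of_zc (Ne.symm hr2) hM hH.1 h2M (hneT hTM) (inf_le_left.trans h2MH) (hzr hM.1 hTM),
    hcent r Fact.out hr2 hrHM, fun v hv hv2 => ?_⟩
  have := Fact.mk hv
  by_cases hvr : v = r
  · subst hvr
    exact Or.inl (hcent v hv hv2 hrHM)
  by_cases hvM : core v M = ⊥
  swap
  · exact Or.inl (hcent v hv hv2 (h.core_le_of_zc hvr hM hH.1 hvM (hneT hTM)
      (inf_le_left.trans (hvH hM.1 hTM v hv hvr)) (hzr hM.1 hTM)))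
  refine Or.inr ?_
  set X := core v H
  set X' := X ⊓ centralizer ({e} : Set G)
  have hXM : X' ≤ M := (inf_centralizer_le_theta (h.mem_core hH.1 v) he he1).trans heM
  have hXr : X' ≤ centralizer (core r M : Set G) := by
    refine Coprime.le_centralizer_of_inf_centralizer_le (h.tcore_isPGroup (r := r))
      (coprime_card_of_isPGroup hvr ((core_isPGroup v H).to_le inf_le_left))
      (core_isPGroup r M) ?_ (hTM.trans le_normalizer) (hXM.trans (le_normalizer_core r M)) ?_
    · exact hTH.trans ((core_le_centralizer_core (Ne.symm hvr) H).trans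
        (centralizer_le (SetLike.coe_subset_coe.mpr inf_le_left)))
    · have hU : core r M ⊓ centralizer (T : Set G) ∈ Cfsg.signalizerFamily p A θ :=
        h.mem_inf (h.mem_core hM.1 r) fun a ha =>
          mem_normalizer_centralizer (family_le_normalizer hTm ha)
      have hUH := hHall _ hU (inf_le_right.trans (centralizer_le_normalizer _))
      rw [le_centralizer_iff, ← commutator_eq_bot_iff_le_centralizer, ← le_bot_iff]
      refine le_trans (le_inf ((commutator_mono inf_le_left le_rfl).trans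
          (le_normalizer_iff_commutator_le_left.mp (hUH.trans (le_normalizer_core v H))))
        ((commutator_mono le_rfl inf_le_left).trans
          (le_normalizer_iff_commutator_le_right.mp (hXM.trans (le_normalizer_core r M))))) ?_
      exact disjoint_iff_inf_le.mp
        (IsPGroup.disjoint_of_ne v r hvr _ _ (core_isPGroup v H) (core_isPGroup r M))
  have hle : X' ≤ core v M := by
    refine le_core_of_centralizes hM.1.1 hXM ((core_isPGroup v H).to_le inf_le_left) fun w hw => ?_
    have := Fact.mk hw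
    by_cases hwr : w = r
    · exact hwr ▸ hXr
    by_cases hwv : w = v
    · subst hwv
      exact le_centralizer_iff.mp (hvM.le.trans bot_le)
    rw [← commutator_eq_bot_iff_le_centralizer, ← le_bot_iff]
    refine le_trans (le_inf ((commutator_mono inf_le_left le_rfl).trans
        (le_normalizer_iff_commutator_le_left.mp ((hvH hM.1 hTM w hw hwr).trans
          (le_normalizer_core v H))))
      (le_normalizer_iff_commutator_le_right.mp (hXM.trans (le_normalizer_core w M)))) ?_
    exact disjoint_iff_inf_le.mp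
      (IsPGroup.disjoint_of_ne v w (Ne.symm hwv) _ _ (core_isPGroup v H) (core_isPGroup w M))
  exact le_bot_iff.mp (hle.trans hvM.le)

/-- A member containing `θ L` for all hyperplanes `L` avoiding a given `e` does not exist. -/
theorem exists_bad_notMem {H : Subgroup G} (hH : H ∈ Cfsg.signalizerFamily p A θ) {e : G}
    (he : e ∈ A) (he1 : e ≠ 1) :
    ∃ L, Hyp p A L ∧ e ∉ L ∧ ¬ Cfsg.signalizerInf L θ ≤ H := by
  by_contra! hall
  set E := zpowers e
  have hEA : E ≤ A := zpowers_le.mpr he
  set Ω := ⨆ L : {L : Subgroup G // Hyp p A L ∧ e ∉ L}, ⁅Cfsg.signalizerInf (L : Subgroup G) θ, E⁆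
  have hΩH : Ω ≤ H := iSup_le fun L => (commutator_mono (hall L L.2.1 L.2.2) le_rfl).trans
    (Coprime.commutator_le_of_le_normalizer (hEA.trans (family_le_normalizer hH)))
  have hinv : ∀ L : Subgroup G, Hyp p A L → A ≤ normalizer (Cfsg.signalizerInf L θ : Set G) :=
    fun L hL => le_normalizer_of_forall_conj fun a ha y hy => mem_signalizerInf.mpr fun b hb hb1 =>
      h.func.1.2.2.1 b (hL.1 hb) hb1 a ha y (mem_signalizerInf.mp hy b hb hb1)
  have hAΩ : A ≤ normalizer (Ω : Set G) := by
    intro a ha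
    rw [mem_normalizer_iff_map_conj_eq, Subgroup.map_iSup]
    exact iSup_congr fun L => mem_normalizer_iff_map_conj_eq.mp
      (h.le_normalizer_commutator (hinv L L.2.1) hEA ha)
  have hΩ : Ω ∈ Cfsg.signalizerFamily p A θ := mem_of_le hH hΩH hAΩ
  have hgen : ∀ x ∈ A, x ≠ 1 → ⁅θ x, E⁆ ≤ Ω := fun x hx hx1 =>
    h.commutator_le_of_hyp (h.mem_theta hx hx1) he fun B hB heB =>
      (commutator_mono (inf_le_thetaB (h.mem_theta hx hx1) hB.1) le_rfl).trans
        (le_iSup (fun L : {L : Subgroup G // Hyp p A L ∧ e ∉ L} =>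
          ⁅Cfsg.signalizerInf (L : Subgroup G) θ, E⁆) ⟨B, hB, heB⟩)
  have hΩ1 : Ω = ⊥ := h.eq_bot_of_normalized hΩ fun L' hL' w hw => by
    have hle : Ω ≤ Ω.comap (MulAut.conj w).toMonoidHom := by
      refine iSup_le fun L x hx => ?_
      obtain ⟨f, hfL, hfL', hf1⟩ := h.exists_mem_inf L.2.1 hL'
      exact hgen f (hL'.1 hfL') hf1
        ((mem_normalizer_iff.mp (normalizer_commutator_ge_left _ _ (thetaB_le hfL' hf1 hw)) x).mp
          (commutator_mono (thetaB_le hfL hf1) le_rfl hx))
    rw [mem_normalizer_iff_map_conj_eq]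
    exact eq_of_le_of_card_ge (map_le_iff_le_comap.mpr hle)
      (card_map_of_injective (MulAut.conj w).injective).ge
  have hle : Cfsg.signalizerClosure A θ ≤ θ e := iSup_le fun x =>
    (le_inf le_rfl (le_centralizer_of_commutator_eq_bot
      (le_bot_iff.mp ((hgen x x.2.1 x.2.2).trans hΩ1.le)))).trans
      (inf_centralizer_le_theta (h.mem_theta x.2.1 x.2.2) he he1)
  exact h.not_good ⟨Components.isSolvable_mono (h.mem_theta he he1).1 hle,
    fun hd => (h.mem_theta he he1).2.1 (hd.trans (card_dvd_of_le hle))⟩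

/-- If `θ L` does not normalise `T` then some element of `L` centralises `T`. -/
theorem exists_tangent {r : ℕ} [Fact r.Prime] (hodd : Odd r) (hT : Tcore p r A θ ≠ ⊥)
    {L : Subgroup G} (hL : Hyp p A L)
    (hbad : ¬ Cfsg.signalizerInf L θ ≤ normalizer (Tcore p r A θ : Set G)) :
    ∃ e ∈ L, e ≠ 1 ∧ Tcore p r A θ ≤ centralizer ({e} : Set G) := by
  set T := Tcore p r A θ
  have hTA : T ⊓ centralizer (A : Set G) = ⊥ := by
    obtain ⟨g, hg, hg1, hgA⟩ : ∃ g ∈ A, g ≠ 1 ∧ ¬ InA p r A θ g := by
      by_contra! hall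
      exact hT (h.tcore_eq_bot_of_forall hall)
    rw [← le_bot_iff, ← h.tcore_inf_theta_eq_bot hg hg1 hgA]
    exact inf_le_inf_left _ (centralizer_le (Set.singleton_subset_iff.mpr hg))
  have hInA : ∀ B, Hyp p A B → Dcore r θ B ≠ ⊥ → ∀ f ∈ B, f ≠ 1 → InA p r A θ f := by
    intro B hB hne f hf hf1
    by_contra hfA
    refine hne (le_bot_iff.mp ((le_inf (Dcore_le_Tcore hB) ?_).trans
      (h.tcore_inf_theta_eq_bot (hB.1 hf) hf1 hfA).le))
    exact (Dcore_le_core hf hf1).trans ((core_le r _).trans (h.theta_le_centralizer (hB.1 hf) hf1))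
  obtain ⟨B₁, hB₁, hD₁, hB₁L, hsub⟩ : ∃ B₁, Hyp p A B₁ ∧ Dcore r θ B₁ ≠ ⊥ ∧ B₁ ≠ L ∧
      ∀ f ∈ L, f ≠ 1 → InA p r A θ f → f ∈ B₁ := by
    by_contra! hcon
    refine hbad fun x hx => ?_
    have hle : T ≤ T.comap (MulAut.conj x).toMonoidHom := by
      refine iSup_le fun B => ?_
      set C := Dcore r θ (B : Subgroup G) with hC
      by_cases hCbot : C = ⊥
      · rw [hCbot]; exact bot_le
      by_cases hBL : (B : Subgroup G) = L
      · intro y hy
        refine Dcore_le_Tcore B.2 (mem_Dcore.mpr fun f hf hf1 => ?_)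
        exact (mem_normalizer_iff.mp (le_normalizer_core r _ (thetaB_le (hBL ▸ hf) hf1 hx)) y).mp
          (Dcore_le_core hf hf1 hy)
      obtain ⟨f, hfL, hf1, hfA, hfB⟩ := hcon B B.2 hCbot hBL
      obtain ⟨N, hN, hfN, hne⟩ := hfA
      have hfA' : f ∈ A := hL.1 hfL
      have hzA : zpowers f ≤ A := zpowers_le.mpr hfA'
      have hCA : A ≤ normalizer (C : Set G) := le_sup_right.trans (h.le_normalizer_Dcore r B.2)
      have hCm : C ∈ Cfsg.signalizerFamily p A θ :=
        mem_of_le (h.mem_tcore r) (Dcore_le_Tcore B.2) hCA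
      have hCf : C = ⁅C, zpowers f⁆ := by
        refine le_antisymm ?_ (Coprime.commutator_le_of_le_normalizer (hzA.trans hCA))
        refine (Coprime.commutator_sup_centralizer (hzA.trans hCA)
          ((h.coprime hCm).coprime_dvd_left (card_dvd_of_le hzA))
          (Or.inl (isSolvable_zpowers f))).ge.trans (sup_le le_rfl ?_)
        refine le_trans ?_ (bot_le : (⊥ : Subgroup G) ≤ _)
        rw [← hTA]
        refine le_inf (inf_le_left.trans (Dcore_le_Tcore B.2)) ?_
        rw [← h.sup_eq_top B.2 hfA' hfB, le_centralizer_iff, sup_le_iff]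
        exact ⟨le_centralizer_iff.mp (inf_le_left.trans
            ((h.tcore_inf_centralizer B.2).ge.trans inf_le_right)),
          le_centralizer_iff.mp inf_le_right⟩
      have hxf : x ∈ centralizer ((zpowers f : Subgroup G) : Set G) :=
        (centralizer_singleton_eq f).le (h.theta_le_centralizer hfA' hf1 (thetaB_le hfL hf1 hx))
      intro y hy
      have hle' : C.map (MulAut.conj x).toMonoidHom ≤ T := by
        have hzf : (zpowers f).map (MulAut.conj x).toMonoidHom = zpowers f :=
          mem_normalizer_iff_map_conj_eq.mp (centralizer_le_normalizer _ hxf)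
        rw [hCf, map_commutator, hzf]
        refine (commutator_mono ?_ le_rfl).trans
          (h.commutator_core_le_tcore hodd hfA' hf1 hN.1 hfN)
        rintro _ ⟨z, hz, rfl⟩
        exact (mem_normalizer_iff.mp (le_normalizer_core r N (hfN (thetaB_le hfL hf1 hx))) z).mp
          (h.tcore_le_core_max hN ((thetaA_le hfA' hf1).trans hfN) hne (Dcore_le_Tcore B.2 hz))
      exact hle' ⟨y, hy, rfl⟩
    rw [mem_normalizer_iff_map_conj_eq]
    exact eq_of_le_of_card_ge (map_le_iff_le_comap.mpr hle)
      (card_map_of_injective (MulAut.conj x).injective).ge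
  obtain ⟨e, heL, heB, he1⟩ := h.exists_mem_inf hL hB₁
  refine ⟨e, heL, he1, iSup_le fun B => ?_⟩
  by_cases hne : Dcore r θ (B : Subgroup G) = ⊥
  · rw [hne]; exact bot_le
  obtain ⟨f, hfB, hfL, hf1⟩ := h.exists_mem_inf B.2 hL
  have hf1B : f ∈ B₁ := hsub f hfL hf1 (hInA B B.2 hne f hfB hf1)
  have hfe : f ∈ zpowers e := by
    by_contra hfe
    have hy := h.hyp_of_two (hL.1 heL) (hL.1 hfL) he1 hfe
    refine hB₁L ((eq_of_le_of_card_ge (sup_le (zpowers_le.mpr heB) (zpowers_le.mpr hf1B))
      (hy.2 ▸ hB₁.2.le)).symm.trans (eq_of_le_of_card_ge (sup_le (zpowers_le.mpr heL)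
        (zpowers_le.mpr hfL)) (hy.2 ▸ hL.2.le)))
  have heB' : e ∈ (B : Subgroup G) :=
    zpowers_le.mpr hfB (mem_zpowers_of_ne_one (h.ea.2 e (hL.1 heL)) hfe hf1)
  exact (Dcore_le_core heB' he1).trans ((core_le r _).trans
    (h.theta_le_centralizer (hL.1 heL) he1))

theorem tcore_eq_bot_of_odd {r : ℕ} [Fact r.Prime] (hodd : Odd r) : Tcore p r A θ = ⊥ := by
  by_contra hT
  set T := Tcore p r A θ
  have hTm := h.mem_tcore r
  obtain ⟨H, hH, hHall⟩ := h.exists_max_normalized hTm hT
  have hmemB : ∀ {B : Subgroup G}, Hyp p A B → Cfsg.signalizerInf B θ ∈ Cfsg.signalizerFamily p A θ := by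
    intro B hB
    obtain ⟨b, hb, hb1⟩ := h.exists_ne_one hB
    exact mem_of_le (h.mem_theta (hB.1 hb) hb1) (thetaB_le hb hb1)
      (le_normalizer_of_forall_conj fun a ha y hy => mem_signalizerInf.mpr fun b hb hb1 =>
        h.func.1.2.2.1 b (hB.1 hb) hb1 a ha y (mem_signalizerInf.mp hy b hb hb1))
  have htan : ∀ L, Hyp p A L → ¬ Cfsg.signalizerInf L θ ≤ H →
      ∃ e ∈ L, e ≠ 1 ∧ T ≤ centralizer ({e} : Set G) ∧ ¬ θ e ≤ H := by
    intro L hL hbad
    obtain ⟨e, heL, he1, hTe⟩ := h.exists_tangent hodd hT hL fun hle => hbad (hHall _ (hmemB hL) hle)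
    exact ⟨e, heL, he1, hTe, fun hle => hbad ((thetaB_le heL he1).trans hle)⟩
  obtain ⟨L₀, hL₀, hbad₀⟩ : ∃ L, Hyp p A L ∧ ¬ Cfsg.signalizerInf L θ ≤ H := by
    obtain ⟨a, ha, ha1⟩ := h.exists_mem_A
    obtain ⟨L, hL, -, hbad⟩ := h.exists_bad_notMem hH.1 ha ha1
    exact ⟨L, hL, hbad⟩
  obtain ⟨e, heL, he1, hTe, heH⟩ := htan L₀ hL₀ hbad₀
  have he : e ∈ A := hL₀.1 heL
  obtain ⟨L₁, hL₁, heL₁, hbad₁⟩ := h.exists_bad_notMem hH.1 he he1
  obtain ⟨f, hfL, hf1, hTf, hfH⟩ := htan L₁ hL₁ hbad₁
  have hf : f ∈ A := hL₁.1 hfL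
  have hfe : f ∉ zpowers e := fun hmem =>
    heL₁ (zpowers_le.mpr hfL (mem_zpowers_of_ne_one (h.ea.2 e he) hmem hf1))
  set B := zpowers e ⊔ zpowers f
  have hB : Hyp p A B := h.hyp_of_two he hf he1 hfe
  have hTB : T ≤ centralizer (B : Set G) := by
    rw [le_centralizer_iff, sup_le_iff]
    exact ⟨le_centralizer_zpowers hTe, le_centralizer_zpowers hTf⟩
  have hTD : T = Dcore r θ B := by
    rw [← h.tcore_inf_centralizer hB]
    exact (inf_eq_left.mpr hTB).symm
  have hBH : Cfsg.signalizerInf B θ ≤ H := by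
    refine hHall _ (hmemB hB) fun w hw => ?_
    rw [show Tcore p r A θ = Dcore r θ B from hTD, mem_normalizer_iff]
    intro x
    simp only [mem_Dcore]
    exact forall_congr' fun b => imp_congr_right fun hb => imp_congr_right fun hb1 =>
      mem_normalizer_iff.mp (le_normalizer_core r _ (thetaB_le hb hb1 hw)) x
  obtain ⟨M, hM, heM, hTM, h2M, hrMe, hrHM, h2HM, hrHe, hvHe⟩ :=
    h.point_facts hodd hT hH hHall he he1 hTe heH
  obtain ⟨-, -, -, -, -, -, -, -, hrHf, hvHf⟩ := h.point_facts hodd hT hH hHall hf hf1 hTf hfH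
  have hTH : T ≤ core r H := (le_inf le_rfl (hHall T hTm le_normalizer)).trans
    (h.tcore_inf_le_core hH.1)
  have hrH : core r H ≠ ⊥ := fun e' => hT (le_bot_iff.mp (hTH.trans e'.le))
  have hrM : core r M ≠ ⊥ := fun e' => hT (le_bot_iff.mp (hTM.trans e'.le))
  have hr2 : r ≠ 2 := fun e => absurd (e ▸ hodd) (by decide)
  have := Fact.mk Nat.prime_two
  obtain ⟨R, hHR, hR⟩ := exists_maximalMember_ge (h.mem_core hH.1 r) (core_isPGroup r H)
  have hRe : ¬ R ≤ centralizer ({e} : Set G) :=
    h.final hR (fun e' => hrH (le_bot_iff.mp (e' ▸ hHR))) he he1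
  have h2H : core 2 H ≠ ⊥ := by
    intro h2
    obtain ⟨Z₀, Z₁, hZ₀, hZ₁, hZ₁R, hcomm, hn⟩ := exists_series_not_le hR.2.1 hRe
    have hZ : Z₁ ∈ Cfsg.signalizerFamily p A θ :=
      mem_of_le hR.1 hZ₁R ((family_le_normalizer hR.1).trans hn)
    have hEA : zpowers e ≤ A := zpowers_le.mpr he
    set X := ⁅Z₁, zpowers e⁆ with hXdef
    have hXm : X ∈ Cfsg.signalizerFamily p A θ := h.mem_commutator hZ hEA
    have hXX : ⁅X, zpowers e⁆ = X := h.comm_comm hZ hEA
    have hXC : ∀ C : Subgroup G, C ≤ R → C ≤ centralizer ({e} : Set G) →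
        X ≤ centralizer (C : Set G) := fun C hCR hCe =>
      commutator_le_centralizer_of_commutator ((commutator_mono le_rfl hCR).trans hcomm)
        (le_centralizer_zpowers hZ₀) (le_centralizer_zpowers hCe)
    have hXT : X ≤ centralizer (T : Set G) := hXC T (h.tcore_le_maximal hR) hTe
    have hXH : X ≤ H := hHall X hXm (hXT.trans (centralizer_le_normalizer _))
    have hXrH : X ≤ centralizer (core r H : Set G) := hXC _ hHR hrHe
    have hXr : IsPGroup r X := hR.2.1.to_le
      ((Coprime.commutator_le_of_le_normalizer (hEA.trans (family_le_normalizer hZ))).trans hZ₁R)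
    have hXcore : X ≤ core r H := by
      refine le_core_of_centralizes hH.1.1 hXH hXr fun v hv => ?_
      have := Fact.mk hv
      by_cases hvr : v = r
      · subst hvr; exact hXrH
      by_cases hv2 : v = 2
      · subst hv2
        exact le_centralizer_iff.mp (h2.le.trans bot_le)
      rw [← hXX]
      rcases hvHe v hv hv2 with hc | hc
      · exact commutator_le_centralizer (hXH.trans (le_normalizer_core v H))
          (le_centralizer_zpowers hc)
      · exact h.commutator_le_centralizer_of_fpf hodd hvr hXm (h.mem_core hH.1 v) hXr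
          (core_isPGroup v H) (hXH.trans (le_normalizer_core v H)) he hc
    exact hZ₁ (le_centralizer_of_commutator_eq_bot
      (h.eq_bot_of_le_centralizer hZ he (hXcore.trans hrHe)))
  set P := core r M
  have hPm := h.mem_core hM.1 r
  have hPH : P ≤ H := h.core_le_of_zc hr2 hH hM.1 hrH h2H (inf_le_left.trans hrHM)
    (inf_le_left.trans h2HM)
  have hFA : zpowers f ≤ A := zpowers_le.mpr hf
  set X := ⁅P, zpowers f⁆
  have hXm : X ∈ Cfsg.signalizerFamily p A θ := h.mem_commutator hPm hFA
  have hXP : X ≤ P := Coprime.commutator_le_of_le_normalizer (hFA.trans (family_le_normalizer hPm))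
  have hXcore : X ≤ core r H := by
    refine le_core_of_centralizes hH.1.1 (hXP.trans hPH) ((core_isPGroup r M).to_le hXP)
      fun v hv => ?_
    have := Fact.mk hv
    by_cases hv2 : v = 2
    · subst hv2
      exact hXP.trans (le_centralizer_of_mutual hr2 (core_isPGroup r M) (core_isPGroup 2 H)
        (hPH.trans (le_normalizer_core 2 H)) (h2HM.trans (le_normalizer_core r M)))
    by_cases hvr : v = r
    · subst hvr
      exact commutator_le_centralizer (hPH.trans (le_normalizer_core v H))
        (le_centralizer_zpowers hrHf)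
    rcases hvHf v hv hv2 with hc | hc
    · exact commutator_le_centralizer (hPH.trans (le_normalizer_core v H))
        (le_centralizer_zpowers hc)
    · exact h.commutator_le_centralizer_of_fpf hodd hvr hPm (h.mem_core hH.1 v)
        (core_isPGroup r M) (core_isPGroup v H) (hPH.trans (le_normalizer_core v H)) hf hc
  have hPf : P ≤ centralizer ({f} : Set G) := le_centralizer_of_commutator_eq_bot
    (h.eq_bot_of_le_centralizer hPm hf (hXcore.trans hrHf))
  refine heH ?_
  have hθe := h.mem_theta he he1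
  refine (Coprime.commutator_sup_centralizer (hFA.trans (family_le_normalizer hθe))
    ((h.coprime hθe).coprime_dvd_left (card_dvd_of_le hFA))
    (Or.inl (isSolvable_zpowers f))).ge.trans (sup_le ?_ ?_)
  · refine hHall _ (h.mem_commutator hθe hFA) ?_
    exact ((commutator_le_centralizer (heM.trans (le_normalizer_core r M))
      (le_centralizer_zpowers hPf)).trans (centralizer_le (SetLike.coe_subset_coe.mpr hTM))).trans
      (centralizer_le_normalizer _)
  · refine le_trans ?_ ((inf_le_thetaB hθe hB.1).trans hBH)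
    refine le_inf inf_le_left ?_
    rw [le_centralizer_iff]
    exact sup_le (le_centralizer_zpowers (inf_le_left.trans (h.theta_le_centralizer he he1)))
      (le_centralizer_iff.mp inf_le_right)

/-- All the `Tcore p r A θ` are trivial. -/
theorem tcore_eq_bot (r : ℕ) [Fact r.Prime] : Tcore p r A θ = ⊥ := by
  rcases (Fact.out : r.Prime).eq_two_or_odd' with rfl | hodd
  · exact h.tcore_two_eq_bot
  · exact h.tcore_eq_bot_of_odd hodd

theorem dcore_eq_bot (r : ℕ) [Fact r.Prime] {B : Subgroup G} (hB : Hyp p A B) :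
    Dcore r θ B = ⊥ :=
  le_bot_iff.mp ((Dcore_le_Tcore hB).trans (h.tcore_eq_bot r).le)

end MinCE

end CfsgLib.SolvSig
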