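import Cfsg.Agent.SolvSig.Tangent

/-!
# The prime 2: no minimal counterexample

`MinCE.false` : there is no minimal counterexample to the solvable signalizer functor theorem.
-/

set_option autoImplicit false

open scoped commutatorElement

namespace CfsgLib.SolvSig

open Subgroup CfsgLib.Transitivity

variable {G : Type*} [Group G]

/-- The elements of `N_G(N)` centralising `X` modulo `N`. -/
def modCentralizer (N X : Subgroup G) : Subgroup G :=
  ((centralizer (img N X : Set (NQuot N))).comap (nproj N)).map (normalizer (N : Set G)).subtype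

theorem le_modCentralizer_iff {N X Y : Subgroup G} (hY : Y ≤ normalizer (N : Set G))
    (hX : X ≤ normalizer (N : Set G)) : Y ≤ modCentralizer N X ↔ ⁅Y, X⁆ ≤ N := by
  rw [← img_le_centralizer_iff hY hX]
  constructor
  · rintro hle _ ⟨y, hy, rfl⟩
    obtain ⟨z, hz, hzy⟩ := hle hy
    rw [← (normalizer (N : Set G)).subtype_injective hzy]
    exact hz
  · intro hle y hy
    exact ⟨⟨y, hY hy⟩, hle (mem_img hy (hY hy)), rfl⟩

variable [Finite G]

/-- The `q`-elements stabilising the series `O_q(M) ≥ C ≥ 1` and centralising the other cores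
generate a `q`-group. -/
theorem exists_stab_pgroup {q : ℕ} [Fact q.Prime] {M C : Subgroup G} (hM : Group.IsSolvable ↥M)
    (hC : C ≤ core q M) : ∃ R : Subgroup G, IsPGroup q R ∧ ∀ x ∈ M, (∃ k, x ^ q ^ k = 1) →
      (∀ v : ℕ, v.Prime → v ≠ q → x ∈ centralizer (core v M : Set G)) →
      x ∈ centralizer (C : Set G) → (∀ o ∈ core q M, ⁅o, x⁆ ∈ C) → x ∈ R := by
  set O := core q M
  set W := ⨆ w : {w : ℕ // w.Prime ∧ w ≠ q}, core (w : ℕ) M
  have hmul : ∀ o x y : G, x ∈ centralizer (C : Set G) → ⁅o, y⁆ ∈ C →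
      ⁅o, x * y⁆ = ⁅o, x⁆ * ⁅o, y⁆ := by
    intro o x y hx hy
    rw [commutatorElement_mul_right_eq_mul_conj, mul_assoc ⁅o, x⁆ x,
      ← mem_centralizer_iff.mp hx _ hy, mul_assoc ⁅o, x⁆, mul_assoc ⁅o, y⁆, mul_inv_cancel, mul_one]
  let S : Subgroup G :=
    { carrier := {x | x ∈ M ∧ (∀ v : ℕ, v.Prime → v ≠ q → x ∈ centralizer (core v M : Set G)) ∧
        x ∈ centralizer (C : Set G) ∧ ∀ o ∈ O, ⁅o, x⁆ ∈ C}
      mul_mem' := fun {x y} hx hy => ⟨mul_mem hx.1 hy.1,
        fun v hv hvq => mul_mem (hx.2.1 v hv hvq) (hy.2.1 v hv hvq), mul_mem hx.2.2.1 hy.2.2.1,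
        fun o ho => by rw [hmul o x y hx.2.2.1 (hy.2.2.2 o ho)]; exact mul_mem (hx.2.2.2 o ho) (hy.2.2.2 o ho)⟩
      one_mem' := ⟨one_mem _, fun _ _ _ => one_mem _, one_mem _, fun o _ => by
        rw [commutatorElement_one_right]; exact one_mem _⟩
      inv_mem' := fun {x} hx => ⟨inv_mem hx.1, fun v hv hvq => inv_mem (hx.2.1 v hv hvq),
        inv_mem hx.2.2.1, fun o ho => by
          have h1 := hmul o x⁻¹ x (inv_mem hx.2.2.1) (hx.2.2.2 o ho)
          rw [inv_mul_cancel, commutatorElement_one_right, eq_comm, mul_eq_one_iff_eq_inv] at h1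
          rw [h1]
          exact inv_mem (hx.2.2.2 o ho)⟩ }
  have hpow : ∀ x ∈ S, ∀ o ∈ O, ∀ n : ℕ, ⁅o, x ^ n⁆ = ⁅o, x⁆ ^ n := by
    intro x hx o ho n
    induction n with
    | zero => simp
    | succ n ih =>
      rw [pow_succ, hmul o (x ^ n) x (pow_mem hx.2.2.1 n) (hx.2.2.2 o ho), ih, pow_succ]
  have hWS : W ≤ centralizer (S : Set G) := iSup_le fun w y hy =>
    mem_centralizer_iff.mpr fun x hx => (mem_centralizer_iff.mp (hx.2.1 w w.2.1 w.2.2) y hy).symm
  obtain ⟨a, ha⟩ := ((core_isPGroup q M).to_le hC).exists_card_eq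
  obtain ⟨b, hb⟩ := (core_isPGroup q M).exists_card_eq
  have hZ : ∀ x ∈ S, x ^ q ^ (a + b) ∈ W ⊓ S := by
    intro x hx
    refine ⟨?_, pow_mem hx _⟩
    have hxO : x ^ q ^ a ∈ centralizer (O : Set G) := by
      refine mem_centralizer_iff.mpr fun o ho => commutatorElement_eq_one_iff_mul_comm.mp ?_
      rw [hpow x hx o ho, ← ha]
      exact congrArg Subtype.val (pow_card_eq_one' (x := (⟨_, hx.2.2.2 o ho⟩ : C)))
    have hxF := mem_cores_of_centralizes (q := q) hM (pow_mem hx.1 (q ^ a)) fun v hv => by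
      by_cases hvq : v = q
      · subst hvq; exact hxO
      · exact pow_mem (hx.2.1 v hv hvq) _
    have hWO : O ≤ centralizer (W : Set G) := by
      rw [le_centralizer_iff]
      refine iSup_le fun w => ?_
      have := Fact.mk w.2.1
      exact core_le_centralizer_core w.2.2 M
    obtain ⟨w, hw, u, hu, e⟩ := Coprime.exists_mul_of_mem_sup
      (hWO.trans (centralizer_le_normalizer _)) (sup_comm O W ▸ hxF : x ^ q ^ a ∈ W ⊔ O)
    have hwu : Commute w u := mem_centralizer_iff.mp (hWO hu) w hw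
    have hu1 : u ^ q ^ b = 1 := by
      rw [← hb]
      exact congrArg Subtype.val (pow_card_eq_one' (x := (⟨u, hu⟩ : O)))
    rw [pow_add, pow_mul, ← e, hwu.mul_pow, hu1, mul_one]
    exact pow_mem hw _
  set Z := (W ⊓ S).subgroupOf S
  have hZc : Z ≤ center S := fun z hz => mem_center_iff.mpr fun x =>
    Subtype.ext (mem_centralizer_iff.mp (hWS hz.1) x x.2)
  have hZn : Z.Normal :=
    ⟨fun z hz g => by rw [mem_center_iff.mp (hZc hz) g, mul_inv_cancel_right]; exact hz⟩
  have hq : IsPGroup q (S ⧸ Z) := by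
    intro x
    obtain ⟨x, rfl⟩ := QuotientGroup.mk'_surjective Z x
    exact ⟨a + b, by rw [← map_pow]; exact (QuotientGroup.eq_one_iff _).mpr (hZ x x.2)⟩
  let P : Sylow q S := default
  obtain ⟨k, hk⟩ := hq.exists_card_eq
  have htop : (P : Subgroup S) ⊔ Z = ⊤ := by
    refine index_eq_one.mp (Nat.eq_one_of_dvd_coprimes ?_ (index_dvd_of_le le_sup_left)
      (index_dvd_of_le le_sup_right))
    rw [show Z.index = q ^ k from hk, Nat.coprime_comm]
    exact ((Fact.out : q.Prime).coprime_iff_not_dvd.mpr P.not_dvd_index).pow_left k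
  have hPn : (P : Subgroup S).Normal := normalizer_eq_top_iff.mp (top_unique (htop ▸
    sup_le le_normalizer ((hZc.trans (center_le_centralizer _)).trans (centralizer_le_normalizer _))))
  refine ⟨(P : Subgroup S).map S.subtype, P.2.map _, ?_⟩
  intro x hxM ⟨m, hm⟩ h1 h2 h3
  have hxS : x ∈ S := ⟨hxM, h1, h2, h3⟩
  have hx : IsPGroup q (zpowers (⟨x, hxS⟩ : S)) := IsPGroup.of_card (n := (Nat.card (zpowers (⟨x, hxS⟩ : S))).factorization q) (by
    obtain ⟨j, -, hj⟩ := (Nat.dvd_prime_pow (Fact.out : q.Prime)).mp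
      (orderOf_dvd_of_pow_eq_one (show (⟨x, hxS⟩ : S) ^ q ^ m = 1 from Subtype.ext hm))
    rw [Nat.card_zpowers, hj, Nat.Prime.factorization_pow Fact.out, Finsupp.single_eq_same])
  obtain ⟨Q, hQ⟩ := hx.exists_le_sylow
  have : Unique (Sylow q S) := Sylow.unique_of_normal P hPn
  rw [Subsingleton.elim Q P] at hQ
  exact ⟨⟨x, hxS⟩, hQ (mem_zpowers _), rfl⟩

variable {p : ℕ} [Fact p.Prime] {A : Subgroup G} {θ : G → Subgroup G}

namespace MinCE

variable (h : MinCE p A θ)

include h

theorem core_odd_le_centralizer {t : ℕ} [Fact t.Prime] (ht : t ≠ 2) {a : G} (ha : a ∈ A)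
    (ha1 : a ≠ 1) {N : Subgroup G} (hN : IsMax p A θ N) (haN : θ a ≤ N) :
    core t N ≤ centralizer ({a} : Set G) :=
  le_centralizer_of_commutator_eq_bot (le_bot_iff.mp ((h.commutator_core_le_tcore
    ((Fact.out : t.Prime).eq_two_or_odd'.resolve_left ht) ha ha1 hN.1 haN).trans
      (h.tcore_eq_bot t).le))

theorem exists_moved_two {a : G} (ha : a ∈ A) (ha1 : a ≠ 1) :
    ∃ N, IsMax p A θ N ∧ θ a ≤ N ∧ ⁅core 2 N, zpowers a⁆ ≠ ⊥ := by
  obtain ⟨N, hN, haN, t, ht, hne⟩ := h.exists_moved ha ha1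
  have := Fact.mk ht
  obtain rfl : t = 2 := by_contra fun ht2 => hne (commutator_eq_bot_iff_le_centralizer.mpr
    ((h.core_odd_le_centralizer ht2 ha ha1 hN haN).trans (centralizer_singleton_eq a).le))
  exact ⟨N, hN, haN, hne⟩

theorem core_two_theta_ne_bot {a : G} (ha : a ∈ A) (ha1 : a ≠ 1) : core 2 (θ a) ≠ ⊥ := by
  intro hbot
  have := Fact.mk Nat.prime_two
  obtain ⟨N, hN, haN, hne⟩ := h.exists_moved_two ha ha1
  have hO := h.mem_core hN.1 2
  refine hne (le_bot_iff.mp (h.commutator_le_of_hyp hO ha fun B hB _ => ?_))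
  have hU : core 2 N ⊓ centralizer (B : Set G) ≤ Dcore 2 θ B := by
    intro x hx
    refine mem_Dcore.mpr fun f hf hf1 => h.le_core_GF (h.mem_theta (hB.1 hf) hf1)
      (U := core 2 N ⊓ centralizer (B : Set G)) (R := core 2 N) ?_
      ((core_isPGroup 2 N).to_le inf_le_left)
      (family_le_normalizer (h.mem_inf_centralizer hO hB.1)) ha (core_isPGroup 2 N) ?_ ?_ hx
    · exact (inf_le_thetaB hO hB.1).trans (thetaB_le hf hf1)
    · refine (commutator_mono inf_le_left le_rfl).trans
        (le_normalizer_iff_commutator_le_left.mp ?_)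
      exact ((inf_centralizer_le_theta (h.mem_theta (hB.1 hf) hf1) ha ha1).trans haN).trans
        (le_normalizer_core 2 N)
    · refine le_trans ?_ bot_le
      rw [← hbot]
      exact (le_inf (inf_le_left.trans inf_le_left)
        ((inf_le_inf_right _ inf_le_left).trans (inf_centralizer_le_theta hO ha ha1))).trans
        (inf_core_le_core haN)
  rw [le_bot_iff.mp (hU.trans (h.dcore_eq_bot 2 hB).le), commutator_bot_left]

/-- There is no minimal counterexample. -/
theorem false : False := by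
  have := Fact.mk Nat.prime_two
  obtain ⟨S, hS⟩ := h.exists_maximal 2
  have hSC : ¬ S ≤ centralizer (A : Set G) := by
    intro hle
    obtain ⟨a, ha, ha1⟩ := h.exists_mem_A
    obtain ⟨N, hN, haN, hne⟩ := h.exists_moved_two ha ha1
    refine hne (commutator_eq_bot_iff_le_centralizer.mpr
      (((h.core_le_maximal hS hN.1 ((thetaA_le ha ha1).trans haN)).trans hle).trans ?_))
    exact centralizer_le (SetLike.coe_subset_coe.mpr (zpowers_le.mpr ha))
  obtain ⟨Z₀, Z₁, hZ₀, hZ₁, hZ₁S, hcomm, hn⟩ := exists_series_not_le hS.2.1 hSC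
  have hZ : Z₁ ∈ Cfsg.signalizerFamily p A θ :=
    mem_of_le hS.1 hZ₁S ((family_le_normalizer hS.1).trans hn)
  obtain ⟨B, hB, hUC⟩ : ∃ B, Hyp p A B ∧
      ¬ Z₁ ⊓ centralizer (B : Set G) ≤ centralizer (A : Set G) := by
    by_contra! hall
    exact hZ₁ (h.le_of_hyp_mem hZ hall)
  set U := Z₁ ⊓ centralizer (B : Set G)
  have hU := h.mem_inf_centralizer hZ hB.1
  set X := ⁅U, A⁆
  have hXU : X ≤ U := Coprime.commutator_le_of_le_normalizer (family_le_normalizer hU)
  have hX : X ∈ Cfsg.signalizerFamily p A θ := h.mem_commutator hU le_rfl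
  have hX1 : X ≠ ⊥ := fun e => hUC (commutator_eq_bot_iff_le_centralizer.mp e)
  have hXS : X ≤ S := hXU.trans (inf_le_left.trans hZ₁S)
  have hX2 : IsPGroup 2 X := hS.2.1.to_le hXS
  have hXθ : ∀ f ∈ B, f ≠ 1 → X ≤ θ f := fun f hf hf1 =>
    hXU.trans ((inf_le_thetaB hZ hB.1).trans (thetaB_le hf hf1))
  have hXa : ∀ a ∈ A, a ∉ B → X = ⁅U, zpowers a⁆ := by
    intro a ha haB
    refine le_antisymm ?_ (commutator_mono le_rfl (zpowers_le.mpr ha))
    refine commutator_le.mpr fun u hu x hx => ?_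
    rw [← h.sup_eq_top hB ha haB] at hx
    obtain ⟨b, hb, y, hy, rfl⟩ := Coprime.exists_mul_of_mem_sup
      ((zpowers_le.mpr ha).trans (h.le_normalizer_of_le hB.1)) hx
    have hby : Commute b y :=
      mem_centralizer_iff.mp (h.le_centralizer_of_le hB.1 ((zpowers_le.mpr ha) hy)) b hb
    have hbu : Commute b u := mem_centralizer_iff.mp hu.2 b hb
    rw [commutatorElement_mul_right_eq_mul_conj, commutatorElement_eq_one_iff_mul_comm.mpr hbu.symm.eq,
      one_mul, show b * ⁅u, y⁆ * b⁻¹ = ⁅u, y⁆ from ?_]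
    · exact commutator_mem_commutator hu hy
    · rw [commutatorElement_def, mul_inv_eq_iff_eq_mul]
      exact ((hbu.mul_right hby).mul_right hbu.inv_right).mul_right hby.inv_right
  have hXA : ∀ a ∈ A, a ∉ B → X ⊓ centralizer ({a} : Set G) ≤ centralizer (A : Set G) := by
    intro a ha haB x hx
    have h1 : x ∈ centralizer (B : Set G) := (hXU hx.1).2
    rw [← h.sup_eq_top hB ha haB]
    refine (le_centralizer_iff.mp (sup_le ?_ ?_) : zpowers x ≤ _) (mem_zpowers x)
    · exact le_centralizer_iff.mp (zpowers_le.mpr h1)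
    · exact le_centralizer_zpowers (zpowers_le.mpr hx.2)
  have hXS' : ∀ a ∈ A, a ∉ B → X ≤ centralizer ((S ⊓ centralizer ({a} : Set G) : Subgroup G) : Set G) := by
    intro a ha haB
    rw [hXa a ha haB]
    exact commutator_le_centralizer_of_commutator
      ((commutator_mono inf_le_left inf_le_left).trans hcomm)
      ((zpowers_le.mpr ha).trans (le_centralizer_iff.mp hZ₀))
      (le_centralizer_zpowers inf_le_right)
  have hne1 : ∀ a, a ∉ B → a ≠ 1 := fun a haB e => haB (e ▸ one_mem B)
  -- every `a ∉ B` has a colour `M` with `X ≤ O_2(M)`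
  have hcol : ∀ a ∈ A, a ∉ B → ∃ M, IsMax p A θ M ∧ θ a ≤ M ∧ X ≤ core 2 M := by
    intro a ha haB
    have ha1 := hne1 a haB
    have hθa := h.mem_theta ha ha1
    have hcS : core 2 (θ a) ≤ S ⊓ centralizer ({a} : Set G) :=
      le_inf (h.core_le_maximal hS hθa (thetaA_le ha ha1))
        ((core_le 2 _).trans (h.theta_le_centralizer ha ha1))
    obtain ⟨M, hM, hall⟩ := h.exists_max_normalized (h.mem_core hθa 2)
      (h.core_two_theta_ne_bot ha ha1)
    have haM : θ a ≤ M := hall _ hθa (le_normalizer_core 2 _)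
    have hXM : X ≤ M := hall X hX (((hXS' a ha haB).trans
      (centralizer_le (SetLike.coe_subset_coe.mpr hcS))).trans (centralizer_le_normalizer _))
    refine ⟨M, hM, haM, ?_⟩
    set O := core 2 M
    have hOS : O ≤ S := h.core_le_maximal hS hM.1 ((thetaA_le ha ha1).trans haM)
    have hOX : ⁅O, X⁆ ≤ Z₀ := by
      rw [commutator_comm]
      exact (commutator_mono (hXU.trans inf_le_left) hOS).trans hcomm
    set C := O ⊓ centralizer ({a} : Set G)
    have hXC : X ≤ centralizer (C : Set G) :=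
      (hXS' a ha haB).trans (centralizer_le (SetLike.coe_subset_coe.mpr (inf_le_inf_right _ hOS)))
    have hXv : ∀ v : ℕ, v.Prime → v ≠ 2 → X ≤ centralizer (core v M : Set G) := by
      intro v hv hv2
      have := Fact.mk hv
      rw [hXa a ha haB, ← h.comm_comm hU (zpowers_le.mpr ha), ← hXa a ha haB]
      exact commutator_le_centralizer (hXM.trans (le_normalizer_core v M))
        (le_centralizer_zpowers (h.core_odd_le_centralizer hv2 ha ha1 hM haM))
    have hOXC : ⁅O, X⁆ ≤ C := le_inf
      (le_normalizer_iff_commutator_le_left.mp (hXM.trans (le_normalizer_core 2 M)))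
      ((hOX.trans hZ₀).trans (centralizer_le (Set.singleton_subset_iff.mpr ha)))
    obtain ⟨R, hR, hmem⟩ := exists_stab_pgroup hM.1.1 (inf_le_left : C ≤ O)
    refine h.le_core_GF hM.1 hXM hX2 (family_le_normalizer hX) ha hR ?_ ?_
    · refine commutator_le.mpr fun x hx c hc => ?_
      rw [commutatorElement_def, show x * c * x⁻¹ * c⁻¹ = x * (c * x⁻¹ * c⁻¹) by group]
      have hX' : ∀ y ∈ X, ∃ k, y ^ 2 ^ k = 1 := fun y hy => by
        obtain ⟨k, hk⟩ := hX2 ⟨y, hy⟩
        exact ⟨k, congrArg Subtype.val hk⟩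
      have hcC : c ∈ normalizer (C : Set G) := inf_normalizer_le_normalizer_inf
        ⟨le_normalizer_core 2 M hc.1, le_normalizer hc.2⟩
      refine mul_mem (hmem x (hXM hx) (hX' x hx) (fun v hv hv2 => hXv v hv hv2 hx) (hXC hx)
        fun o ho => hOXC (commutator_mem_commutator ho hx)) (hmem _ ?_ ?_ ?_ ?_ ?_)
      · exact mul_mem (mul_mem hc.1 (inv_mem (hXM hx))) (inv_mem hc.1)
      · obtain ⟨k, hk⟩ := hX' x⁻¹ (inv_mem hx)
        exact ⟨k, by rw [conj_pow, hk, mul_one, mul_inv_cancel]⟩
      · exact fun v hv hv2 => (mem_normalizer_iff.mp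
          (mem_normalizer_centralizer (le_normalizer_core v M hc.1)) _).mp
            (inv_mem (hXv v hv hv2 hx))
      · exact (mem_normalizer_iff.mp (mem_normalizer_centralizer hcC) _).mp (inv_mem (hXC hx))
      · intro o ho
        have h1 : ⁅o, c * x⁻¹ * c⁻¹⁆ = c * ⁅c⁻¹ * o * c, x⁻¹⁆ * c⁻¹ := by
          simp only [commutatorElement_def]; group
        rw [h1]
        refine (mem_normalizer_iff.mp hcC _).mp (hOXC (commutator_mem_commutator ?_ (inv_mem hx)))
        have h2 := (mem_normalizer_iff.mp (le_normalizer_core 2 M (inv_mem hc.1)) o).mp ho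
        rwa [inv_inv] at h2
    · set X' := X ⊓ centralizer ({a} : Set G)
      have haX' : zpowers a ≤ centralizer (X' : Set G) := le_centralizer_zpowers inf_le_right
      have hOC : X' ≤ centralizer (O : Set G) := by
        have hOm := h.mem_core hM.1 2
        have hzA : zpowers a ≤ A := zpowers_le.mpr ha
        rw [le_centralizer_iff]
        refine (Coprime.commutator_sup_centralizer (hzA.trans (family_le_normalizer hOm))
          ((h.coprime hOm).coprime_dvd_left (card_dvd_of_le hzA))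
          (Or.inl (isSolvable_zpowers a))).ge.trans (sup_le ?_ ?_)
        · rw [← commutator_eq_bot_iff_le_centralizer]
          refine commutator_commutator_eq_bot_of_rotate ?_ ?_
          · rw [commutator_eq_bot_iff_le_centralizer.mpr haX', commutator_bot_left]
          · refine le_bot_iff.mp ((commutator_mono ((commutator_comm X' O).le.trans
              ((commutator_mono le_rfl inf_le_left).trans (hOX.trans hZ₀))) le_rfl).trans ?_)
            rw [le_bot_iff, commutator_eq_bot_iff_le_centralizer]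
            exact centralizer_le (SetLike.coe_subset_coe.mpr hzA)
        · rw [le_centralizer_iff, ← centralizer_singleton_eq]
          exact inf_le_left.trans hXC
      refine le_core_of_centralizes hM.1.1 (inf_le_left.trans hXM) (hX2.to_le inf_le_left)
        fun v hv => ?_
      by_cases hv2 : v = 2
      · exact hv2 ▸ hOC
      · exact inf_le_left.trans (hXv v hv hv2)
  -- `X ⊓ C(A)` is nontrivial and lies in all `O_2(θ a)`, `a ∉ B`
  set Y := X ⊓ centralizer (A : Set G)
  have hY1 : Y ≠ ⊥ := by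
    intro hY
    obtain ⟨a, ha, haB⟩ := h.exists_notMem hB
    have ha1 := hne1 a haB
    obtain ⟨M, hM, haM, hXO⟩ := hcol a ha haB
    refine hX1 (le_bot_iff.mp (le_trans (fun x hx => mem_Dcore.mpr fun f hf hf1 => ?_)
      (h.dcore_eq_bot 2 hB).le))
    refine h.le_core_GF (h.mem_theta (hB.1 hf) hf1) (hXθ f hf hf1) hX2 (family_le_normalizer hX) ha
      (core_isPGroup 2 M) ?_ ?_ hx
    · refine (commutator_mono hXO le_rfl).trans (le_normalizer_iff_commutator_le_left.mp ?_)
      exact ((inf_centralizer_le_theta (h.mem_theta (hB.1 hf) hf1) ha ha1).trans haM).trans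
        (le_normalizer_core 2 M)
    · exact ((le_inf inf_le_left (hXA a ha haB)).trans hY.le).trans bot_le
  set I := Z₁ ⊓ centralizer (A : Set G) ⊓
    ⨅ a : {a : G // a ∈ A ∧ a ∉ B}, core 2 (θ (a : G))
  have hYI : Y ≤ I := by
    refine le_inf (inf_le_inf_right _ (hXU.trans inf_le_left)) (le_iInf fun a => ?_)
    have ha1 := hne1 a a.2.2
    obtain ⟨M, hM, haM, hXO⟩ := hcol a a.2.1 a.2.2
    refine (le_inf (inf_le_left.trans hXO) ?_).trans (inf_core_le_core haM)
    exact (inf_le_inf_left _ (centralizer_le (Set.singleton_subset_iff.mpr a.2.1))).trans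
      (inf_centralizer_le_theta hX a.2.1 ha1)
  have hSI : S ≤ normalizer (I : Set G) := by
    refine (Coprime.commutator_sup_centralizer (family_le_normalizer hS.1) (h.coprime hS.1)
      (Or.inl (isSolvable_of_elab h.ea))).ge.trans (sup_le ?_ ?_)
    · refine le_trans ?_ (centralizer_le_normalizer _)
      rw [← commutator_eq_bot_iff_le_centralizer]
      refine commutator_commutator_eq_bot_of_rotate ?_ ?_
      · rw [commutator_eq_bot_iff_le_centralizer.mpr
          (le_centralizer_iff.mp (inf_le_left.trans inf_le_right)), commutator_bot_left]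
      · refine le_bot_iff.mp ((commutator_mono ((commutator_mono
          (inf_le_left.trans inf_le_left) le_rfl).trans (hcomm.trans hZ₀)) le_rfl).trans ?_)
        rw [le_bot_iff, commutator_eq_bot_iff_le_centralizer]
    · intro s hs
      have hsA : s ∈ normalizer (centralizer (A : Set G) : Set G) := le_normalizer hs.2
      have hsθ : s ∈ Cfsg.signalizerInf A θ := inf_le_thetaB hS.1 le_rfl hs
      rw [mem_normalizer_iff]
      intro x
      simp only [I, Subgroup.mem_inf, mem_iInf]
      refine and_congr (and_congr (mem_normalizer_iff.mp (hn (le_normalizer hs.1)) x)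
        (mem_normalizer_iff.mp hsA x)) (forall_congr' fun a => ?_)
      exact mem_normalizer_iff.mp
        (le_normalizer_core 2 _ (thetaA_le a.2.1 (hne1 a a.2.2) hsθ)) x
  obtain ⟨z, hzI, hz1, hzS⟩ : ∃ z ∈ I, z ≠ 1 ∧ z ∈ centralizer (S : Set G) := by
    have hIS : I ≤ S := (inf_le_left.trans inf_le_left).trans hZ₁S
    have : (I.subgroupOf S).Normal := (normal_subgroupOf_iff_le_normalizer hIS).mpr hSI
    have : Group.IsNilpotent ↥S := hS.2.1.isNilpotent
    have hne : I.subgroupOf S ≠ ⊥ := fun e => hY1 (le_bot_iff.mp (hYI.trans (by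
      rw [← map_subgroupOf_eq_of_le hIS, e, Subgroup.map_bot])))
    have := (nontrivial_iff_ne_bot _).mpr (Solvable.inf_center_ne_bot hne)
    obtain ⟨⟨z, hz⟩, hz1⟩ := exists_ne (1 : (I.subgroupOf S ⊓ center ↥S : Subgroup ↥S))
    exact ⟨z, hz.1, fun e => hz1 (Subtype.ext (Subtype.ext e)), mem_centralizer_iff.mpr fun s hs =>
      congrArg Subtype.val (mem_center_iff.mp hz.2 ⟨s, hs⟩)⟩
  have hzA : z ∈ centralizer (A : Set G) := hzI.1.2
  have hzS' : z ∈ S := hZ₁S hzI.1.1
  have hzθA : z ∈ Cfsg.signalizerInf A θ := inf_le_thetaB hS.1 le_rfl ⟨hzS', hzA⟩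
  have hzcore : ∀ a ∈ A, a ∉ B → z ∈ core 2 (θ a) := fun a ha haB =>
    Subgroup.mem_iInf.mp hzI.2 ⟨a, ha, haB⟩
  obtain ⟨g, hg, hg1, hzg⟩ : ∃ g ∈ B, g ≠ 1 ∧ z ∉ core 2 (θ g) := by
    by_contra! hall
    have h1 : z ∈ Dcore 2 θ B := mem_Dcore.mpr hall
    rw [h.dcore_eq_bot 2 hB, mem_bot] at h1
    exact hz1 h1
  have hgA := hB.1 hg
  have hθg := h.mem_theta hgA hg1
  set Zz := zpowers z
  have hZz2 : IsPGroup 2 Zz := hS.2.1.to_le (zpowers_le.mpr hzS')
  have hZzg : Zz ≤ θ g := zpowers_le.mpr (thetaA_le hgA hg1 hzθA)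
  obtain ⟨q, hq, hq2, hVz⟩ : ∃ q : ℕ, q.Prime ∧ q ≠ 2 ∧
      ¬ Zz ≤ centralizer (core q (θ g) : Set G) := by
    by_contra! hall
    refine hzg (le_core_of_centralizes hθg.1 hZzg hZz2 (fun v hv => ?_) (mem_zpowers z))
    by_cases hv2 : v = 2
    · subst hv2
      exact (zpowers_le.mpr hzS).trans (centralizer_le (SetLike.coe_subset_coe.mpr
        (h.core_le_maximal hS hθg (thetaA_le hgA hg1))))
    · exact hall v hv hv2
  have := Fact.mk hq
  set V := core q (θ g)
  have hV : V ∈ Cfsg.signalizerFamily p A θ := h.mem_core hθg q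
  have hzV : Zz ≤ normalizer (V : Set G) := hZzg.trans (le_normalizer_core q _)
  have hVL : ∀ L, Hyp p A L → L ≠ B → V ⊓ centralizer (L : Set G) ≤ centralizer ({z} : Set G) := by
    intro L hL hLB
    obtain ⟨a, haL, haB⟩ : ∃ a ∈ L, a ∉ B := by
      by_contra! hle
      exact hLB (eq_of_le_of_card_ge hle (by rw [hB.2, hL.2]))
    have ha : a ∈ A := hL.1 haL
    intro v hv
    rw [mem_centralizer_singleton_iff]
    refine commutatorElement_eq_one_iff_mul_comm.mp ?_
    have h1 : ⁅v, z⁆ ∈ core 2 (θ a) :=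
      le_normalizer_iff_commutator_le_right.mp (le_normalizer_core 2 _)
        (commutator_mem_commutator (thetaB_le haL (hne1 a haB) (inf_le_thetaB hV hL.1 hv))
          (hzcore a ha haB))
    have h2 : ⁅v, z⁆ ∈ V :=
      le_normalizer_iff_commutator_le_left.mp hzV (commutator_mem_commutator hv.1 (mem_zpowers z))
    exact (mem_bot.mp ((disjoint_iff_inf_le.mp (IsPGroup.disjoint_of_ne 2 q (Ne.symm hq2) _ _
      (core_isPGroup 2 (θ a)) (core_isPGroup q (θ g)))) ⟨h1, h2⟩))
  set V' := V ⊓ centralizer (B : Set G)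
  have hV'm := h.mem_inf_centralizer hV hB.1
  set W := ⁅V', Zz⁆
  have hW1 : W ≠ ⊥ := by
    intro e
    rw [commutator_eq_bot_iff_le_centralizer] at e
    refine hVz (le_centralizer_iff.mp (h.le_of_hyp_mem hV fun L hL => ?_))
    by_cases hLB : L = B
    · exact hLB ▸ e
    · rw [← centralizer_singleton_eq]; exact hVL L hL hLB
  have hzB : z ∈ normalizer (centralizer (B : Set G) : Set G) :=
    le_normalizer (centralizer_le (SetLike.coe_subset_coe.mpr hB.1) hzA)
  have hzV' : Zz ≤ normalizer (V' : Set G) := zpowers_le.mpr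
    (inf_normalizer_le_normalizer_inf ⟨hzV (mem_zpowers z), hzB⟩)
  have hW : W ∈ Cfsg.signalizerFamily p A θ := by
    refine mem_of_le hV'm (Coprime.commutator_le_of_le_normalizer hzV') fun a ha => ?_
    rw [mem_normalizer_iff_map_conj_eq, map_commutator,
      mem_normalizer_iff_map_conj_eq.mp (family_le_normalizer hV'm ha),
      mem_normalizer_iff_map_conj_eq.mp (centralizer_le_normalizer _
        (le_centralizer_iff.mp (zpowers_le.mpr hzA : Zz ≤ centralizer (A : Set G)) ha))]
  have hWV : W ≤ V := (Coprime.commutator_le_of_le_normalizer hzV').trans inf_le_left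
  have hWq : IsPGroup q W := (core_isPGroup q (θ g)).to_le hWV
  refine hW1 (le_bot_iff.mp (le_trans (fun x hx => mem_Dcore.mpr fun f hf hf1 => ?_)
    (h.dcore_eq_bot q hB).le))
  have hfA := hB.1 hf
  have hθf := h.mem_theta hfA hf1
  have hV'f : V' ≤ θ f := (inf_le_thetaB hV hB.1).trans (thetaB_le hf hf1)
  have hzf : z ∈ θ f := thetaA_le hfA hf1 hzθA
  have hWθ : W ≤ θ f := (Coprime.commutator_le_of_le_normalizer hzV').trans hV'f
  refine h.le_core_of_layers hθf hWθ hWq (fun s hs hsq hsp N L hNL hLK hN hL hcomm' hpow => ?_) hx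
  have := Fact.mk hs
  have hKN : θ f ≤ normalizer (N : Set G) := le_sup_left.trans hN
  have hKL : θ f ≤ normalizer (L : Set G) := le_sup_left.trans hL
  have hAL : A ≤ normalizer (L : Set G) := le_sup_right.trans hL
  have hAN : A ≤ normalizer (N : Set G) := le_sup_right.trans hN
  have hLN : L ≤ normalizer (N : Set G) := hLK.trans hKN
  have hZN : Zz ≤ normalizer (N : Set G) := zpowers_le.mpr (hKN hzf)
  have hV'N : V' ≤ normalizer (N : Set G) := hV'f.trans hKN
  have hWN : W ≤ normalizer (N : Set G) := hWθ.trans hKN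
  have hLmem : L ∈ Cfsg.signalizerFamily p A θ := mem_of_le hθf hLK hAL
  by_cases hs2 : s = 2
  · subst hs2
    refine commutator_commutator_le (sup_le (sup_le hV'N hZN) hLN) (hV'f.trans hKL) ?_
    obtain ⟨c, hc, P, hP⟩ := exists_sylow_map_eq_conj_inf h.ea h.card_le h.func hS hLmem
    have hcf : c ∈ θ f := thetaA_le hfA hf1 hc
    have hz' : zpowers (c * z * c⁻¹) ≤
        centralizer (((P : Subgroup L).map L.subtype : Subgroup G) : Set G) := by
      rw [hP, zpowers_le, mem_centralizer_iff]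
      rintro _ ⟨⟨y, hy, rfl⟩, -⟩
      simp only [MulEquiv.coe_toMonoidHom, MulAut.conj_apply]
      have := mem_centralizer_iff.mp hzS y hy
      calc c * y * c⁻¹ * (c * z * c⁻¹) = c * (y * z) * c⁻¹ := by group
        _ = c * (z * y) * c⁻¹ := by rw [this]
        _ = c * z * c⁻¹ * (c * y * c⁻¹) := by group
    have h1 := commutator_le_of_sylow hNL hLN hcomm' hpow
      (zpowers_le.mpr (mul_mem (mul_mem (hKN hcf) (hKN hzf)) (inv_mem (hKN hcf)))) P hz'
    have e1 : (zpowers z).map (MulAut.conj c).toMonoidHom = zpowers (c * z * c⁻¹) :=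
      MonoidHom.map_zpowers _ _
    have e2 : L.map (MulAut.conj c).toMonoidHom = L := mem_normalizer_iff_map_conj_eq.mp (hKL hcf)
    have e3 : N.map (MulAut.conj c).toMonoidHom = N := mem_normalizer_iff_map_conj_eq.mp (hKN hcf)
    rw [← e1, ← e2, ← map_commutator, ← e3] at h1
    exact (map_le_map_iff_of_injective (MulAut.conj c).injective).mp h1
  -- `s` odd
  have hzC : ∀ L', Hyp p A L' → L' ≠ B → L ⊓ centralizer (L' : Set G) ≤ modCentralizer N Zz := by
    intro L' hL' hL'B
    rw [le_modCentralizer_iff (inf_le_left.trans hLN) hZN]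
    obtain ⟨a, haL, haB⟩ : ∃ a ∈ L', a ∉ B := by
      by_contra! hle
      exact hL'B (eq_of_le_of_card_ge hle (by rw [hB.2, hL'.2]))
    have ha := hL'.1 haL
    refine le_layer_of_isPGroup (r := 2) hs2 ((core_isPGroup 2 (θ a)).to_le ?_) hpow ?_
    · exact (commutator_mono ((inf_le_thetaB hLmem hL'.1).trans (thetaB_le haL (hne1 a haB)))
        (zpowers_le.mpr (hzcore a ha haB))).trans
          (le_normalizer_iff_commutator_le_right.mp (le_normalizer_core 2 _))
    · exact (commutator_mono inf_le_left le_rfl).trans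
        (le_normalizer_iff_commutator_le_left.mp ((zpowers_le.mpr (hKL hzf))))
  have hYb : ∀ b ∈ B, b ≠ 1 → ⁅L, zpowers b⁆ ≤ modCentralizer N W := by
    intro b hb hb1
    have hbA := hB.1 hb
    have hbL : zpowers b ≤ normalizer (L : Set G) := (zpowers_le.mpr hbA).trans hAL
    have hYL : ⁅L, zpowers b⁆ ≤ L := Coprime.commutator_le_of_le_normalizer hbL
    have hYz : ⁅L, zpowers b⁆ ≤ modCentralizer N Zz := by
      refine h.commutator_le_of_hyp hLmem hbA fun L' hL' hbL' => ?_
      refine le_trans ?_ (hzC L' hL' fun e => hbL' (e ▸ hb))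
      exact Coprime.commutator_le_of_le_normalizer
        ((zpowers_le.mpr hbA).trans (family_le_normalizer (h.mem_inf_centralizer hLmem hL'.1)))
    rw [le_modCentralizer_iff (hYL.trans hLN) hWN, commutator_comm]
    refine commutator_commutator_le (sup_le (sup_le hV'N hZN) (hYL.trans hLN)) ?_ ?_
    · intro v hv
      rw [mem_normalizer_iff_map_conj_eq, map_commutator,
        mem_normalizer_iff_map_conj_eq.mp (hKL (hV'f hv)),
        mem_normalizer_iff_map_conj_eq.mp (centralizer_le_normalizer _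
          (centralizer_le (SetLike.coe_subset_coe.mpr (zpowers_le.mpr hb)) hv.2))]
    · rw [commutator_comm]
      exact (le_modCentralizer_iff (hYL.trans hLN) hZN).mp hYz
  rw [commutator_comm, ← le_modCentralizer_iff hLN hWN]
  refine (Coprime.commutator_sup_centralizer (hB.1.trans hAL)
    ((h.coprime hLmem).coprime_dvd_left (card_dvd_of_le hB.1))
    (Or.inl (Components.isSolvable_mono (isSolvable_of_elab h.ea) hB.1))).ge.trans (sup_le ?_ ?_)
  · refine commutator_le.mpr fun y hy b hb => ?_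
    by_cases hb1 : b = 1
    · rw [hb1, commutatorElement_one_right]; exact one_mem _
    · exact hYb b hb hb1 (commutator_mem_commutator hy (mem_zpowers b))
  · rw [le_modCentralizer_iff (inf_le_left.trans hLN) hWN]
    refine le_layer_of_isPGroup (r := q) hsq ((core_isPGroup q (θ g)).to_le ?_) hpow ?_
    · exact (commutator_mono ((inf_le_thetaB hLmem hB.1).trans (thetaB_le hg hg1)) hWV).trans
        (le_normalizer_iff_commutator_le_right.mp (le_normalizer_core q _))
    · exact (commutator_mono inf_le_left le_rfl).trans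
        (le_normalizer_iff_commutator_le_left.mp (hWθ.trans hKL))

end MinCE

end CfsgLib.SolvSig
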